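import Cfsg.Agent.H5.MtD
import Cfsg.Agent.H7.SelfNormCent
import Cfsg.Agent.H3.DegZass
import Cfsg.Agent.H4.M12R6

/-!
# Groups whose order divides that of `M₁₂`, V: families
-/

set_option autoImplicit false
set_option linter.unusedSectionVars false

namespace Cfsg.Agent.H5.MT

open Cfsg Cfsg.Agent.H3 Subgroup Finset
open Cfsg.Agent.H9.FT (radI radI_mul radI_mul' dvd_of_mem_radI)
open scoped ComplexConjugate Classical

variable {G : Type*} [Group G] [Finite G]

theorem cent_zp (y : G) : centralizer (zpowers y : Set G) = centralizer {y} := by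
  rw [zpowers_eq_closure, centralizer_closure]

theorem cent_pow {y : G} {k : ℕ} (h : k.Coprime (orderOf y)) :
    centralizer {y ^ k} = centralizer ({y} : Set G) := by
  rw [← cent_zp, ← cent_zp, le_antisymm (zpowers_le_of_mem (npow_mem_zpowers y k))
    (zpowers_le_of_mem (mem_zpowers_pow_iff.2 h))]

theorem sylow_cyc {p : ℕ} (hp : p.Prime) {y : G} (hy : orderOf y = p) (h : ¬ p ^ 2 ∣ Nat.card G) :
    ∃ e n, e ∣ p - 1 ∧ n % p = 1 ∧ Nat.card (normalizer (zpowers y : Set G)) =
      e * Nat.card (centralizer {y}) ∧ n * (e * Nat.card (centralizer {y})) = Nat.card G ∧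
      (IsSimpleGroup G → ¬ IsMulCommutative G → e ≠ 1) := by
  have := Fact.mk hp
  have h1 : Nat.card (zpowers y) = p := by rw [Nat.card_zpowers, hy]
  have h2 : IsPGroup p (zpowers y) := IsPGroup.of_card (n := 1) (by rw [h1, pow_one])
  have h3 : ¬ p ∣ (zpowers y).index := fun e => h (by
    rw [← (zpowers y).card_mul_index, h1, sq]
    exact mul_dvd_mul_left _ e)
  have h4 := H4.Nse.relIndex_mul_card (H4.M12R.cent_le_norm y)
  refine ⟨_, (normalizer (zpowers y : Set G)).index, ?_, ?_, h4.symm, by rw [h4, index_mul_card],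
    fun _ hn e => H7.not_normalizer_le_centralizer hn (h2.toSylow h3) (fun e => ?_) ?_⟩
  · have := card_dvd_of_injective _ (QuotientGroup.kerLift_injective (zpowers y).normalizerMonoidHom)
    rwa [normalizerMonoidHom_ker, ← index, ← relIndex, IsCyclic.card_mulAut, h1,
      Nat.totient_prime hp, cent_zp] at this
  · have := H4.Nse.relIndex_modEq hp h2 (H := ⊤) (by rwa [relIndex_top_right]) le_top
    rwa [relIndex_top_right, Nat.ModEq, Nat.mod_eq_of_lt hp.one_lt] at this
  · rw [show zpowers y = ⊥ from e, card_bot] at h1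
    exact hp.one_lt.ne h1
  · exact (relIndex_eq_one.1 e).trans (cent_zp y).ge

/-- The conditions on a trace. -/
def okT (p K N : ℕ) (d : ℕ) (a : ℤ) : Bool :=
  (a + d) % p == 0 && (Nat.gcd K d != 1 || a == 0) && (N / d % p == 0 || a == 0)

/-- Integrality of a class multiplication coefficient. -/
def zok (z : ℤ) (c : ℕ) : Bool := decide (0 ≤ z) && z % c == 0

theorem zok_of {z : ℤ} {a b : ℕ} (h : ∃ m : ℕ, z = a * b * m) : zok z (a * b) = true := by
  obtain ⟨m, rfl⟩ := h
  simp [zok]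
  positivity

/-- A tuple as a function. -/
def tv (P : ℕ × ℕ × ℕ × ℕ × ℕ) : Fin 5 → ℕ := ![P.1, P.2.1, P.2.2.1, P.2.2.2.1, P.2.2.2.2]

theorem tv_eq (D : Fin 5 → ℕ) : tv (D 0, D 1, D 2, D 3, D 4) = D :=
  funext fun j => by fin_cases j <;> rfl

theorem defz {χ : IrrCharacter G} {d p : ℕ} (hp : p.Prime) (hd : χ.1 1 = d)
    (h : ¬ Nat.card G / d % p = 0) {g : G} (hg : p ∣ orderOf g) : χ.1 g = 0 :=
  irr_eq_zero_of_defect_zero hp χ.2 hd (fun k hk e => h (by
    have : 0 < d := Nat.pos_of_mul_pos_right (hk ▸ Nat.card_pos)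
    rw [hk, Nat.mul_div_cancel_left _ this]
    exact Nat.mod_eq_zero_of_dvd e)) hg

namespace Blk

variable {x : G} {X : Fin 5 → IrrCharacter G} {ψ : IrrCharacter G} {D : Fin 5 → ℕ}
  (h : Blk x X ψ D)
include h

omit h in
theorem fam1 {g : G} (hg : IsPReg 11 g) (h1 : g ≠ 1) {a : Fin 5 → ℤ} (ha : ∀ j, (X j).1 g = a j) :
    Fam X 1 (fun _ => g) (Nat.card (centralizer {g})) a :=
  ⟨fun _ _ => hg, fun _ _ => h1, fun _ _ => rfl, fun j => by simp [ha]⟩

theorem famT {g : G} {p K : ℕ} (hp : p.Prime) (hg : orderOf g = p) (h11 : p.Coprime 11)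
    (hK : K * Nat.card (centralizer {g}) = Nat.card G) :
    ∃ a, Fam X (p - 1) (fun i => g ^ (i + 1)) (Nat.card (centralizer {g})) a ∧
      ∀ j, okT p K (Nat.card G) (D j) (a j) = true := by
  have := h.simple
  choose m hm using fun j => G22.exists_sum_pow (ch (X j)) hg
  have h1 : ∀ i < p - 1, (i + 1).Coprime (orderOf g) := fun i hi =>
    hg ▸ (Nat.coprime_of_lt_prime (by omega) (by omega) hp).symm
  have h2 : ∀ i < p - 1, orderOf (g ^ (i + 1)) = p := fun i hi =>
    ((h1 i hi).symm.orderOf_pow).trans hg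
  have h3 : ∀ i < p - 1, g ^ (i + 1) ≠ 1 := fun i hi e => by
    have := h2 i hi
    rw [e, orderOf_one] at this
    exact hp.one_lt.ne this
  have h4 : ∀ j, ∑ i ∈ range (p - 1), (X j).1 (g ^ (i + 1)) = (p * m j - D j : ℤ) := fun j => by
    have := hm j
    rw [← Nat.sub_add_cancel hp.one_le, sum_range_succ', pow_zero, h.deg,
      Nat.sub_add_cancel hp.one_le] at this
    push_cast
    linear_combination this
  have h5 : ∀ j, (∀ i < p - 1, (X j).1 (g ^ (i + 1)) = 0) → (p * m j - D j : ℤ) = 0 := fun j e => by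
    have := h4 j
    rw [sum_eq_zero fun i hi => e i (mem_range.1 hi)] at this
    exact_mod_cast this.symm
  refine ⟨fun j => p * m j - D j, ⟨fun i hi => by rwa [IsPReg, h2 i hi], h3,
    fun i hi => by rw [cent_pow (h1 i hi)], h4⟩, fun j => ?_⟩
  simp only [okT, sub_add_cancel, Int.mul_emod_right, beq_self_eq_true, Bool.true_and,
    Bool.and_eq_true, Bool.or_eq_true, bne_iff_ne, beq_iff_eq, ← imp_iff_not_or]
  refine ⟨fun e => h5 j fun i hi => ?_, or_iff_not_imp_left.2 fun e => h5 j fun i hi =>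
    defz hp (h.deg j) e (h2 i hi).symm.dvd⟩
  refine (irr_eq_zero_or_norm_eq (X j).2 (h.deg j) _ ?_).resolve_right fun e' => ?_
  · have := (centralizer {g}).index_mul_card
    rwa [cent_pow (h1 i hi), Nat.eq_of_mul_eq_mul_right Nat.card_pos (this.trans hK.symm)]
  · have := norm_lt h.nc (h.ne_o j) (h3 i hi) (h.deg j)
    rw [e', h.deg] at this
    simp at this

theorem famI {t : G} (ht : orderOf t = 2) :
    ∃ a, Fam X 1 (fun _ => t) (Nat.card (centralizer {t})) a ∧ (∀ j, (X j).1 t = a j) ∧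
      ∀ j, (((D j : ℤ) - a j) % 4 == 0) = true := by
  have := h.simple
  have := Fintype.ofFinite G
  obtain ⟨h1, h2⟩ := H4.M12R.sq_of_ord ht
  choose a ha using fun j => L0.SC3.exists_int_invol (ch (X j)) h1
  exact ⟨a, fam1 (by rw [IsPReg, ht]; norm_num) h2 ha, ha, fun j => by
    simpa using Int.emod_eq_zero_of_dvd (four_dvd h.nc (ch (X j)) h1 (h.deg j) (ha j))⟩

theorem X_ne (j : Fin 5) : (X j).1 x ≠ 0 := (h.mem _).2 (by fin_cases j <;> simp)

theorem rat {j : Fin 5} {t : G} {v : ℤ} (ht : IsPReg 11 t) (hv : (X j).1 t = v)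
    (hj : ∀ i, D i = D j → (X i).1 t = v → i = j) {g : G} (hg : IsPReg 11 g) :
    ∃ n : ℤ, (X j).1 g = n := by
  refine H9.FT.int_of_fixed (char_isIntegral (ch _) g) fun u => ?_
  have h1 : (gal u (X j)).1 1 = D j := by rw [gal_one, h.deg]
  have h2 : (gal u (X j)).1 t = v := by rw [gal_apply, hv, map_intCast]
  have key : ∀ i, (∀ g, IsPReg 11 g → (gal u (X j)).1 g = (X i).1 g) → u ((X j).1 g) = (X j).1 g :=
    fun i e => by
      obtain rfl := hj i (by exact_mod_cast (h.deg i).symm.trans ((e 1 (IsPReg.one 11)).symm.trans h1))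
        ((e t ht).symm.trans h2)
      exact e g hg
  have h3 := (h.mem (gal u (X j))).1 ((map_ne_zero u).2 (h.X_ne j))
  simp only [List.mem_cons, List.not_mem_nil, or_false] at h3
  rcases h3 with e | e | e | e | e | e | e
  · have := h.simple
    have := one_lt_deg h.nc (h.ne_o j) (h.deg j)
    rw [e, o_apply] at h1
    exact absurd (by exact_mod_cast h1) this.ne
  · exact key 0 (e ▸ h.reg)
  all_goals exact key _ fun g _ => by rw [e]

end Blk

end Cfsg.Agent.H5.MT
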