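import Cfsg.Agent.H5.MtS
import Cfsg.Agent.H5.PGroupBasic

/-!
# Groups whose order divides that of `M₁₂`, VII: simple groups of order `95040`
-/

set_option autoImplicit false
set_option linter.unusedSectionVars false

namespace Cfsg.Agent.H5.MT

open Cfsg Cfsg.Agent.H3 Subgroup Finset H4.Nse H4.M12R
open Cfsg.Agent.H9.FT (radI radI_mul radI_mul' dvd_of_mem_radI)
open scoped ComplexConjugate Classical

variable {G : Type*} [Group G] [Finite G]

theorem exists_conj_pow {p : ℕ} (hp : p.Prime) {y a : G} (hy : orderOf y = p) (ha : orderOf a = p)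
    (h : ¬ p ^ 2 ∣ Nat.card G) : ∃ c k, k.Coprime (orderOf y) ∧ c * a * c⁻¹ = y ^ k := by
  have := Fact.mk hp
  obtain ⟨c, -, hc⟩ := exists_conj_le (p := p) (H := ⊤) (T := zpowers y) (R := zpowers a) le_top
    (IsPGroup.of_card (n := 1) (by rw [Nat.card_zpowers, ha, pow_one])) fun e => h (by
      rw [relIndex_top_right] at e
      rw [← (zpowers y).card_mul_index, Nat.card_zpowers, hy, sq]
      exact mul_dvd_mul_left _ e)
  obtain ⟨k, -, hk⟩ := exists_pow hy (hc a (mem_zpowers a))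
  refine ⟨c, k, hy ▸ ((Nat.Prime.coprime_iff_not_dvd hp).2 fun e => ?_).symm, hk⟩
  rw [(pow_eq_one_iff' hy k).2 (Nat.mod_eq_zero_of_dvd e), conj_eq_one_iff] at hk
  rw [hk, orderOf_one] at ha
  exact hp.one_lt.ne ha

theorem card_cent_eq {p : ℕ} (hp : p.Prime) {y a : G} (hy : orderOf y = p) (ha : orderOf a = p)
    (h : ¬ p ^ 2 ∣ Nat.card G) : Nat.card (centralizer {a}) = Nat.card (centralizer {y}) := by
  obtain ⟨c, k, h1, h2⟩ := exists_conj_pow hp hy ha h
  rw [← card_centralizer_conj c a, h2, cent_pow h1]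

theorem ord_dvd_cent {g a : G} (h : Commute a g) : orderOf a ∣ Nat.card (centralizer {g}) :=
  orderOf_dvd_natCard _ (mem_centralizer_singleton_iff.2 h)

theorem exists_comm {g : G} {p : ℕ} (hp : p.Prime) (h : p ∣ Nat.card (centralizer {g})) :
    ∃ a, orderOf a = p ∧ Commute a g :=
  let ⟨a, h1, h2⟩ := exists_mem_orderOf hp h
  ⟨a, h2, mem_centralizer_singleton_iff.1 h1⟩

theorem reg_of {g : G} {n : ℕ} (h : g ^ n = 1) (hn : n.Coprime 11) : IsPReg 11 g :=
  hn.coprime_dvd_left (orderOf_dvd_of_pow_eq_one h)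

theorem ne_of_ord {g : G} {n : ℕ} (h : orderOf g = n) (hn : n ≠ 1) : g ≠ 1 := fun e => by
  rw [e, orderOf_one] at h
  exact hn h.symm

theorem pw {y : G} {p : ℕ} (hy : orderOf y = p) : y ^ p ^ 1 = 1 := by
  rw [pow_one, ← hy, pow_orderOf_eq_one]

theorem Z12 (a b : Fin 5 → ℤ) : Zf 8640 (tv P12) 1 1 a b = 8640 - 540 * a 0 * b 0 + 192 * a 1 * b 1 -
    160 * a 2 * b 2 - 72 * a 3 * b 3 + 60 * a 4 * b 4 := by
  rw [Zf, Fin.sum_univ_five]
  change 8640 * 1 * 1 + (-1 * 540 * _ * _ + 1 * 192 * _ * _ + -1 * 160 * _ * _ + -1 * 72 * _ * _ +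
    1 * 60 * _ * _) = _
  ring

theorem exists_central {n : ℕ} (h : 2 ^ (n + 1) ∣ Nat.card G) :
    ∃ z : G, orderOf z = 2 ∧ 2 ^ (n + 1) ∣ Nat.card (centralizer {z}) := by
  obtain ⟨S, -, hS⟩ := exists_le_card Nat.prime_two (H := ⊤) (card_top (G := G) ▸ h)
  obtain ⟨z, -, h1, h2, h3⟩ := L0.SC3.exists_invol_center (IsPGroup.of_card hS) fun e => by
    rw [e, card_bot] at hS
    exact absurd hS (Nat.one_lt_two_pow (by omega)).ne
  exact ⟨z, ord_two h2 h1, hS ▸ card_dvd_of_le fun q hq =>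
    mem_centralizer_singleton_iff.2 (h3 q hq).symm⟩

namespace E5

variable {x : G} (h : E5 x)
include h

theorem nsq : ¬ 11 ^ 2 ∣ Nat.card G := fun e => absurd (e.trans h.dvd) (by norm_num)

theorem nsq5 : ¬ 5 ^ 2 ∣ Nat.card G := fun e => absurd (e.trans h.dvd) (by norm_num)

theorem not11 {g : G} (hg : IsPReg 11 g) (h1 : g ≠ 1) : Nat.card (centralizer {g}) % 11 ≠ 0 :=
  fun e => by
  obtain ⟨a, ha, hc⟩ := exists_comm (p := 11) (by norm_num) (Nat.dvd_of_mod_eq_zero e)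
  have h2 := ord_dvd_cent hc.symm
  rw [card_cent_eq (by norm_num) h.ord ha h.nsq, card_cent h.ord h.cent] at h2
  exact h1 (orderOf_eq_one_iff.1 (hg.eq_one_of_dvd h2))

theorem cD (H : Subgroup G) : Nat.card H ∈ H4.M12R.D := mem_D (H.card_subgroup_dvd_card.trans h.dvd)

theorem le (g : G) (hg : IsPReg 11 g) (h1 : g ≠ 1) : Nat.card (centralizer {g}) ≤ 8640 :=
  (by decide +kernel : ∀ n ∈ H4.M12R.D, n % 11 ≠ 0 → n ≤ 8640) _ (h.cD _) (h.not11 hg h1)

end E5

theorem hKK {n : ℕ} (hN : Nat.card G = n) (H : Subgroup G) : n / Nat.card H * Nat.card H = Nat.card G :=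
  hN ▸ Nat.div_mul_cancel H.card_subgroup_dvd_card

namespace Blk

variable {x : G} {X : Fin 5 → IrrCharacter G} {ψ : IrrCharacter G} {D : Fin 5 → ℕ}
  (h : Blk x X ψ D) (hN : Nat.card G = 95040)
include h hN

theorem inv12 {t : G} (ht : orderOf t = 2) : ∃ a, Fam X 1 (fun _ => t) (Nat.card (centralizer {t})) a ∧
    (∀ j, (X j).1 t = a j) ∧ (64 ∣ Nat.card (centralizer {t}) → (D 0, D 1, D 2, D 3, D 4) ∈ P11) ∧
    (10 ∣ Nat.card (centralizer {t}) → (D 0, D 1, D 2, D 3, D 4) = (6, 12, 32, 32, 45) ∨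
      (D 0, D 1, D 2, D 3, D 4) = P12) ∧ ((D 0, D 1, D 2, D 3, D 4) = P12 →
      (Nat.card (centralizer {t}), a 0, a 1, a 2, a 3, a 4) ∈ T12) := by
  obtain ⟨a, f, h1, h2⟩ := h.famI ht
  have hr := f.reg 0 one_pos
  have h3 := f.ne 0 one_pos
  have h4 := S1 _ h.pat _ (h.cD (centralizer {t}))
    (Nat.mod_eq_zero_of_dvd (ht ▸ ord_dvd_cent (Commute.refl t))) (h.not11 hr h3)
  rw [tv_eq] at h4
  have h5 := h.search f h4 one_ne_zero (hKK hN _) (by have := h.le t hr h3; omega) h2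
  have h6 := h.z0 f f (M := 8640) hN (fun _ _ => (sq_of_ord ht).1) fun _ _ => (sq_of_ord ht).1
  simp only [h6, bne_self_eq_false, Bool.false_or, Bool.and_eq_true, Bool.or_eq_true, bne_iff_ne,
    beq_iff_eq, List.contains_iff_mem, or_assoc] at h5
  exact ⟨a, f, h1, fun e => h5.1.1.resolve_left (not_not.2 (Nat.mod_eq_zero_of_dvd e)),
    fun e => h5.1.2.resolve_left (not_not.2 (Nat.mod_eq_zero_of_dvd e)),
    fun e => h5.2.resolve_left (not_not.2 e)⟩

theorem syl5 {y : G} (hy : orderOf y = 5) : ∃ e n, (e = 2 ∨ e = 4) ∧ n % 5 = 1 ∧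
    Nat.card (normalizer (zpowers y : Set G)) = e * Nat.card (centralizer {y}) ∧
    n * (e * Nat.card (centralizer {y})) = 95040 := by
  obtain ⟨e, n, h1, h2, h3, h4, h5⟩ := sylow_cyc Nat.prime_five hy h.nsq5
  have := h5 h.simple h.nc
  have h6 := Nat.le_of_dvd (by norm_num) h1
  exact ⟨e, n, by interval_cases e <;> omega, h2, h3, hN ▸ h4⟩

theorem pat12 : (D 0, D 1, D 2, D 3, D 4) = P12 := by
  obtain ⟨u, hu, h1⟩ := exists_central (G := G) (n := 5) (by rw [hN]; norm_num)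
  obtain ⟨-, -, -, h2, -⟩ := h.inv12 hN hu
  replace h2 := h2 h1
  obtain ⟨y, -, hy⟩ := exists_mem_orderOf Nat.prime_five (H := (⊤ : Subgroup G)) (by rw [card_top, hN]; norm_num)
  by_cases h3 : 2 ∣ Nat.card (centralizer {y})
  · obtain ⟨t, ht, hc⟩ := exists_comm Nat.prime_two h3
    obtain ⟨-, -, -, -, h4, -⟩ := h.inv12 hN ht
    refine (h4 (Nat.Coprime.mul_dvd_of_dvd_of_dvd (m := 2) (n := 5) (by norm_num)
      (ht ▸ ord_dvd_cent (Commute.refl t)) (hy ▸ ord_dvd_cent hc.symm))).resolve_left fun e => ?_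
    rw [e] at h2
    exact absurd h2 (by decide)
  obtain ⟨e, n, h4, h5, -, h6⟩ := h.syl5 hN hy
  obtain ⟨a, f, h7⟩ := h.famT Nat.prime_five hy (by norm_num) (hKK hN _)
  have h8 : Nat.card (centralizer {y}) ∈ [45, 135] := by
    refine (by decide +kernel : ∀ C ∈ H4.M12R.D, ¬ 2 ∣ C → C % 11 ≠ 0 → 5 ∣ C →
      95040 / (2 * C) % 5 = 1 ∨ 95040 / (4 * C) % 5 = 1 → C ∈ [45, 135]) _ (h.cD _) h3
      (h.not11 (reg_of (hy ▸ pow_orderOf_eq_one y) (by norm_num)) (ne_of_ord hy (by norm_num)))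
      (hy ▸ ord_dvd_cent (Commute.refl y)) ?_
    rcases h4 with rfl | rfl <;> rw [← h6, Nat.mul_div_cancel _ (by have := Nat.card_pos (α := centralizer {y}); omega)]
    exacts [Or.inl h5, Or.inr h5]
  have h9 := S2 _ h2 _ h8
  rw [tv_eq] at h9
  rw [hN] at h7
  have h10 := h.search f h9 (by norm_num) (hKK hN _) (by simp at h8; omega) h7
  simp only [zok_of (h.zz f f (M := 8640) hN), Bool.not_true, Bool.false_or, List.contains_iff_mem]
    at h10
  by_contra h11
  obtain ⟨Q, hQ, hQ'⟩ := exists_le_card (n := 2) Nat.prime_three (H := centralizer {y})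
    (by simp at h8; omega)
  obtain ⟨b, hb, hb'⟩ := exists_mem_orderOf Nat.prime_three (H := Q) (by omega)
  obtain ⟨a', f', h12⟩ := h.famT Nat.prime_three hb' (by norm_num) (hKK hN _)
  have hr := reg_of (hb' ▸ pow_orderOf_eq_one b) (by norm_num)
  have hb1 := ne_of_ord hb' (by norm_num)
  have h13 := S3 (D 0, D 1, D 2, D 3, D 4) (by simpa [h11] using h10) _ (h.cD (centralizer {b})) (Nat.mod_eq_zero_of_dvd
    (Nat.Coprime.mul_dvd_of_dvd_of_dvd (m := 3 ^ 2) (n := 5) (by norm_num)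
      (hQ' ▸ card_dvd_of_le fun q hq => mem_centralizer_singleton_iff.2 (comm_of_nine hQ' hq hb))
      (hy ▸ ord_dvd_cent (mem_centralizer_singleton_iff.1 (hQ hb)).symm))) (h.not11 hr hb1)
  rw [tv_eq] at h13
  rw [hN] at h12
  have h14 := h.search f' h13 (by norm_num) (hKK hN _) (by have := h.le b hr hb1; omega) h12
  simp [zok_of (h.zz f' f' (M := 8640) hN)] at h14

theorem D12 : D = tv P12 := by rw [← tv_eq D, h.pat12 hN]

theorem int12 {g : G} (hg : IsPReg 11 g) : ∃ a : Fin 5 → ℤ, ∀ j, (X j).1 g = a j := by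
  choose a ha using fun j => h.rat (IsPReg.one 11) (v := D j) (by simpa using h.deg j)
    (fun i e _ => (by decide : ∀ i j, tv P12 i = tv P12 j → i = j) i j (h.D12 hN ▸ e)) hg
  exact ⟨a, ha⟩

theorem ok12 {g : G} {p k : ℕ} (hp : p.Prime) (hg : g ^ p ^ k = 1) (h1 : g ≠ 1) {a : Fin 5 → ℤ}
    (ha : ∀ j, (X j).1 g = a j) (j : Fin 5) : okR p 95040 (D j) (a j) = true := by
  simp only [okR, Bool.and_eq_true, Bool.or_eq_true, beq_iff_eq]
  refine ⟨Int.emod_eq_zero_of_dvd (cong_int hp (ch (X j)) hg (Commute.one_right g)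
    (by rw [mul_one, ha]) (by simpa using h.deg j)), or_iff_not_imp_left.2 fun e => ?_⟩
  obtain ⟨i, -, hi⟩ := (Nat.dvd_prime_pow hp).1 (orderOf_dvd_of_pow_eq_one hg)
  have := defz hp (h.deg j) (hN ▸ e) (g := g)
    (hi ▸ dvd_pow_self p fun e => h1 (orderOf_eq_one_iff.1 (by rw [hi, e, pow_zero])))
  rw [ha] at this
  exact_mod_cast this

theorem five {y : G} (hy : orderOf y = 5) :
    ∃ a, Fam X 1 (fun _ => y) (Nat.card (centralizer {y})) a ∧ (∀ j, (X j).1 y = a j) ∧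
      (a 0, a 1, a 2, a 3, a 4) = (1, 0, -1, 0, -1) ∧
      Nat.card (normalizer (zpowers y : Set G)) = 40 ∧
      (Nat.card (centralizer {y}) = 10 ∨ Nat.card (centralizer {y}) = 20) := by
  have h0 := pw hy
  have hr := reg_of h0 (by norm_num)
  have h1 := ne_of_ord hy (by norm_num)
  obtain ⟨a, ha⟩ := h.int12 hN hr
  have f := fam1 hr h1 ha
  have h2 := S4 _ (h.cD (centralizer {y}))
    (Nat.mod_eq_zero_of_dvd (hy ▸ ord_dvd_cent (Commute.refl y))) (h.not11 hr h1)
  rw [← h.D12 hN] at h2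
  have h3 := h.search f h2 one_ne_zero (hKK hN _) (by have := h.le y hr h1; omega)
    (h.ok12 hN Nat.prime_five h0 h1 ha)
  simp only [zok_of (h.zz f f (M := 8640) hN), Bool.not_true, Bool.false_or, Bool.or_eq_true,
    Bool.and_eq_true, beq_iff_eq] at h3
  obtain ⟨e, n, h4, h5, h6, h7⟩ := h.syl5 hN hy
  rcases h3 with (h3 | h3) | ⟨h3, h8⟩
  · rcases h4 with rfl | rfl <;> rw [h3] at h7 <;> omega
  · rcases h4 with rfl | rfl <;> rw [h3] at h7 <;> omega
  · refine ⟨a, f, ha, h8, ?_, h3⟩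
    rcases h4 with rfl | rfl <;> rcases h3 with h3 | h3 <;> rw [h3] at h7 h6 <;> omega

theorem exists_t {y : G} (hy : orderOf y = 5) : ∃ t, orderOf t = 2 ∧ Commute t y ∧
    normalizer (zpowers y : Set G) ≤ centralizer {t} := by
  obtain ⟨-, -, -, -, h1, h2⟩ := h.five hN hy
  obtain ⟨S, hS, hS'⟩ := exists_le_card (n := 3) Nat.prime_two (H := normalizer (zpowers y : Set G))
    (by rw [h1]; norm_num)
  have : ((centralizer {y}).subgroupOf S).Normal := ⟨fun c hc s => by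
    rw [mem_subgroupOf, ← cent_zp] at hc ⊢
    exact conj_mem_cent (hS s.2) hc⟩
  obtain ⟨t, h3, h4, h5, h6⟩ := exists_mem_center_of_normal (IsPGroup.of_card hS')
    ((centralizer {y}).subgroupOf S) fun e => by
      have h3 := relIndex_mul_card_inf (centralizer {y}) S
      have h4 := relIndex_mul_card (cent_le_norm y)
      have h5 := relIndex_le_of_le_right (H := centralizer {y}) hS (by
        intro e; rw [e] at h4; omega)
      rw [← card_subgroupOf, e, card_bot] at h3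
      rcases h2 with h2 | h2 <;> rw [h2] at h4 <;> omega
  have h7 : Commute (t : G) y := mem_centralizer_singleton_iff.1 h3
  refine ⟨t, (orderOf_coe t).trans (orderOf_eq_prime h5 h4), h7,
    (eq_of_le_of_card_ge inf_le_left (h1 ▸ Nat.le_of_dvd Nat.card_pos
      (Nat.Coprime.mul_dvd_of_dvd_of_dvd (m := 2 ^ 3) (n := 5) (by norm_num)
      (hS' ▸ card_dvd_of_le (le_inf hS fun s hs => mem_centralizer_singleton_iff.2
        (congrArg Subtype.val (mem_center_iff.1 h6 ⟨s, hs⟩))))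
      (hy ▸ orderOf_dvd_natCard _ ⟨le_normalizer (mem_zpowers y),
        mem_centralizer_singleton_iff.2 h7.symm⟩)))).ge.trans inf_le_right⟩

theorem exists_GT : ∃ y t : G, GT y t ∧ Nat.card (centralizer {t}) = 240 := by
  obtain ⟨y, -, hy⟩ := exists_mem_orderOf Nat.prime_five (H := (⊤ : Subgroup G))
    (by rw [card_top, hN]; norm_num)
  obtain ⟨t, ht, hc, hle⟩ := h.exists_t hN hy
  obtain ⟨a, f, ha, h1, h2, h3⟩ := h.five hN hy
  obtain ⟨b, g, hb, -, -, h4⟩ := h.inv12 hN ht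
  replace h4 := h4 (h.pat12 hN)
  have h5 := relIndex_modEq Nat.prime_five (P := zpowers y) (H := centralizer {t})
    (IsPGroup.of_card (n := 1) (by rw [Nat.card_zpowers, hy, pow_one])) (fun e => by
      have h4 := relIndex_mul_card (le_normalizer.trans hle)
      rw [Nat.card_zpowers, hy] at h4
      exact h.nsq5 (((Nat.mul_dvd_mul_right e 5).trans h4.dvd).trans (card_subgroup_dvd_card _)))
    (le_normalizer.trans hle)
  have h6 := relIndex_mul_card hle
  rw [h2] at h6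
  rw [Nat.ModEq] at h5
  obtain ⟨m, hm⟩ := h.zz f g (M := 8640) hN
  simp only [Prod.mk.injEq] at h1
  simp only [T12, List.mem_cons, Prod.mk.injEq, List.not_mem_nil, or_false] at h4
  simp only [h.D12 hN, Z12, h1] at hm
  have h7 : Nat.card (centralizer {y}) = 10 := h3.resolve_right fun e => by
    rcases h4 with h4 | h4 | h4 | h4 | h4 | h4 <;> simp only [h4, e] at hm h6 <;> omega
  have h8 : centralizer {y} ≤ centralizer {t} :=
    (cent_le_norm y).trans hle
  refine ⟨y, t, ⟨hy, ht, hc, fun s h9 h10 => ?_, h7, h2⟩, ?_⟩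
  · by_contra h11
    rw [not_or] at h11
    have := H4.M12R.four_dvd (K := centralizer {y}) (mem_centralizer_singleton_iff.2 h9)
      (mem_centralizer_singleton_iff.2 hc) h10 (sq_of_ord ht).1
      (mem_centralizer_singleton_iff.1 (h8 (mem_centralizer_singleton_iff.2 h9))) h11.1
      (sq_of_ord ht).2 h11.2
    omega
  have h9 : orderOf (t * y) = 10 := by
    rw [hc.orderOf_mul_eq_mul_orderOf_of_coprime (by rw [ht, hy]; norm_num), ht, hy]
  have hr := reg_of (h9 ▸ pow_orderOf_eq_one _) (by norm_num)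
  obtain ⟨c, hc'⟩ := h.int12 hN hr
  have h10 := h.nrm (fam1 hr (ne_of_ord h9 (by norm_num)) hc')
  have h11 := card_le_of_le (H := centralizer {t * y}) (K := centralizer {(t * y) ^ 6}) fun g hg =>
    mem_centralizer_singleton_iff.2 (Commute.pow_right (mem_centralizer_singleton_iff.1 hg) 6)
  rw [hc.mul_pow, (pow_eq_iff ht 6 0).2 rfl, (pow_eq_iff hy 6 1).2 rfl, pow_zero, one_mul, pow_one,
    h7] at h11
  have h12 := cong_int (k := 1) Nat.prime_two (ch (X 0)) (pw ht) hc (hc' 0) (ha 0)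
  have h13 := cong_int (k := 1) Nat.prime_five (ch (X 0)) (pw hy) hc.symm (hc.eq ▸ hc' 0) (hb 0)
  have h14 := single_le_sum (f := fun j => c j ^ 2) (fun j _ => sq_nonneg _) (mem_univ 0)
  have h15 : -3 < c 0 ∧ c 0 < 3 := abs_lt.1 (abs_lt_of_sq_lt_sq (by omega) (by norm_num))
  omega

end Blk

end Cfsg.Agent.H5.MT
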