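import Cfsg.Agent.H5.MwB

/-! The principal block for inertial index two. -/

set_option autoImplicit false

namespace Cfsg.Agent.H5.MW

open Cfsg Cfsg.Agent.H3 Cfsg.Agent.H2.D1 Finset Subgroup

variable {G : Type*} [Group G] [Finite G] {p : ℕ} [hp : Fact p.Prime] {x : G}

theorem idx (h : Ctx p x) :
    (centralizer ({x} : Set G)).index = Nat.card (Sylow p G) * Nat.card h.H := by
  refine Nat.eq_of_mul_eq_mul_right (Nat.card_pos (α := centralizer ({x} : Set G))) ?_
  rw [index_mul_card, ← h.card_eq, h.card_C]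
  ring

theorem e2_sound [NS G] (h : Ctx p x) (he : Nat.card h.H = 2) (h7 : 7 ≤ p) {n : ℕ}
    (hn : n ∣ 244823040) (hG : Nat.card G ∣ n) :
    e2 n p (Nat.card (Sylow p G)) (Nat.card h.K) = true := by
  classical
  have p0 : (p : ℂ) ≠ 0 := by exact_mod_cast hp.out.ne_zero
  obtain ⟨B⟩ := h.exists_blk
  have s1 := h.card_eq
  have s2 := idx h
  have inv := fun t (ht : t * t = 1) => h.inv_formula ht
  have c0 := Nat.card_pos (α := h.K)
  have cK := fun (e : 2 ∣ Nat.card h.K) => exists_prime_orderOf_dvd_card' (G := h.K) 2 e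
  obtain ⟨lo, hlo⟩ : ∃ lo, (bif Nat.card h.K == 1 then 0 else 2) = lo := ⟨_, rfl⟩
  rw [hlo] at B
  rw [he] at B s1 s2
  generalize Nat.card (Sylow p G) = N at s1 s2 ⊢
  generalize Nat.card h.K = c at s1 inv c0 cK hlo ⊢
  obtain ⟨θ, θ1, t, b, ε, m', t2, tp, hε, hR, e1, e2', e3, l1, l2, l3, hs⟩ :=
    B.enum.resolve_left fun e => by omega
  have hR' : B.R = insert θ B.N := by ext; rw [hR, mem_insert]
  have mθ : θ ∈ B.R := (hR _).2 (Or.inl rfl)
  have lin := fun g (hg : IsPReg p g) => B.lin h hg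
  have n0 : 0 ≤ ∑ χ ∈ B.N, (B.ent χ).1 ^ 2 := sum_nonneg fun _ _ => sq_nonneg _
  have n1 : (#B.N : ℤ) ≤ ∑ χ ∈ B.N, (B.ent χ).1 ^ 2 := by
    rw [card_eq_sum_ones, Nat.cast_sum]
    exact sum_le_sum fun χ hχ => by
      have := sq_pos_of_ne_zero (B.opt χ hχ).2.1
      push_cast
      omega
  have t3 : (3 : ℤ) ≤ t := by omega
  have n2 : B.N ≠ ∅ := fun e => by
    have := lin 1 (IsPReg.one p)
    rw [hR', e, insert_empty, sum_singleton, B.deg θ mθ] at this
    have h1 : (B.ent θ).1 * (B.ent θ).2.1 = 1 := by exact_mod_cast this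
    have h2 := two_le_deg (B.mem θ mθ).2 (B.deg θ mθ)
    have := Int.eq_one_or_neg_one_of_mul_eq_one' h1
    omega
  have n3 := card_pos.2 (nonempty_iff_ne_empty.2 n2)
  obtain rfl : b = 0 := by
    by_contra e
    have := sq_pos_of_ne_zero e
    have := sq_nonneg (b + ε)
    push_cast at hs
    nlinarith
  have ε2 : ε ^ 2 = 1 := by rcases hε with rfl | rfl <;> norm_num
  obtain ⟨χ, hχ⟩ := card_eq_one.1 (show #B.N = 1 by push_cast at hs; nlinarith)
  have mN : χ ∈ B.N := by rw [hχ]; exact mem_singleton_self χ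
  have mχ : χ ∈ B.R := (hR _).2 (Or.inr mN)
  obtain ⟨o1, -, m, o2, o3, o4⟩ := B.opt χ mN
  have hsum : ∀ {M : Type} [AddCommMonoid M] (f : IrrCharacter G → M),
      ∑ ψ ∈ B.R, f ψ = f θ + f χ := fun f => by rw [hR', sum_insert θ1, hχ, sum_singleton]
  have val := B.val χ mχ o1
  have dχ := B.deg χ mχ
  have dθ := B.deg θ mθ
  have col := fun g (hg : IsPReg p g) => B.col_le hg
  have sum' := fun F hF => B.sum' F hF x (mem_zpowers x) h.ne_one
  obtain ⟨b1, b2⟩ := B.mem χ mχ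
  obtain ⟨b3, b4⟩ := B.mem θ mθ
  simp only [hsum, hχ, sum_singleton, e1, e2', o1, mul_zero, add_zero, zero_add, ε2] at lin col sum' hs e3 l3
  generalize (B.ent χ).1 = a at *
  generalize (B.ent χ).2.1 = d at *
  generalize (B.ent θ).2.1 = d' at *
  have d2 := two_le_deg b2 dχ
  have d2' := two_le_deg b4 dθ
  have a2 : a ^ 2 = 1 := by push_cast at hs; nlinarith
  have ha : a = 1 ∨ a = -1 := sq_eq_one_iff.1 a2
  have l0 : ε * d' + a * d = 1 := by
    have := lin 1 (IsPReg.one p)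
    rw [dχ, dθ] at this
    exact_mod_cast this
  obtain ⟨rfl, dd⟩ : ε = -a ∧ (d' : ℤ) = d - a := by
    rcases ha with rfl | rfl <;> rcases hε with rfl | rfl <;> omega
  have tn : (d - a).toNat = d' := by omega
  have key : ∀ s : G, orderOf s = 2 → ∃ (I k : ℕ) (v : ℤ), θ.1 s = v ∧ χ.1 s = (v + a : ℤ) ∧ 1 ≤ k ∧
      2 * k < d' ∧ v = d' - 4 * k ∧ 1 ≤ I ∧ (∃ w, IsConj s w ∧ w * x * w⁻¹ = x⁻¹) ∧
      (2 * N * c ^ 2 * (d' - v) ^ 2 : ℤ) =
        d * d' * (Nat.card (centralizer ({s} : Set G)) * I) ^ 2 := fun s hs => by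
    have s2 := sq_eq_one_of_orderOf hs
    have sr := h.isPReg s2
    obtain ⟨k, k1, k2, k3⟩ := inv_val b4 dθ s2 (by rintro rfl; simp at hs)
    obtain ⟨I, -, I2, I3⟩ := inv s s2
    have a2' : (a : ℂ) ^ 2 = 1 := by exact_mod_cast a2
    have k4 : χ.1 s = (d' - 4 * k + a : ℤ) := by
      have := lin s sr
      rw [k3] at this
      push_cast at this ⊢
      linear_combination a * this - (χ.1 s - (d' - 4 * k)) * a2'
    have h1 := I3 x (mem_zpowers x) h.ne_one
    rw [sum' _ (fun χ ψ e => by simp only [e s sr, e 1 (IsPReg.one p)]), k3, k4, dχ, dθ, ← s1] at h1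
    have z1 : (d : ℂ) ≠ 0 := by exact_mod_cast (by omega : d ≠ 0)
    have z2 : (d' : ℂ) ≠ 0 := by exact_mod_cast (by omega : d' ≠ 0)
    have z3 : (d : ℂ) = d' + a := by exact_mod_cast (by omega : (d : ℤ) = d' + a)
    have h2 : (2 * N * c ^ 2 * (d' - (d' - 4 * k)) ^ 2 : ℤ) =
        d * d' * (Nat.card (centralizer ({s} : Set G)) * I) ^ 2 := by
      refine Int.cast_injective (α := ℂ) (mul_left_cancel₀ p0 ?_)
      simp only [Pi.one_apply] at h1
      push_cast at h1 ⊢
      rw [mul_left_comm (p : ℂ) (d * d' : ℂ), ← h1]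
      field_simp
      rw [z3]
      linear_combination (N * c ^ 2 * (2 * d' * (d' - 4 * k) - (d' - 4 * k) ^ 2 + a * d') : ℂ) * a2'
    have I0 : I ≠ 0 := by
      rintro rfl
      have N0 : 0 < N := Nat.pos_of_ne_zero (by rintro rfl; have := Nat.card_pos (α := G); omega)
      have : (0 : ℤ) < 2 * N * c ^ 2 * (d' - (d' - 4 * k)) ^ 2 := by
        rw [sub_sub_cancel]; positivity
      rw [h2] at this
      simp at this
    refine ⟨I, k, _, k3, k4, k1, k2, rfl, Nat.pos_of_ne_zero I0, ?_, h2⟩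
    by_contra! e
    exact I0 (I2.2 e)
  have A : e2a n p N lo d a = true := by
    obtain ⟨s, hs⟩ := exists_prime_orderOf_dvd_card' (G := G) 2 (s1 ▸ (dvd_mul_left _ _).mul_right _)
    obtain ⟨I, k, v, -, -, k1, k2, k3, -, ⟨w, w1, w2⟩, k4⟩ := key s hs
    have hw : orderOf w = 2 := by
      obtain ⟨g, rfl⟩ := isConj_iff.1 w1
      rwa [show g * s * g⁻¹ = MulAut.conj g s from rfl, MulEquiv.orderOf_eq]
    obtain ⟨j, -, -, j3⟩ := inv_val b2 dχ (sq_eq_one_of_orderOf hw) (by rintro rfl; simp at hw)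
    have j4 := abs_le_mu h χ w2 j3
    have j5 : (h.mu χ 0 : ℤ) = m := by
      refine Int.cast_injective (α := ℂ) (mul_left_cancel₀ p0 ?_)
      have o2' : (d : ℂ) = p * m + (p - 1) * a := by exact_mod_cast o2
      rw [Int.cast_natCast, ← h.mu_spec, sum_zmod, sum_congr rfl fun u _ => by
        rw [val _ (pow_mem (mem_zpowers x) _) (h.pw_ne u)]]
      simp [dχ, o2', Nat.totient_prime hp.out, Nat.cast_pred hp.out.pos]
    have j6 := MT.dvd_of_central χ {()} (fun _ => x) (fun _ _ => s2) dχ (a := -a)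
      (by simpa using val x (mem_zpowers x) h.ne_one)
    have j7 : d ∣ 2 * N := by
      have := Int.natAbs_dvd_natAbs.2 j6
      rcases ha with rfl | rfl <;> simpa [Int.natAbs_mul, mul_comm] using this
    have j8 : IsSquare (2 * N * d * d') := by
      rw [← Rat.isSquare_natCast_iff]
      refine ⟨d * d' * (Nat.card (centralizer ({s} : Set G)) * I) / (c * (4 * k)), ?_⟩
      rw [k3, sub_sub_cancel] at k4
      have k5 : (2 * N * c ^ 2 * (4 * k) ^ 2 : ℚ) =
          d * d' * (Nat.card (centralizer ({s} : Set G)) * I) ^ 2 := by exact_mod_cast k4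
      have : (c : ℚ) ≠ 0 := by positivity
      have : (k : ℚ) ≠ 0 := by positivity
      field_simp
      push_cast
      linear_combination (d * d' : ℚ) * k5
    simp only [e2a, tn, okm_sound o2 o3 o4 o4, okm_sound (b := -a) (a := 0) (s := -2 * a)
      (e3.trans (by push_cast; ring)) l1 l2 l3, Nat.mod_eq_zero_of_dvd j7, sqm_sound j8,
      Nat.mod_eq_zero_of_dvd ((irr_degree_dvd_card θ.2 dθ).trans hG), beq_self_eq_true,
      Bool.true_and, List.any_eq_true, beq_iff_eq]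
    refine ⟨d - 4 * j, mem_irange ?_, by omega⟩
    rw [o2, add_sub_cancel_right, Int.mul_ediv_cancel_left _ (by exact_mod_cast hp.out.ne_zero), ← o2]
    rw [abs_le] at j4
    omega
  have C : e2c p N c d a = true := by
    simp only [e2c, Bool.or_eq_true, beq_iff_eq, List.any_eq_true, Bool.and_eq_true,
      decide_eq_true_eq, tn]
    refine or_iff_not_imp_left.2 fun e => ?_
    obtain ⟨s, hs⟩ := cK (by omega)
    rw [← orderOf_coe] at hs
    obtain ⟨I, k, v, k0, k0', k1, k2, k3, I1, -, k4⟩ := key s hs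
    have f1 := four_p h b3 (sq_eq_one_of_orderOf hs) s.2 k0
    rw [dg_of dθ, dd] at f1
    have f2 := col s (h.mem_K.1 s.2).2
    rw [k0, k0', Complex.norm_intCast, Complex.norm_intCast, sq_abs, sq_abs] at f2
    have f3 : (1 + (v + a) ^ 2 + t * v ^ 2 : ℤ) ≤ Nat.card (centralizer ({(s : G)} : Set G)) := by
      have : ((1 + (v + a) ^ 2 + t * v ^ 2 : ℤ) : ℝ) ≤ Nat.card (centralizer ({(s : G)} : Set G)) := by
        push_cast at f2 ⊢
        linarith
      exact_mod_cast this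
    refine ⟨v, mem_irange (by omega), Int.emod_eq_zero_of_dvd f1, ?_⟩
    rw [← dd, k4, show (p - 1) / 2 = t by omega, mul_assoc, mul_comm]
    gcongr
    exact f3.trans (le_mul_of_one_le_right (by positivity) (by exact_mod_cast I1))
  simp only [e2, hlo, List.any_eq_true, Bool.or_eq_true, Bool.and_eq_true]
  refine ⟨d, mem_dg' hn ((irr_degree_dvd_card χ.2 dχ).trans hG) d2 ?_, ?_⟩
  · rw [← sq, ← dg_of dχ]
    exact (dg_sq_le χ).trans (Nat.le_of_dvd (Nat.pos_of_dvd_of_pos hn (by norm_num)) hG)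
  · rcases ha with rfl | rfl
    exacts [Or.inl ⟨A, C⟩, Or.inr ⟨A, C⟩]

end Cfsg.Agent.H5.MW
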