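import Cfsg.Agent.H5.MwD
import Cfsg.Agent.H5.MwF
import Cfsg.Agent.H2.D1Sq

/-! Simple groups whose order divides that of a Mathieu group. -/

set_option autoImplicit false

namespace Cfsg.Agent.H5.MW

open Cfsg Cfsg.Agent.H3 Cfsg.Agent.H2.D1 Finset Subgroup

variable {G : Type*} [Group G] [Finite G] {p r : ℕ} [hp : Fact p.Prime] [hr : Fact r.Prime]
  {x y : G}

theorem e2b_of {n p N c : ℕ} (h : e2 n p N c = true) :
    e2b n p N (bif c == 1 then 0 else 2) = true := by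
  simp only [e2, e2b, List.any_eq_true, Bool.or_eq_true, Bool.and_eq_true] at h ⊢
  exact h.imp fun _ h => ⟨h.1, h.2.imp And.left And.left⟩

theorem exists_ctx (h2 : p ≠ 2) (hd : p ∣ Nat.card G) (hn : ¬ p ^ 2 ∣ Nat.card G) :
    ∃ x : G, Ctx p x := (exists_prime_orderOf_dvd_card' p hd).imp fun _ h => ⟨h2, h, hn⟩

theorem syl_mod : Nat.card (Sylow p G) % p = 1 :=
  Eq.trans (card_sylow_modEq_one p G) (Nat.mod_eq_of_lt hp.out.one_lt)

theorem syl_ne [NS G] (h : Ctx p x) : Nat.card (Sylow p G) ≠ 1 := fun e => by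
  refine Ctx.normalizer_ne_top (P := zpowers x) (by simpa using h.ne_one) (fun e' => ?_)
    (eq_top_of_card_eq _ ?_)
  · obtain ⟨a, b, hab⟩ := NS.nc (G := G)
    obtain ⟨i, rfl⟩ := e' ▸ mem_top a
    obtain ⟨j, rfl⟩ := e' ▸ mem_top b
    exact hab (Commute.zpow_zpow_self x i j).eq
  · rw [h.card_N, h.card_C, ← h.card_eq, e]
    ring

theorem e_dvd (h : Ctx p x) : Nat.card h.H ∣ p - 1 := ⟨h.H.index, by have := h.card_H_mul; omega⟩

def pp (d : ℕ) : Bool := d != 1 && [2, 3, 5, 7, 11, 23].all fun a => [2, 3, 5, 7, 11, 23].all fun b =>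
  d % a != 0 || (d % b != 0 || a == b)

theorem pp_of {d : ℕ} (h : IsPrimePow d) : pp d = true := by
  obtain ⟨q, k, hq, -, e⟩ := (isPrimePow_nat_iff d).1 h
  have hL : ∀ a ∈ [2, 3, 5, 7, 11, 23], d % a = 0 → a = q := fun a ha e' =>
    (Nat.prime_dvd_prime_iff_eq (by
      simp only [List.mem_cons, List.not_mem_nil, or_false] at ha
      rcases ha with rfl | rfl | rfl | rfl | rfl | rfl <;> norm_num) hq).1
      (Nat.Prime.dvd_of_dvd_pow (by
        simp only [List.mem_cons, List.not_mem_nil, or_false] at ha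
        rcases ha with rfl | rfl | rfl | rfl | rfl | rfl <;> norm_num) (e ▸ Nat.dvd_of_mod_eq_zero e'))
  simp only [pp, Bool.and_eq_true, bne_iff_ne, List.all_eq_true, Bool.or_eq_true, beq_iff_eq]
  refine ⟨h.ne_one, fun a ha b hb => ?_⟩
  by_contra! c
  exact c.2.2 ((hL a ha c.1).trans (hL b hb c.2.1).symm)

theorem pp5 : (dv 244823040).all (fun d => d % 5 != 1 || (d % 16 == 0 || (d % 11 == 0 || !pp d)))
    = true := by decide +kernel

theorem pp11 : (dv 483840).all (fun d => d % 11 != 1 || !pp d) = true := by decide +kernel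

theorem cent5 (h : Ctx 11 x) (hG : Nat.card G ∣ 244823040) (he : 5 ∣ Nat.card h.H)
    (hc : ¬ 16 ∣ Nat.card h.K) : ∃ y, ∃ h' : Ctx 5 y, h.K ≤ h'.K ∧
      Nat.card h.H * Nat.card h.K ∣ 5 * Nat.card h'.K := by
  refine cent_K h (by norm_num) he (fun e => by have := e.trans hG; omega) fun d h1 h2 h3 => ?_
  have := List.all_eq_true.1 pp5 d (mem_dv dvd_rfl (h2.trans ((card_subgroup_dvd_card _).trans hG)))
  simp only [h3, pp_of h1, bne_self_eq_false, Bool.false_or, Bool.or_eq_true, beq_iff_eq,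
    Bool.not_true, Bool.false_eq_true, or_false] at this
  rcases this with e | e
  · exact hc ((Nat.dvd_of_mod_eq_zero e).trans h2)
  · exact (Nat.Prime.coprime_iff_not_dvd (by norm_num)).1 h.cop_K.symm
      ((Nat.dvd_of_mod_eq_zero e).trans h2)

theorem big_sound [NS G] (h : Ctx p x) (h' : Ctx r y) (hpr : p ≠ r) (hK : ¬ r ∣ Nat.card h.K)
    {n : ℕ} (hn : n ∣ 244823040) (hG : Nat.card G ∣ n) (hc : Nat.card h.K ≠ 1) (h1 : h.K ≤ h'.K)
    (h2 : Nat.card h.H * Nat.card h.K ∣ r * Nat.card h'.K) {N e e' m : ℕ}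
    (hN : Nat.card (Sylow p G) = N) (he : Nat.card h.H = e) (he' : Nat.card h'.H = e')
    (hm : m = 2 * (p * r)) : srch (side p e 2 (N * e) (dg' n)) e r e' 2 (p * N)
      (fun i => decide (m ≤ i.1)) (fun _ => true) = true := by
  obtain ⟨a, ha, a1⟩ := h.K.bot_or_exists_ne_one.resolve_left fun e' => hc (by simp [e'])
  have hc' : Nat.card h'.K ≠ 1 := fun e => a1 (mem_bot.1 (eq_bot_of_card_eq _ e ▸ h1 ha))
  refine srch_sound h h' hpr hK hn hG he he' (by rw [beq_eq_false_iff_ne.2 hc]; rfl)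
    (by rw [beq_eq_false_iff_ne.2 hc']; rfl) (by rw [idx h, hN, he]) ?_ (fun χ hχ => ?_)
    fun _ _ => rfl
  · obtain ⟨j, hj⟩ := h2
    refine ⟨j, Nat.eq_of_mul_eq_mul_right (Nat.mul_pos (Nat.card_pos (α := h.H))
      (Nat.card_pos (α := h.K))) ?_⟩
    have := (centralizer ({y} : Set G)).index_mul_card
    rw [h'.card_C, hj, ← h.card_eq, hN] at this
    linarith
  · obtain ⟨⟨b1, b2, b3⟩, -⟩ := mem_II.1 hχ
    exact decide_eq_true (hm ▸ low h h' hpr b2 b3 b1 ha (h1 ha) a1)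

theorem not_dvd_K' (h : Ctx p x) (h' : Ctx r y) (hpr : p ≠ r) (hK : ¬ r ∣ Nat.card h.K) :
    ¬ p ∣ Nat.card h'.K := fun e => hK (h'.ord ▸ h.dvd_K (by
  rw [IsPReg, h'.ord]; exact (Nat.coprime_primes hr.out hp.out).2 hpr.symm)
  (h'.card_C ▸ e.mul_left r))

theorem c23_sound [NS G] (h : Ctx 23 x) (hG : Nat.card G ∣ 244823040) (hc : Nat.card h.K = 1)
    {N e : ℕ} (hN : Nat.card (Sylow 23 G) = N) (he : Nat.card h.H = e) (h2 : e = 11 ∨ e = 22) :
    c23 N e = true := by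
  have s1 := h.card_eq
  rw [hN, he, hc, mul_one] at s1
  have n11 : ¬ 11 ^ 2 ∣ Nat.card G := fun e => by have := e.trans hG; omega
  obtain ⟨y, h', hb⟩ : ∃ y : G, ∃ h' : Ctx 11 y, e = 11 ∨
      ∃ b, orderOf b = 2 ∧ b * x * b⁻¹ = x⁻¹ ∧ b ∈ h'.K ∧ e = 22 := by
    rcases h2 with rfl | rfl
    · obtain ⟨y, h'⟩ := exists_ctx (G := G) (p := 11) (by norm_num) (s1 ▸ dvd_mul_left _ _) n11
      exact ⟨y, h', Or.inl rfl⟩
    · obtain ⟨g, g1, g2, g3⟩ := h.exists_inv (by omega) hc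
      rw [he] at g1 g2 g3
      have h' : Ctx 11 (g ^ 2) := ⟨by norm_num, by rw [orderOf_pow, g1]; rfl, n11⟩
      exact ⟨_, h', Or.inr ⟨_, g2, g3, h'.mem_K.2 ⟨Commute.pow_pow_self g _ _, by
        rw [IsPReg, g2]; norm_num⟩, rfl⟩⟩
  have s2 := h'.card_eq
  have hK : ¬ 11 ∣ Nat.card h.K := by omega
  have e1 := e_dvd h'
  have e2 := h'.two_le_e
  have e3 := not_dvd_K' h h' (by norm_num) hK
  have e4 := syl_mod (p := 11) (G := G)
  have e5 := fun e => e2_sound h' e (by norm_num) dvd_rfl hG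
  have e6 := idx h'
  obtain ⟨N', hN'⟩ : ∃ N', Nat.card (Sylow 11 G) = N' := ⟨_, rfl⟩
  obtain ⟨e', he'⟩ : ∃ e', Nat.card h'.H = e' := ⟨_, rfl⟩
  obtain ⟨c', hc'⟩ : ∃ c', Nat.card h'.K = c' := ⟨_, rfl⟩
  rw [hN'] at s2 e4 e5 e6
  rw [he'] at s2 e1 e2 e5 e6
  rw [hc'] at s2 e3 e5
  have s3 : 23 * N * e = 11 * N' * e' * c' := by linarith
  have s4 : 23 * N * e / (11 * N' * e') = c' := by
    rw [s3, Nat.mul_div_cancel_left _ (Nat.mul_pos (by omega) (by omega))]
  have s5 : 23 * N * e / 11 = N' * (e' * c') := by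
    rw [s3, mul_assoc, mul_assoc, Nat.mul_div_cancel_left _ (by norm_num)]
  simp only [c23, List.any_eq_true, Bool.and_eq_true, beq_iff_eq]
  refine ⟨N', mem_dv (s5 ▸ Dvd.dvd.trans ⟨11, by linarith⟩ hG) (s5 ▸ dvd_mul_right _ _), e4, e', ?_,
    by rw [s3, Nat.mul_mod_right], ?_⟩
  · have := Nat.le_of_dvd (by norm_num) e1
    interval_cases e' <;> simp at e1 ⊢
  simp only [s4, Bool.or_eq_true, bne_iff_ne, beq_iff_eq]
  refine ⟨by omega, hb.imp id ?_, or_iff_not_imp_left.2 fun e => e5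
      (not_not.1 e), srch_sound h h' (by norm_num) hK dvd_rfl hG he he' (Nat.zero_le _) (hc' ▸ le_rfl)
      (by rw [idx h, hN, he]) (by rw [e6]) (fun χ hχ => ?_) fun l hl => ?_⟩
  · rintro ⟨b, b1, -, b2, -⟩
    have := orderOf_dvd_natCard _ b2
    rw [b1, hc'] at this
    omega
  · rcases hb with rfl | ⟨b, b1, b2, b3, rfl⟩
    · rfl
    refine Bool.or_eq_true_iff.2 (Or.inr (f44_sound h h' (eq_top_of_card_eq _ (by
      rw [he, Nat.card_eq_fintype_card, ZMod.card_units])) (sq_eq_one_of_orderOf b1) b2 b3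
      (fun e5 e6 => ?_) hχ))
    simp only [Bool.and_eq_true, beq_iff_eq, bne_iff_ne] at e5
    obtain ⟨z, h'', z1, -⟩ := cent5 h' hG (by omega) (by omega)
    have := orderOf_dvd_natCard _ (mem_centralizer_singleton_iff.2 (h''.mem_K.1 (z1 b3)).1.eq)
    rw [h''.ord] at this
    refine h''.nsq ?_
    rw [← (centralizer {b}).index_mul_card, sq]
    exact Nat.mul_dvd_mul e6 this
  · by_cases e : c' % 7 = 0
    · exact Bool.or_eq_true_iff.2 (Or.inr (ex7_sound h h' (by norm_num) (by omega) hl))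
    · simp [e]

theorem ev23 : (dv 967680).all (fun N => N % 23 != 1 || (N == 1 || N % 2 == 0)) = true := by
  decide +kernel

theorem tri23 [NS G] (h : Ctx 23 x) (hG : Nat.card G ∣ 244823040) :
    Nat.card h.K = 1 ∧ (Nat.card (Sylow 23 G), Nat.card h.H) ∈
      [(24, 11), (990, 2), (13824, 11), (40320, 11), (967680, 11)] := by
  have s1 := h.card_eq
  have e1 := e_dvd h
  have e2 := h.two_le_e
  have e3 := syl_ne h
  have e4 := syl_mod (p := 23) (G := G)
  have e5 := fun e => e2b_of (e2_sound h e (by norm_num) dvd_rfl hG)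
  have n11 : ¬ 11 ^ 2 ∣ Nat.card G := fun e => by have := e.trans hG; omega
  obtain ⟨N, hN⟩ : ∃ N', Nat.card (Sylow 23 G) = N' := ⟨_, rfl⟩
  obtain ⟨e, he⟩ : ∃ e', Nat.card h.H = e' := ⟨_, rfl⟩
  obtain ⟨c, hc⟩ : ∃ c', Nat.card h.K = c' := ⟨_, rfl⟩
  rw [hN] at s1 e3 e4 e5 ⊢
  rw [he] at s1 e1 e2 e5 ⊢
  rw [hc] at s1 e5 ⊢
  have hG' := s1 ▸ hG
  obtain rfl | h2 : e = 2 ∨ (e = 11 ∨ e = 22) := by
    have := Nat.le_of_dvd (by norm_num) e1
    interval_cases e <;> simp at e1 ⊢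
  · have := List.all_eq_true.1 chk23a N (mem_dv (by norm_num) (Nat.dvd_of_mul_dvd_mul_right
      (by norm_num : 0 < 23) (((dvd_mul_right _ _).mul_right _).trans hG')))
    replace e5 := e5 rfl
    by_cases c1 : c = 1
    · subst c1
      simp_all
    · rw [beq_eq_false_iff_ne.2 c1] at e5
      simp_all
  have d1 : N * c ∣ 967680 := Nat.dvd_of_mul_dvd_mul_right (by norm_num : 0 < 253)
    (Dvd.dvd.trans (by rcases h2 with rfl | rfl; exacts [⟨1, by ring⟩, ⟨2, by ring⟩]) hG')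
  have d2 := mem_dv (by norm_num) ((dvd_mul_right _ _).trans d1)
  by_cases d3 : N = 967680
  · subst d3
    have c0 : 0 < c := hc ▸ Nat.card_pos
    have := Nat.le_of_dvd (by norm_num) hG'
    rcases h2 with rfl | rfl
    · exact ⟨by omega, by simp⟩
    · omega
  by_cases c1 : c = 1
  · have := List.all_eq_true.1 chk23c N d2
    have k := c23_sound h hG (hc.trans c1) hN he h2
    refine ⟨c1, ?_⟩
    rcases h2 with rfl | rfl <;> simp_all
  exfalso
  have d4 := List.all_eq_true.1 ev23 N d2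
  simp only [e4, bne_self_eq_false, Bool.false_or, Bool.or_eq_true, beq_iff_eq, e3, false_or] at d4
  have r1 : 11 ∣ Nat.card h.H := by omega
  obtain ⟨y, h', y1, y2⟩ := cent_K h (r := 11) (by norm_num) r1 n11 fun d h1 h2 h3 => by
    have := List.all_eq_true.1 pp11 d (mem_dv (by norm_num) (Nat.dvd_of_mul_dvd_mul_left two_pos
      ((Nat.mul_dvd_mul (Nat.dvd_of_mod_eq_zero d4) (hc ▸ h2)).trans d1)))
    simp [h3, pp_of h1] at this
  have k := big_sound h h' (by norm_num) (not_dvd_K h r1 n11) dvd_rfl hG (hc ▸ c1) y1 y2 hN he rfl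
    (m := 506) rfl
  have := List.all_eq_true.1 chk23b N d2
  simp only [e4, bne_self_eq_false, Bool.false_or, Bool.or_eq_true, beq_iff_eq, e3, false_or, d3,
    List.all_eq_true] at this
  have := this e (by simpa using h2) (Nat.card h'.H) (by
    have e1 := e_dvd h'
    have e2 := h'.two_le_e
    have := Nat.le_of_dvd (by norm_num) e1
    generalize Nat.card h'.H = e' at *
    interval_cases e' <;> simp at e1 ⊢)
  rw [k] at this
  exact absurd this (by decide)

theorem o23 [NS G] (hG : Nat.card G ∣ 244823040) (h23 : 23 ∣ Nat.card G) :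
    Nat.card G ∈ [6072, 45540, 3497472, 10200960, 244823040] := by
  obtain ⟨x, h⟩ := exists_ctx (G := G) (p := 23) (by norm_num) h23
    fun e => by have := e.trans hG; omega
  obtain ⟨h1, h2⟩ := tri23 h hG
  rw [← h.card_eq, h1]
  simp only [List.mem_cons, Prod.mk.injEq, List.not_mem_nil, or_false] at h2 ⊢
  rcases h2 with e | e | e | e | e <;> rw [e.1, e.2] <;> norm_num

/-- In a simple group of the order of `M₂₃` or `M₂₄`. -/
theorem cent23 [NS G] (hG : Nat.card G = 10200960 ∨ Nat.card G = 244823040) (h : Ctx 23 x) :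
    Nat.card h.K = 1 ∧ Nat.card h.H = 11 ∧ Nat.card (centralizer ({x} : Set G)) = 23 := by
  obtain ⟨h1, h2⟩ := tri23 h (by rcases hG with e | e <;> rw [e] <;> norm_num)
  refine ⟨h1, ?_, by rw [h.card_C, h1]⟩
  rw [← h.card_eq, h1] at hG
  simp only [List.mem_cons, Prod.mk.injEq, List.not_mem_nil, or_false] at h2
  rcases h2 with e | e | e | e | e <;> rw [e.1, e.2] at hG <;> first | exact e.2 | omega

theorem c11_sound [NS G] (h : Ctx 11 x) (hG : Nat.card G ∣ 443520) (hc : Nat.card h.K = 1)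
    {N e : ℕ} (hN : Nat.card (Sylow 11 G) = N) (he : Nat.card h.H = e) (h2 : 7 ∣ N) :
    c11 N e = true := by
  have s1 := h.card_eq
  rw [hN, he, hc, mul_one] at s1
  obtain ⟨y, h'⟩ := exists_ctx (G := G) (p := 7) (by norm_num) (s1 ▸ (h2.mul_right _).mul_right _)
    fun e => by have := e.trans hG; omega
  have s2 := h'.card_eq
  have hK : ¬ 7 ∣ Nat.card h.K := by omega
  have e1 := e_dvd h'
  have e2 := h'.two_le_e
  have e3 := not_dvd_K' h h' (by norm_num) hK
  have e4 := syl_mod (p := 7) (G := G)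
  have e5 := fun e => e2b_of (e2_sound h' e (by norm_num) (by norm_num) hG)
  have e6 := idx h'
  obtain ⟨N', hN'⟩ : ∃ N', Nat.card (Sylow 7 G) = N' := ⟨_, rfl⟩
  obtain ⟨e', he'⟩ : ∃ e', Nat.card h'.H = e' := ⟨_, rfl⟩
  obtain ⟨c', hc'⟩ : ∃ c', Nat.card h'.K = c' := ⟨_, rfl⟩
  rw [hN'] at s2 e4 e5 e6
  rw [he'] at s2 e1 e2 e5 e6
  rw [hc'] at s2 e3 e5
  have s3 : 11 * N * e = 7 * N' * e' * c' := by linarith
  have s4 : 11 * N * e / (7 * N' * e') = c' := by
    rw [s3, Nat.mul_div_cancel_left _ (Nat.mul_pos (by omega) (by omega))]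
  have s5 : 11 * N * e / 7 = N' * (e' * c') := by
    rw [s3, mul_assoc, mul_assoc, Nat.mul_div_cancel_left _ (by norm_num)]
  simp only [c11, List.any_eq_true, Bool.and_eq_true, beq_iff_eq]
  refine ⟨N', mem_dv (s5 ▸ Dvd.dvd.trans ⟨7, by linarith⟩ (hG.trans (by norm_num)))
    (s5 ▸ dvd_mul_right _ _), e4, e', ?_, by rw [s3, Nat.mul_mod_right], ?_⟩
  · have := Nat.le_of_dvd (by norm_num) e1
    interval_cases e' <;> simp at e1 ⊢
  simp only [s4, Bool.or_eq_true, bne_iff_ne]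
  exact ⟨by omega, or_iff_not_imp_left.2 fun e => e5 (not_not.1 e), srch_sound h h' (by norm_num) hK
    (by norm_num) hG he he' (Nat.zero_le _) (hc' ▸ le_rfl) (by rw [idx h, hN, he]) (by rw [e6])
    (fun _ _ => rfl) fun _ _ => rfl⟩

theorem ev11 : (dv 8064).all (fun N => N % 11 != 1 || [1, 12, 56, 144, 672, 8064].contains N)
    = true := by
  decide +kernel

theorem e5_mem (h : Ctx 5 x) [NS G] : Nat.card h.H ∈ [2, 4] := by
  have e1 := e_dvd h
  have e2 := h.two_le_e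
  have := Nat.le_of_dvd (by norm_num) e1
  generalize Nat.card h.H = e' at *
  interval_cases e' <;> simp at e1 ⊢

theorem tri11 [NS G] (h : Ctx 11 x) (hG : Nat.card G ∣ 443520) : Nat.card G = 660 ∨
    Nat.card (Sylow 11 G) = 144 ∨
      Nat.card (Sylow 11 G) = 8064 ∧ Nat.card h.H = 5 ∧ Nat.card h.K = 1 := by
  have s1 := h.card_eq
  have e1 := e_dvd h
  have e2 := h.two_le_e
  have e3 := syl_ne h
  have e4 := syl_mod (p := 11) (G := G)
  have e5 := fun e => e2b_of (e2_sound h e (by norm_num) (by norm_num) hG)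
  have e6 := card_mem_surv (G := G)
  have n5 : ¬ 5 ^ 2 ∣ Nat.card G := fun e => by have := e.trans hG; omega
  obtain ⟨N, hN⟩ : ∃ N', Nat.card (Sylow 11 G) = N' := ⟨_, rfl⟩
  obtain ⟨e, he⟩ : ∃ e', Nat.card h.H = e' := ⟨_, rfl⟩
  obtain ⟨c, hc⟩ : ∃ c', Nat.card h.K = c' := ⟨_, rfl⟩
  rw [hN] at s1 e3 e4 e5 ⊢
  rw [he] at s1 e1 e2 e5 ⊢
  rw [hc] at s1 e5 ⊢
  have hG' := s1 ▸ hG
  have c0 : 0 < c := hc ▸ Nat.card_pos
  obtain rfl | h2 : e = 2 ∨ (e = 5 ∨ e = 10) := by
    have := Nat.le_of_dvd (by norm_num) e1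
    interval_cases e <;> simp at e1 ⊢
  · have := List.all_eq_true.1 chk11a N (mem_dv (by norm_num) (Nat.dvd_of_mul_dvd_mul_right
      (by norm_num : 0 < 11) (((dvd_mul_right _ _).mul_right _).trans hG')))
    replace e5 := e5 rfl
    by_cases c1 : c = 1
    · subst c1
      obtain rfl : N = 210 := by simp_all
      rw [← s1] at e6
      exact absurd (e6 (by norm_num)) (by decide)
    · rw [beq_eq_false_iff_ne.2 c1] at e5
      simp_all
  have d1 : N * c ∣ 8064 := Nat.dvd_of_mul_dvd_mul_right (by norm_num : 0 < 55)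
    (Dvd.dvd.trans (by rcases h2 with rfl | rfl; exacts [⟨1, by ring⟩, ⟨2, by ring⟩]) hG')
  have d2 := List.all_eq_true.1 ev11 N (mem_dv (by norm_num) ((dvd_mul_right _ _).trans d1))
  simp only [e4, bne_self_eq_false, Bool.false_or, List.contains_eq_mem, decide_eq_true_eq,
    List.mem_cons, e3, false_or, List.not_mem_nil, or_false] at d2
  by_cases d3 : N = 8064
  · subst d3
    have := Nat.le_of_dvd (by norm_num) hG'
    rcases h2 with rfl | rfl <;> omega
  by_cases d4 : N = 144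
  · exact Or.inr (Or.inl d4)
  replace d2 : N = 12 ∨ N = 56 ∨ N = 672 := by omega
  by_cases c1 : c = 1
  · have k := c11_sound h hG (hc.trans c1) hN he
    have := chk11c
    subst c1
    rw [← s1] at e6 ⊢
    rcases d2 with rfl | rfl | rfl <;> rcases h2 with rfl | rfl
    · exact Or.inl rfl
    · exact absurd (e6 (by norm_num)) (by decide)
    · exact absurd (e6 (by norm_num)) (by decide)
    all_goals simp [k (by norm_num)] at this
  exfalso
  have r1 : 5 ∣ Nat.card h.H := by omega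
  by_cases c2 : 16 ∣ c
  · obtain ⟨y, h'⟩ := exists_ctx (G := G) (p := 5) (by norm_num)
      (s1 ▸ ((he ▸ r1).mul_left _).mul_right _) n5
    have k := srch_sound h h' (by norm_num) (not_dvd_K h r1 n5) (by norm_num) hG he rfl
      (lo := 2) (by rw [hc, beq_eq_false_iff_ne.2 c1]; rfl) (Nat.zero_le _) (M := N * e)
      (by rw [idx h, hN, he]) (M' := 88704) (Nat.dvd_of_mul_dvd_mul_right (by norm_num : 0 < 5)
        (Dvd.dvd.trans (by
          rw [← (centralizer ({y} : Set G)).index_mul_card, h'.card_C]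
          exact ⟨_, (mul_assoc _ _ _).symm⟩) hG)) (flt := fun _ => true) (ex := fun _ => true)
      (fun _ _ => rfl) fun _ _ => rfl
    have := List.all_eq_true.1 (List.all_eq_true.1 chk11b' (N, e) (by
      obtain ⟨j, rfl⟩ := c2
      have := (mul_dvd_mul_left _ (dvd_mul_right 16 j)).trans hG'
      rcases d2 with rfl | rfl | rfl <;> rcases h2 with rfl | rfl <;> simp at this ⊢)) _ (e5_mem h')
    rw [k] at this
    exact absurd this (by decide)
  obtain ⟨y, h', y1, y2⟩ := cent5 h (hG.trans (by norm_num)) r1 (hc ▸ c2)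
  have k := big_sound h h' (by norm_num) (not_dvd_K h r1 n5) (by norm_num) hG (hc ▸ c1) y1 y2 hN he
    rfl (m := 110) rfl
  have := List.all_eq_true.1 (List.all_eq_true.1 (List.all_eq_true.1 chk11b N (by simpa using d2)) e
    (by simpa using h2)) _ (e5_mem h')
  rw [k] at this
  exact absurd this (by decide)

theorem o11 [NS G] (hG : Nat.card G ∣ 443520) (h11 : 11 ∣ Nat.card G) :
    Nat.card G = 660 ∨ Nat.card (Sylow 11 G) = 144 ∨ Nat.card G = 443520 := by
  obtain ⟨x, h⟩ := exists_ctx (G := G) (p := 11) (by norm_num) h11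
    fun e => by have := e.trans hG; omega
  refine (tri11 h hG).imp_right (Or.imp_right fun e => ?_)
  rw [← h.card_eq, e.1, e.2.1, e.2.2]

/-- In a simple group of the order of `M₂₂`: either `n₁₁ = 144` or the expected data. -/
theorem cent11 [NS G] (hG : Nat.card G = 443520) (h : Ctx 11 x) : Nat.card (Sylow 11 G) = 144 ∨
    Nat.card (Sylow 11 G) = 8064 ∧ Nat.card h.H = 5 ∧ Nat.card h.K = 1 :=
  (tri11 h hG.dvd).resolve_left (by omega)

end Cfsg.Agent.H5.MW
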