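import Cfsg.Agent.H5.MwE

/-! Simple groups of order `244823040`: the inertial index at `11` is not two. -/

set_option autoImplicit false

namespace Cfsg.Agent.H5.B24

open Cfsg Cfsg.Agent.H3 Cfsg.Agent.H2.D1 Cfsg.Agent.H5.MW Finset Subgroup

variable {G : Type*} [Group G] [Finite G] {y : G}

theorem chk2 : (fun S => (dv 11128320).all fun N => N % 11 != 1 || (fun c : ℕ => c % 23 == 0 ||
    (!e2 244823040 11 N c || !srch S 11 11 2 (bif c == 1 then 0 else 2) (N * 2) (fun _ => true)
      (fun l => c % 7 != 0 || ex7 66 l))) (11128320 / N))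
    (side 23 11 0 (967680 * 11) (dg' 244823040)) = true := by
  decide +kernel

theorem e_ne2 [NS G] (hG : Nat.card G = 244823040) (h : Ctx 11 y) : Nat.card h.H ≠ 2 := fun he => by
  obtain ⟨x, g⟩ := MW.exists_ctx (G := G) (p := 23) (by norm_num) (by rw [hG]; norm_num)
    (by rw [hG]; norm_num)
  obtain ⟨k1, k2, -⟩ := cent23 (Or.inr hG) g
  have hK : ¬ 11 ∣ Nat.card g.K := by omega
  have s1 := g.card_eq
  rw [k1, k2, hG] at s1
  have s2 := h.card_eq
  have e3 := not_dvd_K' g h (by norm_num) hK
  have e4 := syl_mod (p := 11) (G := G)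
  have e5 := e2_sound h he (by norm_num) dvd_rfl hG.dvd
  have k := srch_sound g h (by norm_num) hK dvd_rfl hG.dvd k2 he (Nat.zero_le _) le_rfl
    (M := 967680 * 11) (by rw [idx g, k2]; exact Dvd.intro 1 (by omega))
    (M' := Nat.card (Sylow 11 G) * 2) (by rw [idx h, he]) (flt := fun _ => true)
    (ex := fun l => Nat.card h.K % 7 != 0 || ex7 66 l) (fun _ _ => rfl) fun l hl => by
      by_cases e : Nat.card h.K % 7 = 0
      · exact Bool.or_eq_true_iff.2 (Or.inr (ex7_sound g h (by norm_num) (by omega) hl))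
      · simp [e]
  rw [he, hG] at s2
  generalize Nat.card (Sylow 11 G) = N at *
  generalize Nat.card h.K = c at *
  have s3 : 11128320 = N * c := by linarith
  have := List.all_eq_true.1 chk2 N (mem_dv (by norm_num) ⟨c, s3⟩)
  rw [s3, Nat.mul_div_cancel_left _ (by omega)] at this
  simp only [e4, e5, k, bne_self_eq_false, Bool.false_or, Bool.not_true, Bool.or_false,
    beq_iff_eq] at this
  omega

end Cfsg.Agent.H5.B24
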