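import Cfsg.Agent.H5.C12Solv
import Cfsg.Agent.H2.D1Non5
import Cfsg.Agent.H9.SimpleSection
import Cfsg.Agent.H3.PSL2Spec

/-!
# Reduction of the structure statement to simple groups
-/

set_option autoImplicit false

namespace Cfsg.Agent.L0.C12

open Subgroup Cfsg.Agent.L0.SC3 Cfsg.Agent.H9 Cfsg.Agent.H1.T3

universe u

instance c12FactSeven : Fact (Nat.Prime 7) := ⟨by norm_num⟩
instance c12FactThirteen : Fact (Nat.Prime 13) := ⟨by norm_num⟩

theorem p1simple_L7 : IsSimpleGroup L7 :=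
  Matrix.ProjectiveSpecialLinearGroup.rank_two_simple (by simp)

theorem p1simple_L13 : IsSimpleGroup L13 :=
  Matrix.ProjectiveSpecialLinearGroup.rank_two_simple (by simp)

theorem p1spec_L7 : H3.Spec L7 7 7 3 4 2 := by
  have := H3.spec_of_range_eq (G := L7) (ZMod 7) (by simp) rfl rfl
  rwa [ZMod.card, ZMod.ringChar_zmod_n] at this

theorem p1spec_L13 : H3.Spec L13 13 13 6 7 2 := by
  have := H3.spec_of_range_eq (G := L13) (ZMod 13) (by simp) rfl rfl
  rwa [ZMod.card, ZMod.ringChar_zmod_n] at this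

theorem p1card_L7 : Nat.card L7 = 168 := p1spec_L7.card

theorem p1card_L13 : Nat.card L13 = 1092 := p1spec_L13.card

theorem nab_of_card {X : Type*} [Group X] [Finite X] (h : IsSimpleGroup X)
    (h1 : ¬ (Nat.card X).Prime) : ∃ a b : X, a * b ≠ b * a := by
  by_contra hn
  push Not at hn
  let _ : CommGroup X := { ‹Group X› with mul_comm := hn }
  exact h1 IsSimpleGroup.prime_card

section
variable {X Y : Type*} [Group X] [Finite X] [Group Y] {x : X} (h : T3 x) {π : X →* Y}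
  (hπ : Function.Surjective π) (hk : ∀ b ∈ π.ker, b ^ 3 = 1 → b = 1)
include h hπ hk

theorem T3.lift {a : Y} (ha : Commute (π x) a) : ∃ c, Commute x c ∧ π c = a := by
  obtain ⟨g, rfl⟩ := hπ a
  obtain ⟨f, hf, e⟩ := conj_of_coset hk (b := x) (y := g * x * g⁻¹)
    (fun e he => Normal.conj_mem inferInstance e he x) h.cube (h.conj g).cube (by
      rw [MonoidHom.mem_ker]
      simp only [map_mul, map_inv, ← ha.eq, mul_inv_cancel_right, mul_inv_cancel])
  refine ⟨f⁻¹ * g, ?_, by rw [map_mul, map_inv, MonoidHom.mem_ker.mp hf, inv_one, one_mul]⟩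
  calc x * (f⁻¹ * g) = f⁻¹ * (f * x * f⁻¹) * g := by group
    _ = f⁻¹ * g * x := by rw [← e]; group

theorem T3.lift2 {a : Y} (ha : Commute (π x) a) (h2 : a * a = 1) :
    ∃ c, Commute x c ∧ c * c = 1 ∧ π c = a := by
  obtain ⟨c, h1, rfl⟩ := h.lift hπ hk ha
  refine ⟨c ^ 3, h1.pow_right 3, by rw [← pow_add, h.six c h1], ?_⟩
  rw [map_pow, pow_succ, pow_two, h2, one_mul]

theorem T3.map : T3 (π x) where
  ne := fun e => h.ne (hk x e h.cube)
  cube := by rw [← map_pow, h.cube, map_one]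
  five := fun e => h.five (e.trans (card_dvd_of_surjective π hπ))
  ab := fun a b ha hb => by
    obtain ⟨c, h1, rfl⟩ := h.lift hπ hk ha
    obtain ⟨d, h2, rfl⟩ := h.lift hπ hk hb
    exact (h.ab c d h1 h2).map π
  six := fun a ha => by
    obtain ⟨c, h1, rfl⟩ := h.lift hπ hk ha
    rw [← map_pow, h.six c h1, map_one]
  dvd := by
    refine Dvd.dvd.trans ?_ h.dvd
    have : centralizer ({π x} : Set Y) = (centralizer ({x} : Set X)).map π := by
      ext a
      rw [mem_centralizer_singleton_iff]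
      constructor
      · intro ha
        obtain ⟨c, h1, rfl⟩ := h.lift hπ hk (a := a) ha.symm
        exact ⟨c, mem_centralizer_singleton_iff.mpr h1.symm.eq, rfl⟩
      · rintro ⟨c, h1, rfl⟩
        rw [← map_mul, ← map_mul, mem_centralizer_singleton_iff.mp h1]
    rw [this]
    exact card_map_dvd _ π

theorem Str.comap (s : Str (π x) ⊤) : Str x ⊤ := by
  rcases s with ⟨K, c⟩ | ⟨K, M, c⟩
  · exact Or.inl ⟨_, c.toCore.comap π hk, fun g _ h1 h2 =>
      c.cen (π g) trivial (h1.map π) (by rw [← map_mul, h2, map_one])⟩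
  refine Or.inr ⟨K.comap π, M.comap π, comap_mono c.le, le_top, fun l _ k hk' => ?_,
    fun l _ k hk' => ?_, fun b hb h3 => ?_, c.mem, ?_, fun g _ => ?_, fun N _ hn hx n hnN => ?_⟩
  · simpa using c.nK (π l) trivial _ hk'
  · simpa using c.nM (π l) trivial _ hk'
  · exact hk b (c.cube _ hb (by rw [← map_pow, h3, map_one])) h3
  · have key : ∀ (S : Type) [Group S], Quo S K M → Quo S (K.comap π) (M.comap π) :=
      fun S _ ⟨f, hf, e⟩ => ⟨f.comp (π.subgroupComap M),
        hf.comp (π.subgroupComap_surjective_of_surjective M hπ), fun g => e _⟩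
    exact c.quo.imp (key _) (key _)
  · obtain ⟨m, hm, a, -, h1, h2, e⟩ := c.fra (π g) trivial
    obtain ⟨d, k1, k2, rfl⟩ := h.lift2 hπ hk h1 h2
    refine ⟨g * d⁻¹, ?_, d, trivial, k1, k2, by group⟩
    rw [mem_comap, map_mul, map_inv, e, mul_inv_cancel_right]
    exact hm
  · refine c.max (N.map π) le_top ?_ ?_ ⟨n, hnN, rfl⟩
    · rintro l - _ ⟨a, ha, rfl⟩
      obtain ⟨l, rfl⟩ := hπ l
      exact ⟨_, hn l trivial a ha, by simp⟩
    · rintro ⟨a, ha, e⟩
      have h1 := not_dvd_card_iff.mpr (h.cube_of_normal (mem_top x) le_top hn hx)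
      have h2 : π x ^ Nat.card N = 1 := by
        rw [← e, ← map_pow, show a ^ Nat.card N = 1 from
          congrArg Subtype.val (pow_card_eq_one' (x := (⟨a, ha⟩ : N))), map_one]
      exact h1 ((h.map hπ hk).orderOf_eq ▸ orderOf_dvd_of_pow_eq_one h2)

end

section
variable {X : Type*} [Group X] [Finite X] {x : X}

theorem comm_of_core (hs : IsSimpleGroup X) (h : T3 x)
    (hc : ∀ g, g * x * g⁻¹ = x ∨ g * x * g⁻¹ = x⁻¹) (a b : X) : a * b = b * a := by
  have hn : (zpowers x).Normal := ⟨by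
    rintro _ ⟨k, rfl⟩ g
    rw [← conj_zpow]
    rcases hc g with e | e <;> rw [e]
    exacts [zpow_mem (mem_zpowers x) k, zpow_mem (inv_mem (mem_zpowers x)) k]⟩
  have ht := hn.eq_bot_or_eq_top.resolve_left (by simpa using h.ne)
  obtain ⟨i, rfl⟩ : a ∈ zpowers x := ht ▸ mem_top a
  obtain ⟨j, rfl⟩ : b ∈ zpowers x := ht ▸ mem_top b
  exact zpow_mul_comm x i j

theorem iso_of_str (hs : IsSimpleGroup X) (nab : ∃ a b : X, a * b ≠ b * a) (h : T3 x)
    (s : Str x ⊤) : Nonempty (X ≃* L7) ∨ Nonempty (X ≃* L13) := by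
  have k : ∀ K : Subgroup X, (∀ l ∈ (⊤ : Subgroup X), ∀ k ∈ K, l * k * l⁻¹ ∈ K) →
      (∀ b ∈ K, b ^ 3 = 1 → b = 1) → K = ⊥ := fun K h1 h2 =>
    (Normal.eq_bot_or_eq_top ⟨fun k hk l => h1 l trivial k hk⟩).resolve_right fun e =>
      h.ne (h2 x (e ▸ mem_top x) h.cube)
  rcases s with ⟨K, c⟩ | ⟨K, M, c⟩
  · obtain ⟨a, b, e⟩ := nab
    obtain rfl := k K c.normal c.cube
    refine absurd (comm_of_core hs h (fun g => (c.act g trivial).imp ?_ ?_) a b) e
    · exact fun e => mul_inv_eq_one.mp (mem_bot.mp e)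
    · exact fun e => eq_inv_of_mul_eq_one_left (mem_bot.mp e)
  obtain rfl := k K c.nK c.cube
  obtain rfl : M = ⊤ := (Normal.eq_bot_or_eq_top ⟨fun k hk l => c.nM l trivial k hk⟩).resolve_left
    fun e => h.ne (mem_bot.mp (e ▸ c.mem))
  have key : ∀ (S : Type) [Group S], Quo S (⊥ : Subgroup X) ⊤ → Nonempty (X ≃* S) :=
    fun S _ ⟨f, hf, e⟩ => ⟨topEquiv.symm.trans (MulEquiv.ofBijective f
      ⟨(injective_iff_map_eq_one f).mpr fun a ha => Subtype.ext (mem_bot.mp ((e a).mp ha)), hf⟩)⟩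
  exact c.quo.imp (key _) (key _)

theorem iso_of_lt (hs : IsSimpleGroup X) (nab : ∃ a b : X, a * b ≠ b * a) (h : T3 x)
    (h1 : Nat.card X < 6000) : Nonempty (X ≃* L7) ∨ Nonempty (X ≃* L13) := by
  have : H2.D1.NS X := { hs with nc := nab }
  have : H2.D1.NS L7 :=
    { p1simple_L7 with nc := nab_of_card p1simple_L7 (by rw [p1card_L7]; norm_num) }
  have : H2.D1.NS L13 :=
    { p1simple_L13 with nc := nab_of_card p1simple_L13 (by rw [p1card_L13]; norm_num) }
  have h2 := H2.D1.card_mem_surv h1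
  have h3 := H2.D1.ne_1344 (G := X)
  have h5 := h.five
  have h9 := h.not_nine
  simp only [H2.D1.surv, List.mem_cons, List.not_mem_nil, or_false] at h2
  have : Nat.card X = 168 ∨ Nat.card X = 1092 := by omega
  exact this.imp (fun e => H2.D1.uniq (e.trans p1card_L7.symm) h1)
    fun e => H2.D1.uniq (e.trans p1card_L13.symm) h1

theorem real_of_simple (hs : IsSimpleGroup X) (nab : ∃ a b : X, a * b ≠ b * a) (h : T3 x) :
    ∃ g, g * x * g⁻¹ = x⁻¹ := by
  by_contra hn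
  push Not at hn
  have := Fact.mk Nat.prime_three
  have hp := pnil_three (mem_top x) h.cube h.ne (h.not_nine' ⊤) fun g _ => hn g
  have hN : hp.compl.Normal := ⟨fun k hk g => ⟨trivial, by rw [orderOf_conj_eq]; exact hk.2⟩⟩
  rcases hN.eq_bot_or_eq_top with e | e
  · have h3 : IsPGroup 3 (⊤ : Subgroup X) := isPGroup_of_forall_coprime fun a _ ha =>
      mem_bot.mp (e ▸ hp.mem_compl.mpr ⟨trivial, ha⟩)
    have := h.eq_zpowers_of_le h3 (mem_top x)
    obtain ⟨a, b, e⟩ := nab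
    obtain ⟨i, rfl⟩ : a ∈ zpowers x := this ▸ mem_top a
    obtain ⟨j, rfl⟩ : b ∈ zpowers x := this ▸ mem_top b
    exact e (zpow_mul_comm x i j)
  · have := (hp.mem_compl.mp (e ▸ mem_top x)).2
    rw [h.orderOf_eq] at this
    exact absurd this (by decide)

end

theorem str_of (H : ∀ (X : Type u) [Group X] [Finite X] (y : X), IsSimpleGroup X →
      (∃ a b : X, a * b ≠ b * a) → T3 y → IH.{u} (Nat.card X) → Nat.card X < 6000) :
    ∀ (X : Type u) [Group X] [Finite X] (y : X), T3 y → Str y ⊤ := by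
  intro X _ _ x h
  induction hn : Nat.card X using Nat.strong_induction_on generalizing X with
  | _ n ih =>
  have ih' : IH.{u} (Nat.card X) := fun Y _ _ y hY hy => ih _ (hn ▸ hY) Y y hy rfl
  by_cases hK : ∃ K : Subgroup X, K.Normal ∧ K ≠ ⊥ ∧ x ∉ K
  · obtain ⟨K, hK, h1, h2⟩ := hK
    have hk : ∀ b ∈ (QuotientGroup.mk' K).ker, b ^ 3 = 1 → b = 1 := by
      rw [QuotientGroup.ker_mk']
      exact h.cube_of_normal (mem_top x) le_top (fun l _ k hk => hK.conj_mem k hk l) h2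
    refine Str.comap h (QuotientGroup.mk'_surjective K) hk
      (ih' _ _ ?_ (h.map (QuotientGroup.mk'_surjective K) hk))
    have e := K.card_eq_card_quotient_mul_card_subgroup
    have h3 := (one_lt_card_iff_ne_bot K).mpr h1
    have h4 : 0 < Nat.card (X ⧸ K) := Nat.card_pos
    nlinarith
  have hmax : ∀ K : Subgroup X, K.Normal → x ∉ K → K = ⊥ := fun K h1 h2 =>
    by_contra fun e => hK ⟨K, h1, e, h2⟩
  obtain ⟨N, ⟨hN, hN1⟩, hmin⟩ := (wellFounded_lt (α := Subgroup X)).has_min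
    {N | N.Normal ∧ N ≠ ⊥} ⟨⊤, inferInstance, fun e => h.ne (mem_bot.mp (e ▸ mem_top x))⟩
  have hx : x ∈ N := by_contra fun e => hN1 (hmax N hN e)
  have hN3 := h.sub hx
  have hs : IsSimpleGroup N := isSimpleGroup_of_minimal_normal N (fun L h1 h2 => by
    by_cases e : L = ⊥
    · exact Or.inl e
    · exact Or.inr (h2.eq_of_not_lt (hmin L ⟨h1, e⟩))) Nat.prime_three
    (hN3.orderOf_eq ▸ orderOf_dvd_natCard _) (h.not_nine' N)
  have fr : ∀ g, ∃ l ∈ N, g * x * g⁻¹ = l * x * l⁻¹ ∨ g * x * g⁻¹ = l * x⁻¹ * l⁻¹ := fun g =>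
    h.exists_conj hx (hN.conj_mem x hx g) (h.conj g).ne (h.conj g).cube
  by_cases nab : ∃ a b : N, a * b ≠ b * a
  swap
  · push Not at nab
    have hc : ∀ g, g * x * g⁻¹ = x ∨ g * x * g⁻¹ = x⁻¹ := fun g => by
      obtain ⟨l, hl, e⟩ := fr g
      have e1 : l * x = x * l := congrArg Subtype.val (nab ⟨l, hl⟩ ⟨x, hx⟩)
      have e2 : l * x * l⁻¹ = x := by rw [e1, mul_inv_cancel_right]
      refine e.imp (fun e => e.trans e2) fun e => e.trans ?_
      rw [← conj_inv, e2]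
    refine Or.inl ⟨⊥, ⟨bot_le, fun l _ r hr => by rw [mem_bot.mp hr]; simp, fun b hb _ => hb,
      trivial, fun g _ => (hc g).imp (fun e => by rw [e]; simp) fun e => by rw [e]; simp⟩,
      fun g _ h1 h2 => ?_⟩
    let V : Subgroup X :=
      { carrier := {v | Commute x v ∧ v * v = 1}
        one_mem' := ⟨Commute.one_right x, mul_one 1⟩
        mul_mem' := fun {a b} ha hb => ⟨ha.1.mul_right hb.1, by
          rw [(h.ab b a hb.1 ha.1).mul_mul_mul_comm, ha.2, hb.2, mul_one]⟩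
        inv_mem' := fun {a} ha => ⟨ha.1.inv_right, by rw [← mul_inv_rev, ha.2, inv_one]⟩ }
    have hV : V.Normal := ⟨fun v hv l => ⟨?_, by rw [conj_mul, hv.2]; simp⟩⟩
    · exact hmax V hV (fun e => h.ne (two_ne_three h.cube e.2)) ▸ (⟨h1, h2⟩ : g ∈ V)
    · have := T3.commute_conj (x := x) (g := l⁻¹) (k := v) (by
        rcases hc l⁻¹ with e | e <;> rw [e]
        exacts [hv.1, hv.1.inv_left])
      rwa [inv_inv] at this
  have hiso : Nonempty (N ≃* L7) ∨ Nonempty (N ≃* L13) := by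
    by_cases e : N = ⊤
    · refine iso_of_lt hs nab hN3 (H N _ hs nab hN3 ?_)
      rwa [e, card_top]
    · refine iso_of_str hs nab hN3 (ih' N _ ?_ hN3)
      exact lt_of_le_of_ne (card_le_card_group N) fun e' => e (eq_top_of_card_eq N e')
  obtain ⟨r, hr⟩ := real_of_simple hs nab hN3
  have hr' : (r : X) * x * (r : X)⁻¹ = x⁻¹ := congrArg Subtype.val hr
  refine Or.inr ⟨⊥, N, bot_le, le_top, fun l _ r hr => by rw [mem_bot.mp hr]; simp,
    fun l _ m hm => hN.conj_mem m hm l, fun b hb _ => hb, hx, ?_, fun g _ => ?_,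
    fun K _ h1 h2 => (hmax K ⟨fun k hk l => h1 l trivial k hk⟩ h2).le⟩
  · have key : ∀ (S : Type) [Group S], Nonempty (N ≃* S) → Quo S (⊥ : Subgroup X) N :=
      fun S _ ⟨e⟩ => ⟨e.toMonoidHom, e.surjective, fun g => by simp⟩
    exact hiso.imp (key _) (key _)
  · obtain ⟨l, hl, e⟩ : ∃ l ∈ N, g * x * g⁻¹ = l * x * l⁻¹ := by
      obtain ⟨l, hl, e | e⟩ := fr g
      · exact ⟨l, hl, e⟩
      · exact ⟨l * r, mul_mem hl r.2, by rw [e, ← hr']; group⟩
    obtain ⟨v, h1, h2, e1⟩ := h.cent (g := l⁻¹ * g) (by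
      calc x * (l⁻¹ * g) = l⁻¹ * (l * x * l⁻¹) * g := by group
        _ = l⁻¹ * g * x := by rw [← e]; group)
    have e2 : ∀ y, l⁻¹ * g = y → g = l * y := fun y e => by rw [← e]; group
    rcases e1 with e1 | e1 | e1
    · exact ⟨l, hl, v, trivial, h1, h2, e2 _ e1⟩
    · exact ⟨l * x, mul_mem hl hx, v, trivial, h1, h2, by rw [e2 _ e1, ← h1.eq, mul_assoc]⟩
    · exact ⟨l * x⁻¹, mul_mem hl (inv_mem hx), v, trivial, h1, h2, by
        rw [e2 _ e1, ← h1.inv_left.eq, mul_assoc]⟩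

end Cfsg.Agent.L0.C12
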