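import Cfsg.Agent.H1.ElDef

/-! Burnside transfer for a cyclic Sylow subgroup of order `p ^ 2`. -/

set_option autoImplicit false

namespace Cfsg.Agent.H1.El

variable {G : Type*} [Group G] [Finite G]

theorem bu0 {p : ℕ} (hp : p.Prime) (x : G) (ho : orderOf x = p ^ 2) (h3 : ¬ p ^ 3 ∣ Nat.card G)
    (hN : ∀ n, n * x * n⁻¹ ∈ Subgroup.zpowers x → n * x ^ p * n⁻¹ = x ^ p) :
    ∃ U : Subgroup G, U.Normal ∧ ¬ p ∣ Nat.card U ∧ ∀ g, ∃ u ∈ U, ∃ k : ℕ, g = u * x ^ k := by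
  have := Fact.mk hp
  have hc : Nat.card (Subgroup.zpowers x) = p ^ 2 := by rw [Nat.card_zpowers, ho]
  have hi : ¬ p ∣ (Subgroup.zpowers x).index := fun h => h3 (by
    rw [← (Subgroup.zpowers x).card_mul_index, hc, pow_succ]; exact Nat.mul_dvd_mul_left _ h)
  let P : Sylow p G := (IsPGroup.of_card hc).toSylow hi
  have hP : (P : Subgroup G) = Subgroup.zpowers x := rfl
  have hC : Subgroup.normalizer (P : Set G) ≤ Subgroup.centralizer (P : Set G) := fun n hn => by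
    have h1 : n * x * n⁻¹ ∈ Subgroup.zpowers x :=
      (Subgroup.mem_normalizer_iff.1 hn x).1 (Subgroup.mem_zpowers x)
    have h2 := hN n h1
    obtain ⟨i, hi⟩ := (Submonoid.mem_powers_iff _ _).1 (mem_powers_iff_mem_zpowers.2 h1)
    have h4 : i ≡ 1 [MOD p] := by
      rw [← conj_pow, ← hi, ← pow_mul, pow_eq_pow_iff_modEq, ho, pow_two] at h2
      exact Nat.ModEq.mul_right_cancel' hp.ne_zero (by simpa using h2)
    have h5 : ∀ k : ℕ, n ^ k * x * (n ^ k)⁻¹ = x ^ i ^ k := fun k => by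
      induction k with
      | zero => simp
      | succ k ih =>
        rw [pow_succ' n, show n * n ^ k * x * (n * n ^ k)⁻¹ = n * (n ^ k * x * (n ^ k)⁻¹) * n⁻¹ by group,
          ih, ← conj_pow, ← hi, ← pow_mul, pow_succ']
    have h6 : n ^ p ∈ Subgroup.centralizer {x} := by
      rw [Subgroup.mem_centralizer_singleton_iff, ← mul_inv_eq_iff_eq_mul, h5]
      have : (i : ℤ) ^ p ≡ 1 ^ p [ZMOD (p ^ 2 : ℕ)] := by
        have := dvd_sub_pow_of_dvd_sub (R := ℤ) (p := p) (a := 1) (b := i)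
          (by simpa using (Int.natCast_modEq_iff.2 h4).dvd) 1
        rw [Int.modEq_iff_dvd]
        simpa using this
      conv_rhs => rw [← pow_one x]
      rw [pow_eq_pow_iff_modEq, ho, ← Int.natCast_modEq_iff]
      simpa using this
    obtain ⟨j, r, hr, e⟩ := Nat.exists_eq_pow_mul_and_not_dvd (orderOf_pos n).ne' p hp.ne_one
    have h7 : n ^ r ∈ Subgroup.centralizer {x} := by
      have hg : IsPGroup p (Subgroup.zpowers (n ^ r)) := by
        refine IsPGroup.iff_card.2 ?_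
        obtain ⟨k, -, hk⟩ := (Nat.dvd_prime_pow hp).1 (orderOf_dvd_of_pow_eq_one
          (show (n ^ r) ^ p ^ j = 1 by rw [← pow_mul, mul_comm, ← e, pow_orderOf_eq_one]))
        exact ⟨k, by rw [Nat.card_zpowers, hk]⟩
      have : n ^ r ∈ Subgroup.zpowers (n ^ r) ⊓ (P : Subgroup G) := by
        rw [← hg.inf_normalizer_sylow]; exact ⟨Subgroup.mem_zpowers _, pow_mem hn r⟩
      obtain ⟨k, hk⟩ := Subgroup.mem_zpowers_iff.1 (hP ▸ this.2)
      rw [Subgroup.mem_centralizer_singleton_iff, ← hk]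
      exact ((Commute.refl x).zpow_left k).eq
    have h8 : n ∈ Subgroup.centralizer {x} := by
      obtain ⟨a, b, hab⟩ := Nat.isCoprime_iff_coprime.2 ((Nat.Prime.coprime_iff_not_dvd hp).2 hr)
      rw [← zpow_one n, ← hab, zpow_add, mul_comm a, mul_comm b, zpow_mul, zpow_mul, zpow_natCast,
        zpow_natCast]
      exact mul_mem (zpow_mem h6 a) (zpow_mem h7 b)
    intro y hy
    obtain ⟨k, rfl⟩ := Subgroup.mem_zpowers_iff.1 (show y ∈ Subgroup.zpowers x from hy)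
    exact (Commute.zpow_left (Subgroup.mem_centralizer_singleton_iff.1 h8).symm k).eq
  have hK := MonoidHom.ker_transferSylow_isComplement' P hC
  refine ⟨_, inferInstance, by rw [← hK.index_eq_card]; exact hi, fun g => ?_⟩
  obtain ⟨⟨u, v⟩, e⟩ := hK.2 g
  obtain ⟨k, hk⟩ := (Submonoid.mem_powers_iff _ _).1
    (mem_powers_iff_mem_zpowers.2 (show v.1 ∈ Subgroup.zpowers x from v.2))
  exact ⟨u, u.2, k, by rw [hk]; exact e.symm⟩

theorem bu {p : ℕ} (hp : p.Prime) (X : Subgroup G) (x : G) (hx : x ∈ X) (ho : orderOf x = p ^ 2)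
    (h3 : ¬ p ^ 3 ∣ Nat.card G)
    (hN : ∀ n ∈ X, n * x * n⁻¹ ∈ Subgroup.zpowers x → n * x ^ p * n⁻¹ = x ^ p) :
    ∃ U ≤ X, (∀ g ∈ X, ∀ u ∈ U, g * u * g⁻¹ ∈ U) ∧ ¬ p ∣ Nat.card U ∧
      ∀ g ∈ X, ∃ u ∈ U, ∃ k : ℕ, g = u * x ^ k := by
  obtain ⟨U, h1, h2, h4⟩ := bu0 hp (⟨x, hx⟩ : X) (by rw [← ho]; exact (Subgroup.orderOf_coe _).symm)
    (fun h => h3 (h.trans X.card_subgroup_dvd_card)) fun n hn => Subtype.ext (hN n n.2 (by
      obtain ⟨k, hk⟩ := Subgroup.mem_zpowers_iff.1 hn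
      exact ⟨k, congrArg Subtype.val hk⟩))
  refine ⟨U.map X.subtype, Subgroup.map_subtype_le _, ?_, by
    rwa [Subgroup.card_map_of_injective X.subtype_injective], fun g hg => ?_⟩
  · rintro g hg _ ⟨u, hu, rfl⟩
    exact ⟨_, h1.conj_mem u hu ⟨g, hg⟩, rfl⟩
  · obtain ⟨u, hu, k, e⟩ := h4 ⟨g, hg⟩
    exact ⟨u, ⟨u, hu, rfl⟩, k, congrArg Subtype.val e⟩

end Cfsg.Agent.H1.El
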