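import Cfsg.Agent.H5.O8xW2
import Cfsg.Agent.H4.O8xW1
import Cfsg.Agent.H6.O8xW3

/-!
# The subgroup of index two
-/

set_option autoImplicit false

namespace Cfsg.Agent.H5.O8

open Subgroup Cfsg.Agent.H3.L43 Cfsg.Agent.H3.O8 Cfsg.Agent.H1.T3

theorem idx2 {G : Type*} [Group G] [Finite G] {ξ : V → G} {μ : SP → G} {i : G}
    (c : Cfg true ξ μ i) (hE : HE ξ μ i)
    (F1 : ∀ g, Commute g (ξ (ee 3)) → ∃ v a, g = ξ v * μ a)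
    (hb : ∀ g, Commute g (μ (sg 3)) → Commute g (ξ vv) →
      ∃ e ∈ EE ξ μ i, ∃ v a, g = e * ξ v * μ a) :
    ∃ H, Idx2 H ⊤ ∧ μ sw ∉ H :=
  idx2_of c hE (H4.O8.normEE c hE F1 hb) (H6.O8x.noconj c hE F1 hb)

end Cfsg.Agent.H5.O8
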