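import Cfsg.Agent.H5.MtA
import Cfsg.Agent.H4.M12Cnt

/-!
# Groups whose order divides that of `M₁₂`, II: the case of a dihedral automizer
-/

set_option autoImplicit false
set_option linter.unusedSectionVars false

namespace Cfsg.Agent.H5.MT

open Cfsg Cfsg.Agent.H3 Subgroup Finset
open Cfsg.Agent.H9.FT (radI radI_mul radI_mul' dvd_of_mem_radI)
open scoped ComplexConjugate

variable {G : Type*} [Group G] [Finite G]

theorem mem_D {d : ℕ} (h : d ∣ 95040) : d ∈ H4.M12R.D :=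
  H4.Nse.mem_of_dvd_mul (a := 288) (b := 330) (by norm_num) (by norm_num) (by decide +kernel) h

theorem exists_compl {p : ℕ} [hp : Fact p.Prime] {u : G} (hu : orderOf u = p)
    (hn : ¬ p ^ 2 ∣ Nat.card G) : ∃ K : Subgroup (centralizer {u} : Subgroup G), K.Normal ∧
      (Nat.card K).Coprime p ∧ K.index = p ∧ ∀ x, IsPReg p x → x ∈ K := by
  let u' : (centralizer {u} : Subgroup G) := ⟨u, mem_centralizer_singleton_iff.2 rfl⟩
  have h1 : Nat.card (zpowers u') = p := by rw [Nat.card_zpowers, ← orderOf_coe, hu]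
  let P := (IsPGroup.of_card (n := 1) (h1.trans (pow_one p).symm)).toSylow fun e => hn (by
    refine Dvd.dvd.trans ?_ (centralizer {u}).card_subgroup_dvd_card
    rw [← (zpowers u').card_mul_index, h1, sq]
    exact mul_dvd_mul_left _ e)
  obtain ⟨K, a, b, c, d⟩ := exists_normal_compl P fun n _ => by
    rintro _ ⟨k, rfl⟩
    exact Commute.zpow_left (a := u') (b := n)
      (Subtype.ext (mem_centralizer_singleton_iff.1 n.2).symm) k
  exact ⟨K, a, b, c.trans h1, d⟩

theorem B0_norm {p : ℕ} [hp : Fact p.Prime] {u : G} (hu : orderOf u = p)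
    (hn : ¬ p ^ 2 ∣ Nat.card G) : ∑ χ ∈ B0 p G, χ.1 u * conj (χ.1 u) = p := by
  classical
  have := Fintype.ofFinite G
  obtain ⟨K, hK, h1, h2, h3⟩ := exists_compl hu hn
  let u' : (centralizer {u} : Subgroup G) := ⟨u, mem_centralizer_singleton_iff.2 rfl⟩
  have pu : IsPElt p u := ⟨1, by rw [pow_one, ← hu, pow_orderOf_eq_one]⟩
  have hc : ∀ c : (centralizer {u} : Subgroup G), Commute u c := fun c =>
    (mem_centralizer_singleton_iff.1 c.2).symm
  have h4 : ∀ c : (centralizer {u} : Subgroup G), pPart p ((c : G) * u) = u ↔ c ∈ K := fun c => by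
    refine ⟨fun e => h3 c (isPReg_coe.1 ?_), fun e => ?_⟩
    · have := isPReg_pReg (p := p) ((c : G) * u)
      rwa [pReg, e, ← (hc c).eq, inv_mul_cancel_left] at this
    · rw [← (hc c).eq, pPart_mul pu (isPReg_coe.2 (IsPReg.of_mem h1 e)) (hc c)]
  have h5 := indFun_section (p := p) u (isClassFunction_const (G := G) 1)
  have h6 := classFunction_apply (h5 ▸ indFun_isClassFunction _ _) u
  rw [pu.pPart_eq, if_pos (IsConj.refl u), ← sum_subset (subset_univ (B0 p G)) fun χ _ hχ => by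
    rw [B0_classInner_section (fun x y h => if_congr ⟨fun a => a.trans h, fun a => a.trans h.symm⟩
      rfl rfl) hχ, zero_mul], sum_congr rfl (g := fun χ => (p : ℂ)⁻¹ * (χ.1 u * conj (χ.1 u)))
      fun χ hχ => ?_, ← mul_sum, eq_inv_mul_iff_mul_eq₀ (Nat.cast_ne_zero.2 hp.out.ne_zero),
      mul_one] at h6
  · exact h6.symm
  rw [← h5, classInner_indFun _ _ (char_isClassFunction (ch χ)), classInner,
    ← Equiv.sum_comp (Equiv.mulRight u'), sum_congr rfl
      (g := fun c => if c ∈ K then conj (χ.1 u) else 0) fun c _ => ?_, ← sum_filter, sum_const,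
    ← Fintype.card_subtype, ← Nat.card_eq_fintype_card, ← K.card_mul_index, h2]
  · have : (Nat.card K : ℂ) ≠ 0 := Nat.cast_ne_zero.2 Nat.card_pos.ne'
    rw [nsmul_eq_mul]
    push_cast
    field_simp
  · change (if pPart p ((c : G) * u) = u then (1 : ℂ) else 0) * conj (χ.1 ((c : G) * u')) = _
    simp only [h4]
    split_ifs with h
    · rw [one_mul, B0_mul_eq h1 (g := u') h (fun y hy => mem_centralizer_singleton_iff.2 (by
        rw [pu.pPart_eq] at hy; exact hy.symm)) (fun y hy => mem_centralizer_singleton_iff.2 (by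
        rw [(h4 c).2 h] at hy; exact hy.symm)) hχ]
    · rw [zero_mul]

theorem B0_mul {p : ℕ} [hp : Fact p.Prime] {u a : G} (hu : orderOf u = p)
    (hn : ¬ p ^ 2 ∣ Nat.card G) (ha : IsPReg p a) (hc : Commute a u) {χ : IrrCharacter G}
    (hχ : χ ∈ B0 p G) : χ.1 (u * a) = χ.1 u := by
  obtain ⟨K, hK, h1, -, h3⟩ := exists_compl hu hn
  have pu : IsPElt p u := ⟨1, by rw [pow_one, ← hu, pow_orderOf_eq_one]⟩
  rw [← hc.eq]
  exact B0_mul_eq h1 (g := ⟨u, mem_centralizer_singleton_iff.2 rfl⟩)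
    (k := ⟨a, mem_centralizer_singleton_iff.2 hc⟩) (h3 _ (isPReg_coe.1 ha))
    (fun y hy => mem_centralizer_singleton_iff.2 (by rw [pu.pPart_eq] at hy; exact hy.symm))
    (fun y hy => mem_centralizer_singleton_iff.2 (by
      rw [show pPart p (a * u) = u by rw [hc.eq, pPart_mul pu ha hc.symm]] at hy
      exact hy.symm)) hχ

theorem gal_mem_B0 {p : ℕ} {u : ℂ →+* ℂ} {χ : IrrCharacter G} (hχ : χ ∈ B0 p G) :
    gal u χ ∈ B0 p G := by
  classical
  have := Fintype.ofFinite G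
  rw [mem_B0] at hχ ⊢
  refine fun e => hχ (u.injective ?_)
  rw [map_zero, ← e, map_sum]
  refine sum_congr rfl fun g _ => ?_
  rw [map_mul, gal_apply, regInd]
  split_ifs <;> simp

theorem conj_pow' {a b : G} (h : IsConj a b) (n : ℕ) : IsConj (a ^ n) (b ^ n) := by
  obtain ⟨c, rfl⟩ := isConj_iff.1 h
  exact isConj_iff.2 ⟨c, conj_pow.symm⟩

theorem conj_iter {x : G} {k : ℕ} (h : IsConj x (x ^ k)) (j : ℕ) : IsConj x (x ^ k ^ j) := by
  induction j with
  | zero => rw [pow_zero, pow_one]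
  | succ j ih => exact ih.trans (by simpa [← pow_mul, pow_succ'] using conj_pow' h (k ^ j))

theorem conj_of {x : G} (hx : orderOf x = 11) {i j m r k : ℕ} (h : IsConj (x ^ i) (x ^ j))
    (h1 : i * m % 11 = 1) (h2 : (j * m) ^ r % 11 = k) : IsConj x (x ^ k) := by
  have := conj_pow' h m
  rw [← pow_mul, ← pow_mul, ← pow_mod_orderOf, hx, h1, pow_one] at this
  have := conj_iter this r
  rwa [← pow_mod_orderOf, hx, h2] at this

theorem inv_eq {x : G} (hx : orderOf x = 11) : x⁻¹ = x ^ 10 :=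
  inv_eq_of_mul_eq_one_left (by rw [← pow_succ, ← pow_orderOf_eq_one x, hx])

theorem sum_sq_one {ι : Type*} {R : Finset ι} {e : ι → ℤ} (h : ∑ i ∈ R, e i ^ 2 = 1) :
    ∃ i ∈ R, (e i = 1 ∨ e i = -1) ∧ ∀ F : ι → ℤ, ∑ j ∈ R, e j * F j = e i * F i := by
  classical
  obtain ⟨i, hi, h0⟩ := exists_ne_zero_of_sum_ne_zero (h ▸ one_ne_zero)
  rw [← add_sum_erase _ _ hi] at h
  have h1 := sum_nonneg (s := R.erase i) fun j _ => sq_nonneg (e j)
  have h2 : 0 < e i ^ 2 := by positivity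
  have h3 := (sum_eq_zero_iff_of_nonneg fun j _ => sq_nonneg (e j)).1
    (by omega : ∑ j ∈ R.erase i, e j ^ 2 = 0)
  refine ⟨i, hi, sq_eq_one_iff.1 (by omega), fun F => ?_⟩
  rw [← add_sum_erase _ _ hi, sum_eq_zero fun j hj => by rw [pow_eq_zero_iff two_ne_zero |>.1
    (h3 j hj), zero_mul], add_zero]

theorem avg_zero {χ : G → ℂ} (hχ : IsCharacter G χ) {x g : G} {n : ℕ} (hx : orderOf x = n)
    (hg : g ∈ normalizer (zpowers x : Set G)) (h : ∑ i ∈ range n, χ (x ^ i) = 0) :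
    ∑ i ∈ range n, χ (x ^ i * g) = 0 := by
  obtain ⟨ψ, h1, h2⟩ := G22.exists_avg' (isCharacter_res (normalizer (zpowers x : Set G)) hχ) hx
    (le_normalizer (mem_zpowers x)) fun g hg => H4.Nse.mem_normalizer_zpowers.1 hg
  have h3 := h2 1
  simp only [OneMemClass.coe_one, mul_one, h, mul_eq_zero, Nat.cast_eq_zero] at h3
  rw [← h2 ⟨g, hg⟩, char_eq_zero_of_one h1 (h3.resolve_left (hx ▸ (orderOf_pos x).ne'))]
  simp

theorem exists_invol {x : G} (hx : orderOf x = 11) (hc : ∀ a, Commute a x → a ∈ zpowers x)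
    (h : IsConj x x⁻¹) : ∃ r, r * r = 1 ∧ r * x * r⁻¹ = x⁻¹ := by
  obtain ⟨w, hw⟩ := isConj_iff.1 h
  have h1 : Commute (w ^ 2) x := mul_inv_eq_iff_eq_mul.1 (by
    calc _ = w * (w * x * w⁻¹) * w⁻¹ := by rw [sq]; group
      _ = x := by rw [hw, ← conj_inv, hw, inv_inv])
  refine ⟨w ^ 11, ?_, ?_⟩
  · have := pow_card_eq_one' (x := (⟨_, hc _ h1⟩ : zpowers x))
    rw [Nat.card_zpowers, hx] at this
    rw [← pow_add, show 11 + 11 = 2 * 11 from rfl, pow_mul]
    exact congrArg Subtype.val this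
  · rw [← hw, show 11 = 1 + 2 * 5 from rfl, pow_add, pow_mul, pow_one, mul_assoc w, (h1.pow_left 5).eq]
    group

theorem conj_mul_invol {x r : G} (hx : orderOf x = 11) (hr : r * x * r⁻¹ = x⁻¹) (i : ℕ) :
    IsConj r (x ^ i * r) := by
  refine isConj_iff.2 ⟨x ^ (6 * i), ?_⟩
  have h1 : r * (x ^ (6 * i))⁻¹ * r⁻¹ = x ^ (6 * i) := by
    rw [← conj_inv, ← conj_pow, hr, inv_pow, inv_inv]
  calc _ = x ^ (6 * i) * (r * (x ^ (6 * i))⁻¹ * r⁻¹) * r := by group
    _ = (x ^ 11) ^ i * x ^ i * r := by rw [h1]; group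
    _ = _ := by rw [← hx, pow_orderOf_eq_one, one_pow, one_mul]

section Two

variable {x : G} (hx : orderOf x = 11) (hi : IsConj x x⁻¹)
include hx hi

theorem two_sum {χ : G → ℂ} (hχ : IsCharacter G χ) :
    ∑ i ∈ range 11, χ (x ^ i) = χ 1 + 2 * ∑ n ∈ range 5, χ (x ^ 3 ^ n) := by
  have h : ∀ i j, (10 * i) % 11 = j % 11 → χ (x ^ j) = χ (x ^ i) := fun i j e => by
    rw [isClassFunction_isConj (char_isClassFunction hχ) (conj_pow' hi i), inv_eq hx, ← pow_mul,
      (H4.Nse.pow_eq_iff hx _ _).2 e]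
  have h' : ∀ i j, i % 11 = j % 11 → χ (x ^ j) = χ (x ^ i) := fun i j e => by
    rw [(H4.Nse.pow_eq_iff hx _ _).2 e]
  simp only [sum_range_succ, range_zero, sum_empty, pow_zero, Nat.reducePow, h 1 10 rfl, h 3 8 rfl,
    h 9 2 rfl, h 5 6 rfl, h 4 7 rfl, h' 5 27 rfl, h' 4 81 rfl]
  ring

theorem two_int {χ : G → ℂ} (hχ : IsCharacter G χ) :
    ∃ s : ℤ, ∑ n ∈ range 5, χ (x ^ 3 ^ n) = s := by
  obtain ⟨m, hm⟩ := G22.exists_sum_pow hχ hx
  obtain ⟨d, hd⟩ := char_one_nat hχ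
  rw [two_sum hx hi hχ, hd] at hm
  exact int_of_mul (IsIntegral.sum _ fun n _ => char_isIntegral hχ _) (k := 2) (m := 11 * m - d)
    two_ne_zero (by push_cast at hm ⊢; linear_combination hm)

theorem two_real {χ : G → ℂ} (hχ : IsCharacter G χ) (i : ℕ) : conj (χ (x ^ i)) = χ (x ^ i) := by
  rw [← char_inv hχ, ← inv_pow, ← isClassFunction_isConj (char_isClassFunction hχ) (conj_pow' hi i)]

theorem two_data (χ : IrrCharacter G) : ∃ s T : ℤ, ∑ n ∈ range 5, χ.1 (x ^ 3 ^ n) = s ∧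
    ∑ n ∈ range 5, χ.1 (x ^ 3 ^ n) * χ.1 (x ^ 3 ^ n) = T ∧ s ^ 2 ≤ 5 * T ∧ 11 ∣ 5 * T - s ^ 2 ∧
    (5 * T = s ^ 2 ↔ ∀ n < 5, χ.1 (x ^ 3 ^ n) = χ.1 x) := by
  obtain ⟨s, hs⟩ := two_int hx hi (ch χ)
  obtain ⟨T, hT⟩ := two_int hx hi (isCharacter_mul (ch χ) (ch χ))
  choose w hw using fun n => Complex.conj_eq_iff_real.1 (two_real hx hi (ch χ) (3 ^ n))
  have h1 : ∀ n, χ.1 (x ^ 3 ^ n) - χ.1 1 ∈ radI 11 := fun n => cong_one (by norm_num) (ch χ) (by
    rw [← pow_mul, mul_comm, pow_mul, ← hx, pow_orderOf_eq_one, one_pow])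
  refine ⟨s, T, hs, hT, ?_, ?_, ?_⟩
  · simp only [Pi.mul_apply, hw, sum_range_succ, range_zero, sum_empty] at hs hT
    have a : w 0 + w 1 + w 2 + w 3 + w 4 = s := by simpa using congrArg Complex.re hs
    have b : w 0 * w 0 + w 1 * w 1 + w 2 * w 2 + w 3 * w 3 + w 4 * w 4 = T := by
      simpa using congrArg Complex.re hT
    have : (s : ℝ) ^ 2 ≤ 5 * T := by
      rw [← a, ← b]
      nlinarith [sq_nonneg (w 0 - w 1), sq_nonneg (w 0 - w 2), sq_nonneg (w 0 - w 3),
        sq_nonneg (w 0 - w 4), sq_nonneg (w 1 - w 2), sq_nonneg (w 1 - w 3), sq_nonneg (w 1 - w 4),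
        sq_nonneg (w 2 - w 3), sq_nonneg (w 2 - w 4), sq_nonneg (w 3 - w 4)]
    exact_mod_cast this
  · refine dvd_of_mem_radI (p := 11) (by norm_num) ?_
    have h2 : ((5 * T - s ^ 2 : ℤ) : ℂ) = ∑ n ∈ range 5, (χ.1 (x ^ 3 ^ n) - χ.1 1) *
        (5 * χ.1 (x ^ 3 ^ n) - s) := by
      push_cast
      rw [← hT, ← hs]
      simp only [Pi.mul_apply, sum_range_succ, range_zero, sum_empty]
      ring
    rw [h2]
    exact sum_mem fun n _ => radI_mul (h1 n) (((isIntegral_natCast 5).mul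
      (char_isIntegral (ch χ) _)).sub (isIntegral_intCast s))
  · have e0 := hw 0
    rw [pow_zero, pow_one] at e0
    simp only [Pi.mul_apply, hw, e0, sum_range_succ, range_zero, sum_empty] at hs hT ⊢
    have a : w 0 + w 1 + w 2 + w 3 + w 4 = s := by simpa using congrArg Complex.re hs
    have b : w 0 * w 0 + w 1 * w 1 + w 2 * w 2 + w 3 * w 3 + w 4 * w 4 = T := by
      simpa using congrArg Complex.re hT
    refine ⟨fun h n hn => ?_, fun h => ?_⟩
    · have h' : 5 * (T : ℝ) = s ^ 2 := by exact_mod_cast h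
      rw [← a, ← b] at h'
      have key : ∀ y : ℝ, y ^ 2 ≤ (w 0 - w 1) ^ 2 + (w 0 - w 2) ^ 2 + (w 0 - w 3) ^ 2 +
          (w 0 - w 4) ^ 2 → y = 0 := fun y hy => pow_eq_zero_iff two_ne_zero |>.1
        (le_antisymm (by
          nlinarith [sq_nonneg (w 1 - w 2), sq_nonneg (w 1 - w 3),
            sq_nonneg (w 1 - w 4), sq_nonneg (w 2 - w 3), sq_nonneg (w 2 - w 4),
            sq_nonneg (w 3 - w 4)]) (sq_nonneg y))
      refine congrArg _ (sub_eq_zero.1 (key _ ?_)).symm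
      have := sq_nonneg (w 0 - w 1)
      have := sq_nonneg (w 0 - w 2)
      have := sq_nonneg (w 0 - w 3)
      have := sq_nonneg (w 0 - w 4)
      interval_cases n <;> nlinarith
    · have h' : ∀ n < 5, w n = w 0 := fun n hn => by exact_mod_cast h n hn
      rw [h' 1 (by norm_num), h' 2 (by norm_num), h' 3 (by norm_num), h' 4 (by norm_num)] at a b
      have : 5 * (T : ℝ) = s ^ 2 := by rw [← a, ← b]; ring
      exact_mod_cast this

theorem no_two [IsSimpleGroup G] (hG : ¬ IsMulCommutative G) (hN : Nat.card G ∣ 95040)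
    (h3 : ¬ IsConj x (x ^ 3)) : False := by
  classical
  have := Fintype.ofFinite G
  have := Fact.mk (show Nat.Prime 11 by norm_num)
  have hn : ¬ 11 ^ 2 ∣ Nat.card G := fun e => by have := e.trans hN; omega
  have x11 : ∀ n, (x ^ n) ^ 11 = 1 := fun n => by
    rw [← pow_mul, mul_comm, pow_mul, ← hx, pow_orderOf_eq_one, one_pow]
  have pe : ∀ n, pPart 11 (x ^ n) = x ^ n := fun n => IsPElt.pPart_eq ⟨1, x11 n⟩
  have on : ∀ n, orderOf (x ^ 3 ^ n) = 11 := fun n => by
    rw [← hx]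
    exact Nat.Coprime.orderOf_pow (by rw [hx]; exact Nat.Coprime.pow_right _ (by norm_num))
  have O1 : ∀ n ∈ range 5, ∀ m ∈ range 5, ∑ χ ∈ B0 11 G, χ.1 (x ^ 3 ^ n) * χ.1 (x ^ 3 ^ m) =
      if n = m then 11 else 0 := fun n hn' m hm => by
    rw [sum_congr rfl fun χ _ => by rw [← two_real hx hi (ch χ) (3 ^ m)]]
    split_ifs with e
    · subst e
      exact B0_norm (on n) hn
    refine B0_orth fun h => h3 ?_
    obtain ⟨a, -, r, -, h1, h2⟩ := (by decide : ∀ n ∈ range 5, ∀ m ∈ range 5, n ≠ m →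
      ∃ a < 11, ∃ r < 5, 3 ^ n * a % 11 = 1 ∧ (3 ^ m * a) ^ r % 11 = 3) n hn' m hm e
    rw [pe, pe] at h
    exact conj_of hx h h1 h2
  choose s T hs hT h1 h2 h4 using two_data hx hi
  have sT : ∑ χ ∈ B0 11 G, T χ = 55 := by
    have : ((∑ χ ∈ B0 11 G, T χ : ℤ) : ℂ) = 55 := by
      rw [Int.cast_sum, sum_congr rfl fun χ _ => (hT χ).symm, sum_comm,
        sum_congr rfl fun n hn => O1 n hn n hn]
      norm_num
    exact_mod_cast this
  have ss : ∑ χ ∈ B0 11 G, s χ ^ 2 = 55 := by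
    have : ((∑ χ ∈ B0 11 G, s χ ^ 2 : ℤ) : ℂ) = 55 := by
      rw [Int.cast_sum, sum_congr rfl fun χ _ => by
        rw [Int.cast_pow, sq, ← hs, sum_mul_sum], sum_comm, sum_congr rfl fun n hn => by
        rw [sum_comm, sum_congr rfl fun m hm => O1 n hn m hm, sum_ite_eq, if_pos hn]]
      norm_num
    exact_mod_cast this
  have sd : ∀ d : IrrCharacter G → ℕ, (∀ χ, χ.1 1 = d χ) → ∑ χ ∈ B0 11 G, s χ * d χ = 0 :=
    fun d hd => by
      have : ((∑ χ ∈ B0 11 G, s χ * d χ : ℤ) : ℂ) = 0 := by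
        rw [Int.cast_sum, sum_congr rfl fun χ _ => by rw [Int.cast_mul, ← hs, sum_mul], sum_comm]
        refine sum_eq_zero fun n _ => ?_
        rw [← B0_orth (p := 11) (x := x ^ 3 ^ n) (y := 1) fun h => by
          rw [pe, (IsPElt.one 11).pPart_eq, isConj_one_left] at h
          have := on n
          rw [h, orderOf_one] at this
          omega]
        exact sum_congr rfl fun χ _ => by simp [hd]
      exact_mod_cast this
  obtain ⟨u, hu⟩ := exists_gal (G := G) (show Nat.Coprime 3 11 by norm_num)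
  have g1 : ∀ c χ m, ((gal u)^[c] χ).1 (x ^ m) = χ.1 (x ^ (m * 3 ^ c)) := fun c => by
    induction c with
    | zero => simp
    | succ c ih =>
      intro χ m
      rw [Function.iterate_succ_apply', (hu _ _).1 (x11 m), ← pow_mul, ih, mul_assoc, ← pow_succ']
  have g2 : ∀ (F : G → ℂ), ∑ n ∈ range 5, F (x ^ (3 ^ n * 3)) = ∑ n ∈ range 5, F (x ^ 3 ^ n) :=
    fun F => by
      simp only [sum_range_succ, range_zero, sum_empty, pow_zero, Nat.reducePow, Nat.reduceMul]
      rw [(H4.Nse.pow_eq_iff hx 243 1).2 rfl]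
      ring
  have g3 : ∀ c χ, s ((gal u)^[c] χ) = s χ ∧ T ((gal u)^[c] χ) = T χ ∧
      ((gal u)^[c] χ).1 1 = χ.1 1 ∧ (χ ∈ B0 11 G → (gal u)^[c] χ ∈ B0 11 G) := fun c χ => by
    induction c with
    | zero => simp
    | succ c ih =>
      rw [Function.iterate_succ_apply', ← ih.1, ← ih.2.1, ← ih.2.2.1]
      have := g1 1 ((gal u)^[c] χ)
      simp only [Function.iterate_one, pow_one] at this
      refine ⟨Int.cast_injective (α := ℂ) ?_, Int.cast_injective (α := ℂ) ?_, gal_one _ _,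
        fun h => gal_mem_B0 (ih.2.2.2 h)⟩
      · simp only [← hs, this]
        exact g2 _
      · simp only [← hT, this]
        exact g2 fun g => _ * _
  have so : s (o G) = 5 ∧ T (o G) = 5 := by
    have a := hs (o G)
    have b := hT (o G)
    simp only [o_apply, mul_one, sum_const, card_range, nsmul_eq_mul] at a b
    exact ⟨by exact_mod_cast a.symm, by exact_mod_cast b.symm⟩
  have orb : ∀ ψ ∈ B0 11 G, 5 * T ψ ≠ s ψ ^ 2 → ∃ R ⊆ B0 11 G, ∀ F : IrrCharacter G → ℤ,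
      (∀ c, F ((gal u)^[c] ψ) = F ψ) → ∑ χ ∈ B0 11 G, F χ = F (o G) + 5 * F ψ + ∑ χ ∈ R, F χ ∧
      o G ∉ R := fun ψ hψ hne => by
    have inj : Set.InjOn (fun c => (gal u)^[c] ψ) (range 5) := by
      have key : ∀ a c, 0 < c → c < 5 → (gal u)^[a] ψ ≠ (gal u)^[a + c] ψ := fun a c c0 c5 e => by
        rw [Function.iterate_add_apply] at e
        have e1 := Function.iterate_fixed ((gal_inj u).iterate a e).symm
        refine hne ((h4 ψ).2 fun n hn => ?_)
        obtain ⟨j, -, hj⟩ := (by decide : ∀ c < 5, 0 < c → ∀ n < 5, ∃ j < 5,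
          1 * 3 ^ (c * j) % 11 = 3 ^ n % 11) c c5 c0 n hn
        rw [← (H4.Nse.pow_eq_iff hx _ _).2 hj, ← g1, Function.iterate_mul, e1, pow_one]
      intro a ha b hb e
      simp only [coe_range, Set.mem_Iio] at ha hb
      rcases lt_trichotomy a b with h | h | h
      · exact absurd (by rwa [Nat.add_sub_cancel' h.le]) (key a (b - a) (by omega) (by omega))
      · exact h
      · exact absurd (by rw [Nat.add_sub_cancel' h.le]; exact e.symm)
          (key b (a - b) (by omega) (by omega))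
    have ho : o G ∉ (range 5).image fun c => (gal u)^[c] ψ := fun h => by
      obtain ⟨c, -, e⟩ := mem_image.1 h
      have := g3 c ψ
      rw [e, so.1, so.2] at this
      exact hne (by rw [← this.1, ← this.2.1]; rfl)
    have hsub : insert (o G) ((range 5).image fun c => (gal u)^[c] ψ) ⊆ B0 11 G :=
      insert_subset one_mem_B0 (image_subset_iff.2 fun c _ => (g3 c ψ).2.2.2 hψ)
    refine ⟨_ \ insert (o G) ((range 5).image fun c => (gal u)^[c] ψ), sdiff_subset, fun F hF =>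
      ⟨?_, by simp⟩⟩
    rw [← sum_sdiff hsub, sum_insert ho, sum_image inj, sum_congr rfl fun c _ => hF c, add_comm]
    simp
  have cases : ∀ ψ ∈ B0 11 G, 5 * T ψ ≠ s ψ ^ 2 → s ψ ^ 2 = 4 ∧ T ψ = 3 ∨
      s ψ ^ 2 = 1 ∧ T ψ = 9 := fun ψ hψ hne => by
    obtain ⟨R, -, hR⟩ := orb ψ hψ hne
    have a := (hR (fun χ => s χ ^ 2) fun c => by rw [(g3 c ψ).1]).1
    have b := (hR (fun χ => 5 * T χ - s χ ^ 2) fun c => by rw [(g3 c ψ).1, (g3 c ψ).2.1]).1
    have a' := sum_nonneg (s := R) fun χ _ => sq_nonneg (s χ)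
    have b' := sum_nonneg (s := R) fun χ _ => sub_nonneg.2 (h1 χ)
    rw [sum_sub_distrib, ← mul_sum, sT, ss, so.1, so.2] at b
    rw [ss, so.1] at a
    have c1 := h1 ψ
    have c2 := h2 ψ
    have c3 : -3 < s ψ ∧ s ψ < 3 := abs_lt.1 (abs_lt_of_sq_lt_sq (by omega) (by norm_num))
    obtain ⟨c3, c4⟩ := c3
    generalize s ψ = t at *
    interval_cases t <;> omega
  obtain ⟨ψ, hψ, hψ1, hψ2⟩ : ∃ ψ ∈ B0 11 G, s ψ ^ 2 = 1 ∧ T ψ = 9 := by
    by_contra hc
    have := sum_le_sum (s := B0 11 G) (f := fun χ => 4 * T χ) (g := fun χ => 3 * s χ ^ 2)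
      fun χ hχ => by
        by_cases e : 5 * T χ = s χ ^ 2
        · nlinarith [sq_nonneg (s χ)]
        · rcases cases χ hχ e with e | e
          · omega
          · exact absurd ⟨χ, hχ, e⟩ hc
    rw [← mul_sum, ← mul_sum, sT, ss] at this
    omega
  obtain ⟨R, hRB, hR⟩ := orb ψ hψ (by omega)
  have a := (hR (fun χ => s χ ^ 2) fun c => by rw [(g3 c ψ).1]).1
  have b := (hR (fun χ => 5 * T χ - s χ ^ 2) fun c => by rw [(g3 c ψ).1, (g3 c ψ).2.1]).1
  rw [sum_sub_distrib, ← mul_sum, sT, ss, so.1, so.2] at b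
  rw [ss, so.1] at a
  have b' := (sum_eq_zero_iff_of_nonneg fun χ _ => sub_nonneg.2 (h1 χ)).1
    (by omega : ∑ χ ∈ R, (5 * T χ - s χ ^ 2) = 0)
  have c : ∀ χ ∈ R, (∀ n < 5, χ.1 (x ^ 3 ^ n) = χ.1 x) ∧ χ.1 x = (s χ / 5 : ℤ) ∧
      s χ = 5 * (s χ / 5) := fun χ hχ => by
    have c1 := (h4 χ).1 (sub_eq_zero.1 (b' χ hχ))
    have c2 := hs χ
    rw [sum_congr rfl fun n hn => c1 n (mem_range.1 hn), sum_const, card_range, nsmul_eq_mul] at c2
    obtain ⟨e, he⟩ := int_of_mul (char_isIntegral (ch χ) x) (by norm_num) c2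
    have c3 : s χ = 5 * e := by
      rw [he] at c2
      exact_mod_cast c2.symm
    exact ⟨c1, by rw [he, c3]; simp, by omega⟩
  obtain ⟨χ, hχ, he, hF⟩ := sum_sq_one (R := R) (e := fun χ => s χ / 5) (by
    rw [sum_congr rfl fun χ hχ => by rw [(c χ hχ).2.2, mul_pow], ← mul_sum] at a
    omega)
  choose d d0 hd using fun χ : IrrCharacter G => irr_one_pos χ.2
  obtain ⟨c1, hoR⟩ := hR (fun χ => s χ * d χ) fun c => by
    rw [(g3 c ψ).1, show d ((gal u)^[c] ψ) = d ψ by
      exact_mod_cast (hd _).symm.trans ((g3 c ψ).2.2.1.trans (hd _))]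
  rw [sd d hd, so.1, show d (o G) = 1 by exact_mod_cast (hd (o G)).symm.trans (o_apply 1), sum_congr rfl fun χ hχ => by
    rw [(c χ hχ).2.2, mul_assoc], ← mul_sum, hF] at c1
  have hχo : χ ≠ o G := fun e => hoR (e ▸ hχ)
  have c2 := one_lt_deg hG hχo (hd χ)
  have c3 := (irr_degree_dvd_card χ.2 (hd χ)).trans hN
  have c4 := (irr_degree_dvd_card ψ.2 (hd ψ)).trans hN
  have c5 : (11 : ℤ) ∣ s χ / 5 - d χ := dvd_of_mem_radI (p := 11) (by norm_num) (by
    have := cong_one (by norm_num) (ch χ) (x11 1)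
    rw [pow_one, (c χ hχ).2.1, hd] at this
    simpa using this)
  have c6 : (11 : ℤ) ∣ s ψ - 5 * d ψ := dvd_of_mem_radI (p := 11) (by norm_num) (by
    have := sum_mem (S := radI 11) fun n (_ : n ∈ range 5) =>
      cong_one (by norm_num) (ch ψ) (x11 (3 ^ n))
    rw [sum_sub_distrib, hs, hd] at this
    simpa using this)
  have c7 := d0 ψ
  have c8 : d χ = 10 ∧ s χ / 5 = -1 := by
    have key : ∀ a ∈ H4.M12R.D, (a % 11 = 1 → (a + 1) ∣ 95040 → a = 1) ∧
        (a % 11 = 10 → (a - 1) ∣ 95040 → a = 10) := by decide +kernel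
    have := key _ (mem_D c3)
    rcases he with e | e <;> rcases sq_eq_one_iff.1 hψ1 with e' | e' <;> rw [e, e'] at c1 <;>
      rw [e] at c5 <;> rw [e'] at c6
    · omega
    · have := this.1 (by omega) (by rwa [show d χ + 1 = d ψ by omega])
      omega
    · exact ⟨this.2 (by omega) (by rwa [show d χ - 1 = d ψ by omega]), e⟩
    · omega
  have c9 : ∀ i, 0 < i → i < 11 → χ.1 (x ^ i) = -1 := fun i i0 i1 => by
    obtain ⟨n, hn, e⟩ := (by decide : ∀ i < 11, 0 < i → ∃ n < 5, i % 11 = 3 ^ n % 11 ∨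
      i % 11 = 10 * 3 ^ n % 11) i i1 i0
    have := (c χ hχ).1 n hn
    rw [(c χ hχ).2.1, c8.2] at this
    rcases e with e | e <;> rw [(H4.Nse.pow_eq_iff hx _ _).2 e]
    · simpa using this
    · rw [pow_mul, ← inv_eq hx, ← eq_of_conj χ (conj_pow' hi _)]
      simpa using this
  have c10 : ∑ i ∈ range 11, χ.1 (x ^ i) = 0 := by
    rw [sum_range_succ', sum_congr rfl fun i hi => c9 _ (by omega) (by simp at hi; omega), pow_zero,
      hd, c8.1]
    norm_num
  obtain ⟨r, hr, hrx⟩ := exists_invol hx (fun a ha => by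
    have a1 := Commute.pReg_left (p := 11) ha
    have a2 := avg_zero (ch χ) hx (H4.Nse.mem_normalizer_zpowers.2 (by
      rw [a1.eq, mul_inv_cancel_right]; exact mem_zpowers x)) c10
    rw [sum_range_succ', sum_congr rfl fun i hi => by
      have hi' : i < 10 := mem_range.1 hi
      rw [B0_mul (by
        rw [← hx]
        exact Nat.Coprime.orderOf_pow (by rw [hx]; interval_cases i <;> norm_num)) hn
        (isPReg_pReg a) (a1.pow_right _) (hRB hχ), c9 _ (by omega) (by omega)]] at a2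
    have a3 := ker_eq hG hχo (g := pReg 11 a) (by
      rw [hd, c8.1]
      simp at a2
      linear_combination a2)
    have a4 : IsPElt 11 a := by
      have := isPElt_pPart (p := 11) a
      rwa [← mul_one (pPart 11 a), ← a3, pPart_mul_pReg] at this
    by_contra a5
    refine hn ?_
    have a6 := a4.isPGroup_zpowers.to_sup_of_normal_right'
      (IsPGroup.of_card (n := 1) (by rw [Nat.card_zpowers, hx, pow_one]) : IsPGroup 11 (zpowers x))
      (zpowers_le_of_mem (H4.Nse.mem_normalizer_zpowers.2 (by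
        rw [ha.eq, mul_inv_cancel_right]; exact mem_zpowers x)))
    obtain ⟨k, hk⟩ := a6.exists_card_eq
    have a7 : ¬ Nat.card (zpowers a ⊔ zpowers x : Subgroup G) ≤ Nat.card (zpowers x) := fun e =>
      a5 ((eq_of_le_of_card_ge le_sup_right e).ge (mem_sup_left (mem_zpowers a)))
    rw [Nat.card_zpowers, hx, hk] at a7
    refine (pow_dvd_pow 11 ?_).trans (hk ▸ card_subgroup_dvd_card _)
    by_contra a8
    have : k ≤ 1 := by omega
    interval_cases k <;> omega) hi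
  obtain ⟨v, hv⟩ := L0.SC3.exists_int_invol (ch χ) hr
  have c11 := avg_zero (ch χ) hx (g := r) (H4.Nse.mem_normalizer_zpowers.2
    (hrx ▸ inv_mem (mem_zpowers x))) c10
  rw [sum_congr rfl fun i _ => (eq_of_conj χ (conj_mul_invol hx hrx i)).symm, hv] at c11
  have c12 := four_dvd hG (ch χ) hr (hd χ) hv
  have c13 : v = 0 := by simpa using c11
  rw [c8.1, c13] at c12
  omega

end Two

end Cfsg.Agent.H5.MT
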