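import Cfsg.Agent.L0.C12Basic
import Cfsg.Agent.S0336
import Cfsg.Agent.H3.CharInt

/-!
# Groups of order prime to fifteen are solvable
-/

set_option autoImplicit false

namespace Cfsg.Agent.L0.C12

open Cfsg.Agent.L0.SC3

theorem solv15 {X : Type*} [Group X] [Finite X] (h3 : ¬ 3 ∣ Nat.card X) (h5 : ¬ 5 ∣ Nat.card X) :
    Group.IsSolvable X := by
  refine H3.isSolvable_of_card_induction (fun n => ¬ 3 ∣ n ∧ ¬ 5 ∣ n)
    (fun m n hmn h => ⟨fun e => h.1 (e.trans hmn), fun e => h.2 (e.trans hmn)⟩)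
    (fun H _ _ _ hH => ?_) X ⟨h3, h5⟩
  rw [← IsSimpleGroup.comm_iff_isSolvable]
  by_contra hn
  push Not at hn
  obtain ⟨-, m, -, e⟩ := S0336.result hn hH.1
  refine hH.2 (e ▸ Dvd.dvd.mul_right (Dvd.dvd.mul_left ?_ _) _)
  have : (2 ^ (2 * m + 1)) ^ 2 = 4 * 16 ^ m := by
    rw [← pow_mul, show (2 * m + 1) * 2 = 2 + 4 * m by ring, pow_add, pow_mul]; norm_num
  have h1 : 16 ^ m % 5 = 1 := by rw [Nat.pow_mod]; simp
  omega

theorem solv3 {G : Type*} [Group G] [Finite G] (h5 : ¬ 5 ∣ Nat.card G) {B : Subgroup G}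
    (hB : ∀ b ∈ B, b ^ 3 = 1 → b = 1) : Group.IsSolvable B :=
  solv15 (not_dvd_card_iff.mpr hB) fun e => h5 (e.trans B.card_subgroup_dvd_card)

end Cfsg.Agent.L0.C12
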