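import Cfsg.Agent.H5.MtK
import Cfsg.Agent.H4.M11Rec2
import Cfsg.Agent.H4.M11Nse

/-!
# Groups whose order divides that of `M₁₂`, XIII: simple groups of order `7920`
-/

set_option autoImplicit false
set_option linter.unusedSectionVars false

namespace Cfsg.Agent.H5.MT

open Cfsg Cfsg.Agent.H3 Subgroup Finset H4.Nse H4.M12R
open Cfsg.Agent.H9.FT (radI radI_mul radI_mul' dvd_of_mem_radI)
open scoped ComplexConjugate Classical

variable {G : Type*} [Group G] [Finite G]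

theorem card_val_lt (χ : IrrCharacter G) {S : Finset G} {v : ℤ} (h : ∀ g ∈ S, χ.1 g = v)
    (h1 : 1 ∉ S) : S.card * v ^ 2 < Nat.card G := by
  have := Fintype.ofFinite G
  have h0 := sum_normSq_eq χ.1
  have h2 : ∑ g ∈ S, ‖χ.1 g‖ ^ 2 < ∑ g, ‖χ.1 g‖ ^ 2 :=
    sum_lt_sum_of_subset (subset_univ S) (mem_univ 1) h1
      (pow_pos (norm_pos_iff.2 (irr_one_ne_zero χ.2)) 2) fun _ _ _ => sq_nonneg _
  rw [sum_congr rfl fun g hg => by rw [h g hg, Complex.norm_intCast, sq_abs], sum_const,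
    nsmul_eq_mul, h0, classInner_irr_self χ.2, Complex.one_re, mul_one] at h2
  exact_mod_cast h2

theorem dvd_ord {g : G} {p k : ℕ} (hp : p.Prime) (hg : g ^ p ^ k = 1) (h1 : g ≠ 1) :
    p ∣ orderOf g := by
  obtain ⟨i, -, hi⟩ := (Nat.dvd_prime_pow hp).1 (orderOf_dvd_of_pow_eq_one hg)
  exact hi ▸ dvd_pow_self p fun e => h1 (orderOf_eq_one_iff.1 (by rw [hi, e, pow_zero]))

theorem no_cyclic [IsSimpleGroup G] (hG : ¬ IsMulCommutative G) {g : G} {k : ℕ}
    (hg : orderOf g = 2 ^ (k + 1)) : 2 ∣ (zpowers g).index := by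
  by_contra h
  have := Fact.mk Nat.prime_two
  have h1 : Nat.card (zpowers g) = 2 ^ (k + 1) := by rw [Nat.card_zpowers, hg]
  refine H7.not_normalizer_le_centralizer hG ((IsPGroup.of_card h1).toSylow h) (fun e => ?_)
    (IsCyclic.normalizer_le_centralizer ((Nat.minFac_eq_two_iff _).2
      ((dvd_pow_self 2 k.succ_ne_zero).trans (hg ▸ orderOf_dvd_natCard g)))
      (isCyclic_zpowers g))
  rw [show zpowers g = ⊥ from e, card_bot] at h1
  exact (Nat.one_lt_two_pow k.succ_ne_zero).ne h1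

namespace B11

variable {x y : G} {X : Fin 5 → IrrCharacter G} {ψ α β γ : IrrCharacter G}
  (h : B11 x y X ψ α β γ)
include h

theorem ne3 : α ≠ β ∧ α ≠ γ ∧ β ≠ γ := by
  have a := h.da
  have b := h.db
  have c := h.dc
  refine ⟨?_, ?_, ?_⟩ <;> rintro rfl <;> simp_all

theorem split11 {A : Type*} [AddCommMonoid A] (F : IrrCharacter G → A) :
    ∑ θ, F θ = F (o G) + F ψ + (F (X 0) + (F (X 1) + F (X 2) + F (X 3)) + F (X 4)) +
      (F α + (F β + F γ)) := by
  rw [h.split, h.rs, Fin.sum_univ_five, sum_insert (by simp [h.ne3]), sum_pair h.ne3.2.2]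
  simp only [add_assoc]

theorem ratR {θ : IrrCharacter G} (hθ : θ ∈ ({α, β, γ} : Finset _)) (g : G) :
    ∃ n : ℤ, θ.1 g = n := by
  refine H9.FT.int_of_fixed (char_isIntegral (ch _) g) fun u => ?_
  have h1 : gal u θ ∈ ({α, β, γ} : Finset _) := h.rs ▸ mem_filter.2 ⟨mem_univ _, by
    rw [gal_apply, (mem_filter.1 (h.rs.ge hθ)).2, map_zero]⟩
  have h2 := gal_one u θ
  have a := h.da
  have b := h.db
  have c := h.dc
  simp only [mem_insert, mem_singleton] at h1 hθ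
  rw [← gal_apply]
  rcases hθ with rfl | rfl | rfl <;> rcases h1 with e | e | e <;> simp_all

theorem no33 {d : ℕ} (hd : d ∈ charDegrees G) : ¬ 33 ∣ d := fun e => by
  obtain ⟨χ, h1, h2⟩ := H6.mem_charDegrees.1 hd
  have h3 : (⟨χ, h1⟩ : IrrCharacter G) ∈ ({α, β, γ} : Finset _) := h.rs ▸ mem_filter.2 ⟨mem_univ _,
    defz (p := 11) (by norm_num) h2 (fun e' => absurd (h.card ▸ (Nat.mul_dvd_mul
      (Dvd.dvd.trans (by norm_num : 11 ∣ 33) e) (Nat.dvd_of_mod_eq_zero e')).trans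
      (Nat.mul_div_cancel' (irr_degree_dvd_card h1 h2)).dvd) (by norm_num)) h.ord.symm.dvd⟩
  have a := h.da
  have b := h.db
  have c := h.dc
  simp only [mem_insert, mem_singleton] at h3
  rcases h3 with rfl | rfl | rfl
  · rw [show d = 11 by exact_mod_cast h2.symm.trans a] at e; omega
  · rw [show d = 44 by exact_mod_cast h2.symm.trans b] at e; omega
  · rw [show d = 55 by exact_mod_cast h2.symm.trans c] at e; omega

theorem vals {g : G} {n : ℕ} (hg : g ^ n = 1) (hn : n.Coprime 55) (h1 : g ≠ 1) : ∃ p c q : ℤ,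
    (X 0).1 g = p ∧ (X 4).1 g = c ∧ α.1 g = q ∧ β.1 g = (1 + 2 * p + q : ℤ) ∧
    γ.1 g = (-(1 + 2 * p + q + c) : ℤ) ∧ (X 1).1 g + (X 2).1 g + (X 3).1 g = (1 - p + c : ℤ) ∧
    ((1 + 2 * p ^ 2 + c ^ 2 + q ^ 2 + (1 + 2 * p + q) ^ 2 + (1 + 2 * p + q + c) ^ 2 : ℤ) : ℝ) +
      (‖(X 1).1 g‖ ^ 2 + ‖(X 2).1 g‖ ^ 2 + ‖(X 3).1 g‖ ^ 2) = Nat.card (centralizer {g}) ∧
    Nat.card (centralizer {g}) ∣ 144 := by
  have hr := reg_of hg (hn.coprime_dvd_right (by norm_num))
  have h5 : ¬ orderOf g ∣ 5 := fun e => h1 (orderOf_eq_one_iff.1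
    (((hn.coprime_dvd_left (orderOf_dvd_of_pow_eq_one hg)).coprime_dvd_right
      (by norm_num : 5 ∣ 55)).eq_one_of_dvd e))
  have key : ∀ j, (∀ i, tv PB i = tv PB j → i = j) → ∃ n : ℤ, (X j).1 g = n := fun j hj =>
    h.rat (IsPReg.one 11) (v := tv PB j) (by simpa using h.deg j) (fun i e _ => hj i e) hr
  obtain ⟨p, hp⟩ := key 0 (by decide)
  obtain ⟨c, hc⟩ := key 4 (by decide)
  obtain ⟨q, hq⟩ := h.ratR (θ := α) (by simp) g
  have s1 := h.rel1 hr
  have s2 := sum_irr_mul_conj y g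
  have s3 := sum_irr_one_mul g
  have s4 := sum_irr_normSq g
  rw [if_neg (not_conj_of_ord fun e => h5 (e ▸ h.oy.dvd))] at s2
  rw [if_neg h1] at s3
  rw [h.split11] at s2 s3 s4
  simp only [Fin.sum_univ_five, h.vy, o_apply, h.reg g hr, h.reg 1 (IsPReg.one 11), h.deg, h.da, h.db,
    h.dc, hp, hc, hq] at s1 s2 s3 s4
  simp only [tv, PB, Matrix.cons_val] at s1 s2 s3
  norm_num [sg] at s1 s2 s3
  have a1 : β.1 g = (1 + 2 * p + q : ℤ) := by push_cast; linear_combination -s2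
  have a2 : (X 1).1 g + (X 2).1 g + (X 3).1 g = (1 - p + c : ℤ) := by
    push_cast; linear_combination -s1
  have a3 : γ.1 g = (-(1 + 2 * p + q + c) : ℤ) := by
    push_cast at a1 a2 ⊢
    linear_combination (1 / 55) * s3 - (10 / 55) * a2 - (44 / 55) * a1
  refine ⟨p, c, q, hp, hc, hq, a1, a3, a2, ?_, ?_⟩
  · simp only [a1, a3, Complex.norm_intCast, sq_abs, norm_one] at s4
    push_cast at s4 ⊢
    linear_combination s4
  · refine (by decide +kernel : ∀ C ∈ H4.M12R.D, C ∣ 7920 → C % 11 ≠ 0 → ¬ 5 ∣ C → C ∣ 144) _ (h.cD _)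
      (h.card ▸ card_subgroup_dvd_card _) (h.not11 hr h1) fun e => ?_
    obtain ⟨a, ha, hc⟩ := exists_comm Nat.prime_five e
    have := ord_dvd_cent hc.symm
    rw [card_cent_eq Nat.prime_five h.oy ha h.nsq5, h.cy] at this
    exact h5 this

theorem invol {t : G} (ht : orderOf t = 2) : Nat.card (centralizer {t}) = 48 ∧
    (X 0).1 t = (0 : ℤ) ∧ (X 4).1 t = (-3 : ℤ) ∧ α.1 t = (3 : ℤ) ∧ β.1 t = (4 : ℤ) ∧
    γ.1 t = (-1 : ℤ) ∧ ∃ i j k, (X i).1 t = (2 : ℤ) ∧ (X j).1 t = (-2 : ℤ) ∧ (X k).1 t = (-2 : ℤ) ∧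
      (∀ l, tv PB l = tv PB i → (X l).1 t = (2 : ℤ) → l = i) ∧
      (∀ F : Fin 5 → ℂ, F 1 + F 2 + F 3 = F i + (F j + F k)) ∧
      ∀ F : Fin 5 → ℝ, F 1 + F 2 + F 3 = F i + (F j + F k) := by
  have := h.simple
  obtain ⟨a, ha, -, h1 | ⟨-, h1⟩⟩ := h.inv11 h.card ht
  · exact absurd h1 (by decide)
  obtain ⟨p, c, q, a1, a2, a3, a4, a5, -, a7, a8⟩ :=
    h.vals (pw ht) (by norm_num) (ne_of_ord ht (by norm_num))
  have h2 := four_dvd h.nc (ch α) (sq_of_ord ht).1 h.da a3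
  simp only [List.mem_cons, Prod.mk.injEq, List.not_mem_nil, or_false] at h1
  obtain rfl : p = 0 := by have : a 0 = p := by exact_mod_cast (ha 0).symm.trans a1
                           omega
  obtain rfl : c = -3 := by have : a 4 = c := by exact_mod_cast (ha 4).symm.trans a2
                            omega
  simp only [ha, Complex.norm_intCast, sq_abs] at a7
  have h3 : 27 + 3 * q ^ 2 - 2 * q = Nat.card (centralizer {t}) := by
    apply Int.cast_injective (α := ℝ)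
    rcases h1 with e | e | e <;> simp only [e] at a7 <;> push_cast at a7 ⊢ <;> linear_combination a7
  have h4 := Nat.le_of_dvd (by norm_num) a8
  have h5 : -7 < q ∧ q < 7 := ⟨by nlinarith, by nlinarith⟩
  obtain rfl : q = 3 := by
    have h6 : q = -5 ∨ q = -1 ∨ q = 3 := by omega
    rcases h6 with rfl | rfl | rfl
    · rw [show Nat.card (centralizer {t}) = 112 by omega] at a8
      omega
    · rw [show Nat.card (centralizer {t}) = 32 by omega] at a8
      omega
    · rfl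
  refine ⟨by omega, a1, a2, a3, a4, a5, ?_⟩
  rcases h1 with e | e | e
  · exact ⟨3, 1, 2, by simp [ha, e], by simp [ha, e], by simp [ha, e], fun l => by
      fin_cases l <;> simp [ha, e, tv, PB] <;> norm_num, fun F => by ring, fun F => by ring⟩
  · exact ⟨2, 1, 3, by simp [ha, e], by simp [ha, e], by simp [ha, e], fun l => by
      fin_cases l <;> simp [ha, e, tv, PB] <;> norm_num, fun F => by ring, fun F => by ring⟩
  · exact ⟨1, 2, 3, by simp [ha, e], by simp [ha, e], by simp [ha, e], fun l => by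
      fin_cases l <;> simp [ha, e, tv, PB] <;> norm_num, fun F => by ring, fun F => by ring⟩

theorem three {g : G} {k : ℕ} (hg : g ^ 3 ^ k = 1) (h1 : g ≠ 1) :
    Nat.card (centralizer {g}) = 18 ∧ (X 0).1 g = (-2 : ℤ) := by
  obtain ⟨t, -, ht⟩ := exists_mem_orderOf Nat.prime_two (H := (⊤ : Subgroup G))
    (by rw [card_top, h.card]; norm_num)
  obtain ⟨-, b1, b2, b3, b4, b5, i, j, l, b6, b7, b8, b9, b10, b11⟩ := h.invol ht
  have hn : (3 ^ k).Coprime 55 := Nat.Coprime.pow_left _ (by norm_num)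
  have hr := reg_of hg (hn.coprime_dvd_right (by norm_num))
  have rt := reg_of (pw ht) (by norm_num)
  obtain ⟨p, c, q, a1, a2, a3, a4, a5, a6, a7, a8⟩ := h.vals hg hn h1
  have h2 := dvd_ord Nat.prime_three hg h1
  obtain rfl : c = 0 := by
    exact_mod_cast a2.symm.trans (defz Nat.prime_three (h.deg 4) (by rw [h.card]; decide) h2)
  obtain ⟨a, ha⟩ := h.rat rt b6 b9 hr
  have s := sum_irr_mul_conj t g
  rw [if_neg (not_conj_of_ord fun e => by rw [← e, ht] at h2; omega), h.split11,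
    b10 fun l => (X l).1 g * conj ((X l).1 t)] at s
  rw [b10 fun l => (X l).1 g] at a6
  rw [b11 fun l => ‖(X l).1 g‖ ^ 2] at a7
  simp only [o_apply, h.reg g hr, h.reg t rt, a1, a2, a3, a4, a5, ha, b1, b2, b3, b4, b5, b6, b7, b8,
    map_intCast, map_one, Complex.norm_intCast, sq_abs] at s a6 a7
  obtain rfl : a = -1 - 3 * p - 2 * q := by
    apply Int.cast_injective (α := ℂ)
    push_cast at s a6 ⊢
    linear_combination (1 / 4) * s + (1 / 2) * a6
  have h3 : (((2 + 2 * p + 2 * q) ^ 2 : ℤ) : ℝ) ≤ 2 * (‖(X j).1 g‖ ^ 2 + ‖(X l).1 g‖ ^ 2) := by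
    have := norm_add_le ((X j).1 g) ((X l).1 g)
    rw [show (X j).1 g + (X l).1 g = (2 + 2 * p + 2 * q : ℤ) by
      push_cast at a6 ⊢; linear_combination a6, Complex.norm_intCast] at this
    rw [Int.cast_pow, ← sq_abs]
    nlinarith [pow_le_pow_left₀ (abs_nonneg _) this 2, sq_nonneg (‖(X j).1 g‖ - ‖(X l).1 g‖)]
  have h4 : 2 * (1 + 2 * p ^ 2 + q ^ 2 + 2 * (1 + 2 * p + q) ^ 2 + (-1 - 3 * p - 2 * q) ^ 2) +
      (2 + 2 * p + 2 * q) ^ 2 ≤ 2 * Nat.card (centralizer {g}) := by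
    rw [← Int.cast_le (R := ℝ)]
    push_cast at a7 h3 ⊢
    linarith
  have h5 := cong_int Nat.prime_three (ch (X 0)) hg (Commute.one_right g) (b := 16)
    (by rw [mul_one, a1]) ((h.deg 0).trans (Int.cast_natCast 16).symm)
  have h6 := cong_int Nat.prime_three (ch α) hg (Commute.one_right g) (b := 11)
    (by rw [mul_one, a3]) (by simpa using h.da)
  have h7 := dvd_of_central (X 0) {0} (fun _ : ℕ => g) (fun _ _ => rfl) (h.deg 0) (a := p)
    (by simpa using a1)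
  have h8 := index_mul_card' (centralizer {g}) h.card
  have h9 : 9 ∣ Nat.card (centralizer {g}) := by
    obtain ⟨i, -, hi⟩ := (Nat.dvd_prime_pow Nat.prime_three).1 (orderOf_dvd_of_pow_eq_one hg)
    have h2 : i ≤ 2 := by
      by_contra h2
      exact absurd ((pow_dvd_pow 3 (show 3 ≤ i by omega)).trans
        (hi ▸ h.card ▸ orderOf_dvd_natCard g)) (by norm_num)
    obtain ⟨P, h3, -, hP⟩ := exists_between (m := 2) Nat.prime_three (le_top (a := zpowers g))
      (by rw [Nat.card_zpowers, hi]) h2 (by rw [card_top, h.card]; norm_num)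
    exact (show 9 = 3 ^ 2 from rfl) ▸ hP ▸ card_dvd_of_le fun q hq =>
      mem_centralizer_singleton_iff.2 (comm_of_nine hP hq (h3 (mem_zpowers g)))
  have h10 := Nat.le_of_dvd (by norm_num) a8
  have key : ∀ C ∈ [9, 18, 36, 72, 144], ∀ p ∈ (List.range 19).map fun i : ℕ => (i : ℤ) - 9,
      ∀ q ∈ (List.range 25).map fun i : ℕ => (i : ℤ) - 12, 3 ∣ p - 16 → 3 ∣ q - 11 →
      2 * (1 + 2 * p ^ 2 + q ^ 2 + 2 * (1 + 2 * p + q) ^ 2 + (-1 - 3 * p - 2 * q) ^ 2) +
      (2 + 2 * p + 2 * q) ^ 2 ≤ 2 * (C : ℕ) → 16 ∣ (7920 / C : ℕ) * p → C = 18 ∧ p = -2 := by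
    decide +kernel
  have p1 := sq_nonneg p
  have p2 := sq_nonneg q
  have p3 := sq_nonneg (1 + 2 * p + q)
  have p4 := sq_nonneg (-1 - 3 * p - 2 * q)
  have p5 := sq_nonneg (2 + 2 * p + 2 * q)
  have q1 : -10 < p ∧ p < 10 := abs_lt.1 (abs_lt_of_sq_lt_sq (by omega) (by norm_num))
  have q2 : -13 < q ∧ q < 13 := abs_lt.1 (abs_lt_of_sq_lt_sq (by omega) (by norm_num))
  obtain ⟨c1, rfl⟩ := key _ ((by decide +kernel : ∀ C < 145, C ∣ 144 → 9 ∣ C →
    C ∈ [9, 18, 36, 72, 144]) _ (by omega) a8 h9) p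
    (List.mem_map.2 ⟨(p + 9).toNat, List.mem_range.2 (by omega), by omega⟩) q
    (List.mem_map.2 ⟨(q + 12).toNat, List.mem_range.2 (by omega), by omega⟩) h5 h6 h4
    (by rwa [← h8, Nat.mul_div_cancel _ Nat.card_pos])
  exact ⟨c1, a1⟩

theorem no9 {g : G} : orderOf g ≠ 9 := fun hg => by
  obtain ⟨r, hr, hc⟩ := exists_comm (g := g) Nat.prime_two (by
    rw [(h.three (k := 2) (orderOf_dvd_iff_pow_eq_one.1 hg.dvd) (ne_of_ord hg (by norm_num))).1]
    norm_num)
  exact absurd ((h.invol hr).1 ▸ hg ▸ ord_dvd_cent hc.symm) (by norm_num)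

theorem ord11 (g : G) : orderOf g ∈ [1, 2, 3, 4, 5, 6, 8, 11] := by
  have := h.simple
  have key : ∀ p c, p.Prime → (∀ a : G, orderOf a = p → Nat.card (centralizer {a}) = c) →
      p ∣ orderOf g → orderOf g ∣ c := fun p c hp e hd => by
    obtain ⟨a, ha, ha'⟩ := exists_mem_orderOf hp (H := zpowers g) (Nat.card_zpowers g ▸ hd)
    obtain ⟨k, rfl⟩ := ha
    exact e _ ha' ▸ ord_dvd_cent ((Commute.refl g).zpow_right k)
  exact (by decide +kernel : ∀ n ∈ H4.M12R.D, n ∣ 7920 → (11 ∣ n → n ∣ 11) → (5 ∣ n → n ∣ 5) →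
    (3 ∣ n → n ∣ 18) → ¬ 9 ∣ n → n ≠ 16 → n ∈ [1, 2, 3, 4, 5, 6, 8, 11]) _
    (mem_D ((orderOf_dvd_natCard g).trans h.dvd)) (h.card ▸ orderOf_dvd_natCard g)
    (key 11 11 (by norm_num) fun a ha => by
      rw [card_cent_eq (by norm_num) h.ord ha h.nsq, card_cent h.ord h.cent])
    (key 5 5 Nat.prime_five fun a ha => by rw [card_cent_eq Nat.prime_five h.oy ha h.nsq5, h.cy])
    (key 3 18 Nat.prime_three fun a ha => (h.three (pw ha) (ne_of_ord ha (by norm_num))).1)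
    (fun hd => (mo_pos_of_dvd hd).ne' (mo_eq_zero fun _ => h.no9)) fun e => by
      have h1 := no_cyclic h.nc (k := 3) e
      have h2 := index_mul_card' (zpowers g) h.card
      rw [Nat.card_zpowers, e] at h2
      omega

theorem dvd16 {g : G} (hg : 4 ∣ orderOf g) : Nat.card (centralizer {g}) ∣ 16 := by
  obtain ⟨a, ⟨k, rfl⟩, ha⟩ := exists_mem_orderOf Nat.prime_two (H := zpowers g)
    (Nat.card_zpowers g ▸ Dvd.dvd.trans (by norm_num) hg)
  have h1 := (h.invol ha).1 ▸ card_dvd_of_le (H := centralizer {g}) fun c hc =>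
    mem_centralizer_singleton_iff.2 (Commute.zpow_right (mem_centralizer_singleton_iff.1 hc) k)
  refine Nat.Coprime.dvd_of_dvd_mul_left (m := 3)
    ((Nat.Prime.coprime_iff_not_dvd Nat.prime_three).2 fun e => ?_).symm h1
  obtain ⟨w, hw, hc⟩ := exists_comm Nat.prime_three e
  exact absurd (hg.trans ((h.three (pw hw) (ne_of_ord hw (by norm_num))).1 ▸ ord_dvd_cent hc.symm))
    (by norm_num)

theorem four {u : G} (hu : orderOf u = 4) : α.1 u + (X 4).1 u = 0 := by
  have := h.simple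
  have h4 : u ^ 4 = 1 := hu ▸ pow_orderOf_eq_one u
  have h1 : orderOf (u ^ 2) = 2 := by rw [orderOf_pow, hu]; rfl
  obtain ⟨-, -, b2, b3, -⟩ := h.invol h1
  obtain ⟨p, c, q, a1, a2, a3, -, -, -, a7, -⟩ := h.vals h4 (by norm_num) (ne_of_ord hu (by norm_num))
  obtain rfl : p = 0 := by
    exact_mod_cast a1.symm.trans (defz Nat.prime_two (h.deg 0) (by rw [h.card]; decide)
      (by rw [hu]; norm_num))
  have h2 := eight_dvd h.nc (ch α) h4 h.da b3 a3
  have h3 := eight_dvd h.nc (ch (X 4)) h4 (d := 45) (h.deg 4) b2 a2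
  have h5 := Nat.le_of_dvd (by norm_num) (h.dvd16 hu.symm.dvd)
  have h6 : 1 + c ^ 2 + q ^ 2 + (1 + q) ^ 2 + (1 + q + c) ^ 2 ≤ Nat.card (centralizer {u}) := by
    rw [← Int.cast_le (R := ℝ)]
    push_cast at a7 ⊢
    linarith [sq_nonneg ‖(X 1).1 u‖, sq_nonneg ‖(X 2).1 u‖, sq_nonneg ‖(X 3).1 u‖]
  have p1 := sq_nonneg c
  have p2 := sq_nonneg q
  have p3 := sq_nonneg (1 + q)
  have p4 := sq_nonneg (1 + q + c)
  have q1 : -4 < c ∧ c < 4 := abs_lt.1 (abs_lt_of_sq_lt_sq (by omega) (by norm_num))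
  have q2 : -4 < q ∧ q < 4 := abs_lt.1 (abs_lt_of_sq_lt_sq (by omega) (by norm_num))
  have q3 : q = -1 ∨ q = 3 := by omega
  have q4 : c = 1 ∨ c = -3 := by omega
  rcases q3 with rfl | rfl <;> rcases q4 with rfl | rfl <;> [skip; omega; omega; omega]
  rw [a2, a3]
  norm_num

theorem hyp11 : H4.M11R.Hyp G := by
  have := Fintype.ofFinite G
  have := Fact.mk Nat.prime_five
  have := Fact.mk (show Nat.Prime 11 by norm_num)
  have idx := fun H : Subgroup G => index_mul_card' H h.card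
  have c3 := fun (g : G) (hg : orderOf g = 3) => h.three (pw hg) (ne_of_ord hg (by norm_num))
  have m2 : mo G 2 = 165 := by
    obtain ⟨k, hk⟩ := dvd_mo (d := 165) (n := 2) fun g hg => by
      have := idx (centralizer {g})
      rw [(h.invol hg).1] at this
      omega
    have h1 := card_val_lt β (S := univ.filter fun g => orderOf g = 2) (v := 4)
      (fun g hg => (h.invol (mem_filter.1 hg).2).2.2.2.2.1) (by simp)
    have h2 : 2 ∣ mo G 1 + mo G 2 := frob (d := 2) (by rw [h.card]; norm_num)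
    rw [← mo_eq, h.card] at h1
    rw [mo_one] at h2
    omega
  have m3 : mo G 3 = 440 := by
    obtain ⟨k, hk⟩ := dvd_mo (d := 440) (n := 3) fun g hg => by
      have := idx (centralizer {g})
      rw [(c3 g hg).1] at this
      omega
    have h1 := card_val_le (X 0) (S := univ.filter fun g => orderOf g = 3) (v := -2)
      (fun g hg => (c3 g (mem_filter.1 hg).2).2)
    have h2 : 9 ∣ mo G 1 + (mo G 3 + mo G 9) := by
      simpa [show Nat.divisors 9 = {1, 3, 9} by decide] using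
        frob (G := G) (d := 9) (by rw [h.card]; norm_num)
    rw [← mo_eq, h.card] at h1
    rw [mo_one, mo_eq_zero (n := 9) fun _ => h.no9] at h2
    have : k ≤ 4 := by omega
    interval_cases k <;> omega
  have m6 : mo G (3 * 2) = mo G 3 * 3 := mo_mul (by norm_num) fun w hw => by
    have h4 := (c3 w hw).1
    obtain ⟨r, -, hr⟩ := exists_mem_orderOf Nat.prime_two
      (H := (⊤ : Subgroup (centralizer {w}))) (by rw [card_top, h4]; norm_num)
    have a1 := mo_prime hr (by rw [h4]; norm_num)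
    obtain ⟨e, n, a2, a3, a4, a5, -⟩ := sylow_cyc Nat.prime_two hr (by rw [h4]; norm_num)
    have a6 := card_cent_sub r
    rw [(h.invol ((orderOf_coe r).trans hr)).1] at a6
    have a7 := hr ▸ ord_dvd_cent (Commute.refl r)
    have a8 := ord_dvd_cent (g := r) (a := ⟨w, mem_centralizer_singleton_iff.2 rfl⟩)
      (Subtype.ext (mem_centralizer_singleton_iff.1 r.2).symm)
    rw [← orderOf_coe, hw] at a8
    rw [a4, h4] at a1
    rw [h4] at a5
    have a9 := Nat.le_of_dvd (by norm_num) (Nat.dvd_gcd a6 ((Dvd.intro_left _ rfl).trans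
      (Dvd.intro_left _ a5)))
    rw [show Nat.gcd 48 18 = 6 from rfl] at a9
    have a11 := Nat.card_pos (α := centralizer {r})
    rw [show Nat.card (centralizer {r}) = 6 by omega, Nat.dvd_one.1 a2] at a1
    omega
  have m5 := mo_prime h.oy h.nsq5
  have m11 := mo_prime h.ord h.nsq
  obtain ⟨e, n, a2, a3, a4, a5, -⟩ := sylow_cyc (by norm_num) h.ord h.nsq
  rw [a4, card_cent h.ord h.cent, h.card] at m11
  rw [card_cent h.ord h.cent, h.card] at a5
  rw [h.ny, h.card] at m5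
  have a10 := Nat.le_of_dvd (by norm_num) a2
  have m11' : mo G 11 = 1440 := by interval_cases e <;> omega
  have s := sum_eq (G := G) (s := {1, 2, 3, 4, 5, 6, 8, 11}) fun g => by simpa using h.ord11 g
  rw [h.card] at s
  norm_num [mo_one] at s m6
  have k : ∀ n, 4 ∣ n → 495 ∣ mo G n := fun n hn => dvd_mo fun g hg => by
    obtain ⟨c, hc⟩ := h.dvd16 (hg ▸ hn)
    refine ⟨c, Nat.eq_of_mul_eq_mul_right (Nat.card_pos (α := centralizer {g})) ?_⟩
    rw [idx, mul_assoc, mul_comm c, ← hc]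
    rfl
  have k4 := k 4 (by norm_num)
  obtain ⟨k8, h8⟩ := k 8 (by norm_num)
  have k9 : 4 ∣ mo G 8 := totient_dvd_mo 8
  have k0 : mo G 8 ≠ 0 := fun e => by
    obtain ⟨S, -, hS⟩ := exists_le_card (n := 4) Nat.prime_two (H := (⊤ : Subgroup G))
      (by rw [card_top, h.card]; norm_num)
    obtain ⟨a, ha⟩ := exists_sumS α S
    obtain ⟨b, hb⟩ := exists_sumS (X 4) S
    have h1 := congrArg₂ (· + ·) ha hb
    simp only [h.da, h.deg, hS] at h1
    rw [add_add_add_comm, ← sum_add_distrib, sum_eq_zero fun g hg => ?_] at h1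
    · have : 11 + 45 + 0 = 2 ^ 4 * a + 2 ^ 4 * b := by exact_mod_cast h1
      omega
    obtain ⟨h2, h3⟩ := (mem_filter.1 hg).2
    have h4 := hS ▸ S.orderOf_dvd_natCard h2
    have h5 := h.ord11 g
    have h6 : orderOf g ≠ 8 := fun e' => (mo_pos_iff.2 ⟨g, e'⟩).ne' e
    have h7 : orderOf g ≠ 1 := mt orderOf_eq_one_iff.1 h3
    rcases (by decide : ∀ n ∈ [1, 2, 3, 4, 5, 6, 8, 11], n ∣ 2 ^ 4 → n ≠ 8 → n ≠ 1 → n = 2 ∨ n = 4)
      _ h5 h4 h6 h7 with e | e
    · obtain ⟨-, -, b2, b3, -⟩ := h.invol e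
      rw [b2, b3]
      norm_num
    · exact h.four e
  have : k8 ≤ 6 := by omega
  have m8 : mo G 8 = 1980 := by interval_cases k8 <;> omega
  exact ⟨h.card, h.ord11, m2, m3, by omega, m8⟩

end B11

theorem E5.hyp11 {x : G} (h : E5 x) (hN : Nat.card G = 7920) :
    H4.M11R.Hyp G ∧ ∀ d ∈ charDegrees G, ¬ 33 ∣ d :=
  let ⟨_, _, _, b⟩ := h.exists_blk
  let ⟨_, _, _, _, c⟩ := b.exists_b11 hN
  ⟨c.hyp11, fun _ => c.no33⟩

end Cfsg.Agent.H5.MT
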