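import Cfsg.Agent.H5.MtN
import Cfsg.Agent.H5.CycNormC
import Cfsg.Agent.H9.SimpleSection
import Cfsg.Agent.H9.MaxClassTwo
import Cfsg.Agent.H4.Small

/-!
# Groups whose order divides that of `M₁₂`, XVI: reduction to simple groups
-/

set_option autoImplicit false
set_option linter.unusedSectionVars false

namespace Cfsg.Agent.H5.MT

open Cfsg Cfsg.Agent.H3 Subgroup Finset H4.Nse H4.M12R
open scoped Classical

variable {G : Type*} [Group G] [Finite G]

theorem conj_iter' {x c : G} {k : ℕ} (h : c * x * c⁻¹ = x ^ k) (j : ℕ) :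
    c ^ j * x * (c ^ j)⁻¹ = x ^ k ^ j := by
  induction j with
  | zero => simp
  | succ j ih => rw [pow_succ k, pow_mul, ← ih, conj_pow, ← h]; group

theorem five_dvd {x c : G} (hx : orderOf x = 11) (h : c * x * c⁻¹ = x ^ 3) : 5 ∣ orderOf c := by
  have := conj_iter' h (orderOf c)
  rw [pow_orderOf_eq_one, one_mul, inv_one, mul_one] at this
  nth_rewrite 1 [← pow_one x] at this
  rw [pow_eq_iff hx, ← Nat.div_add_mod (orderOf c) 5, pow_add, pow_mul, Nat.mul_mod, Nat.pow_mod]
    at this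
  have h1 := Nat.mod_lt (orderOf c) (show 0 < 5 by norm_num)
  rw [Nat.dvd_iff_mod_eq_zero]
  generalize orderOf c % 5 = r at *
  interval_cases r <;> simp_all

theorem twelve (h : Nat.card G = 12) : ∃ Q : Subgroup G, Q.Normal ∧ (Nat.card Q = 3 ∨
    Nat.card Q = 4 ∧ Nonempty (G ≃* alternatingGroup (Fin 4))) := by
  have := Fact.mk Nat.prime_three
  obtain ⟨Q, hQ⟩ := Sylow.exists_subgroup_card_pow_prime (G := G) 3 (n := 1) (by rw [h]; norm_num)
  rw [pow_one] at hQ
  have hi : Nat.card (G ⧸ Q) = 4 := by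
    have := index_mul_card' Q h
    rw [hQ, index] at this
    omega
  rcases (Nat.dvd_prime Nat.prime_three).1 (hQ ▸ card_dvd_of_le Q.normalCore_le) with e | e
  · have := Fintype.ofFinite (G ⧸ Q)
    obtain ⟨ψ⟩ := H4.Small.alt_of_injective ((Fintype.equivFinOfCardEq (Nat.card_eq_fintype_card.symm.trans
      hi)).permCongrHom.toMonoidHom.comp (MulAction.toPermHom G (G ⧸ Q)))
      ((Equiv.permCongrHom _).injective.comp ((MonoidHom.ker_eq_bot_iff _).1
        (Q.normalCore_eq_ker ▸ card_eq_one.1 e))) (by rw [h]; rfl)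
    have := alternatingGroup.normal_kleinFour (α := Fin 4) (by simp)
    refine ⟨(alternatingGroup.kleinFour (Fin 4)).comap ψ.toMonoidHom, inferInstance, .inr ⟨?_, ⟨ψ⟩⟩⟩
    exact (Nat.card_congr (ψ.toEquiv.subtypeEquiv fun _ => Iff.rfl)).trans
      (alternatingGroup.kleinFour_card_of_card_eq_four (α := Fin 4) (by simp))
  · exact ⟨Q.normalCore, inferInstance, .inl e⟩

theorem norm_le {B : Subgroup G} {Q : Subgroup B} [Q.Normal] (h : (Nat.card Q).Coprime Q.index) :
    normalizer (B : Set G) ≤ normalizer (Q.map B.subtype : Set G) := fun g hg =>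
  mem_normalizer_fintype (by
    rintro _ ⟨q, hq, rfl⟩
    refine ⟨⟨_, (mem_normalizer_iff.1 hg q).1 q.2⟩, mem_of_coprime_index (h.coprime_dvd_left ?_), rfl⟩
    rw [← orderOf_coe]
    change orderOf (g * q * g⁻¹) ∣ _
    rw [H4.Nse.orderOf_conj', orderOf_coe]
    exact orderOf_dvd_natCard _ hq)

theorem cent_le_eleven {x : G} (hx : orderOf x = 11) {M : Subgroup G} (hM : M.index = 12)
    (h : M.normalCore = ⊥) : Nat.card (centralizer {x}) ∣ 11 := by
  have := Fintype.ofFinite (G ⧸ M)
  have hi := (MonoidHom.ker_eq_bot_iff _).1 (M.normalCore_eq_ker ▸ h)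
  set φ := MulAction.toPermHom G (G ⧸ M)
  have h1 := (orderOf_injective φ hi x).trans hx
  have h2 : Fintype.card (G ⧸ M) = 12 := Nat.card_eq_fintype_card.symm.trans hM
  have h3 := Equiv.Perm.isCycle_of_prime_order' (σ := φ x) (by rw [h1]; norm_num) (by omega)
  have h4 := Equiv.Perm.nat_card_centralizer (φ x)
  rw [h3.cycleType, ← h3.orderOf, h1, h2] at h4
  rw [← card_map_of_injective hi]
  refine (card_dvd_of_le (K := centralizer {φ x}) ?_).trans (by simpa using h4.dvd)
  rintro _ ⟨g, hg, rfl⟩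
  exact mem_centralizer_singleton_iff.2 (by
    rw [← map_mul, ← map_mul, mem_centralizer_singleton_iff.1 hg])

theorem exists_B {x : G} (hx : orderOf x = 11) (hn : ¬ 11 ^ 2 ∣ Nat.card G) : ∃ B : Subgroup G,
    Nat.card (centralizer {x}) = 11 * Nat.card B ∧ x ∉ B ∧ B ≤ centralizer {x} ∧
    normalizer (zpowers x : Set G) ≤ normalizer B := by
  have := Fact.mk (show Nat.Prime 11 by norm_num)
  obtain ⟨K, hK, h1, h2, -⟩ := exists_compl hx hn
  have h3 := card_map_of_injective (K := K) (centralizer {x}).subtype_injective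
  refine ⟨K.map (centralizer {x}).subtype, by rw [h3, ← h2, index_mul_card], fun e => ?_,
    map_subtype_le _, le_trans ?_ (norm_le (h2 ▸ h1))⟩
  · have := orderOf_dvd_natCard _ e
    rw [h3, hx] at this
    simpa using Nat.Coprime.eq_one_of_dvd h1.symm this
  · rw [← cent_zp]
    exact fun g hg => mem_normalizer_fintype fun c hc y hy => by
      have := hc _ ((mem_normalizer_iff.1 (inv_mem hg) y).1 hy)
      calc _ = g * (g⁻¹ * y * g⁻¹⁻¹ * c) * g⁻¹ := by group
        _ = _ := by rw [this]; group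

theorem exists_32 {T : Type*} [Group T] [Finite T] (hT : Nat.card T = 2 ^ 6) {a : T}
    (ha : orderOf a = 2) (hC : Nat.card (centralizer {a}) ∣ 4) : ∃ g : T, orderOf g = 32 := by
  have hp := IsPGroup.of_card hT
  obtain ⟨z, hz, hz'⟩ := exists_central (G := T) (n := 5) hT.symm.dvd
  have h1 : centralizer {z} = ⊤ := eq_top_of_card_eq _
    (Nat.dvd_antisymm (card_subgroup_dvd_card _) (hT ▸ hz'))
  have h2 : ∀ b : T, centralizer {b} = ⊤ → b ≠ a := fun b hb e => by
    rw [← e, hb, card_top, hT] at hC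
    omega
  have h3 : Commute z a := (mem_centralizer_singleton_iff.1 (h1 ▸ mem_top a)).symm
  rcases H9.dihedral_or_quasiDihedral_of_card_centralizer hp (fun e => h2 a (eq_top_iff.2 fun g _ =>
    mem_centralizer_singleton_iff.2 (e.commGroup.mul_comm g a)) rfl) ha
    (Nat.dvd_antisymm hC (H4.M12R.four_dvd (mem_centralizer_singleton_iff.2 h3)
      (mem_centralizer_singleton_iff.2 rfl) (sq_of_ord hz).1 (sq_of_ord ha).1 h3 (sq_of_ord hz).2
      (sq_of_ord ha).2 (h2 z h1))) with ⟨n, ⟨ψ⟩⟩ | ⟨n, -, h4, g, -, h5, -⟩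
  · have := Nat.card_congr ψ.toEquiv
    rw [DihedralGroup.nat_card, hT] at this
    exact ⟨ψ.symm (.r 1), by rw [MulEquiv.orderOf_eq, DihedralGroup.orderOf_r_one]; omega⟩
  · rw [hT, Nat.pow_right_inj (by norm_num)] at h4
    exact ⟨g, by rw [h5, show n = 5 by omega]; rfl⟩

/-- A group of order dividing `95040` without normal subgroups of order prime to `11`. -/
structure Red (x : G) : Prop where
  dvd : Nat.card G ∣ 95040
  ord : orderOf x = 11
  min : ∀ N : Subgroup G, N.Normal → N ≠ ⊥ → x ∈ N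
  big : 110 < Nat.card G

namespace Red

variable {x : G} (h : Red x)
include h

theorem nsq : ¬ 11 ^ 2 ∣ Nat.card G := fun e => by have := e.trans h.dvd; omega

theorem pg : IsPGroup 11 (zpowers x) :=
  IsPGroup.of_card (n := 1) (by rw [Nat.card_zpowers, h.ord, pow_one])

theorem core {M : Subgroup G} (hM : normalizer (zpowers x : Set G) ≤ M) (ht : M.index ≠ 1) :
    M.normalCore = ⊥ := by
  have := Fact.mk (show Nat.Prime 11 by norm_num)
  by_contra e
  let P : Sylow 11 G := h.pg.toSylow fun e => h.nsq (by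
    rw [← (zpowers x).index_mul_card, sq, Nat.card_zpowers, h.ord]; exact Nat.mul_dvd_mul_right e _)
  have h3 := P.normalizer_sup_eq_top' (zpowers_le_of_mem (h.min _ inferInstance e))
  exact ht (index_eq_one.2 (top_le_iff.1 (h3 ▸ sup_le hM M.normalCore_le)))

theorem nn : (normalizer (zpowers x : Set G)).index ≠ 1 := fun e => by
  obtain ⟨B, h1, h2, -, h3⟩ := exists_B h.ord h.nsq
  obtain ⟨k, n, h4, -, h5, -⟩ := sylow_cyc (by norm_num) h.ord h.nsq
  rw [index_eq_one.1 e, top_le_iff, normalizer_eq_top_iff] at h3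
  rw [index_eq_one.1 e, card_top, h1, not_not.1 (mt (h.min B h3) h2), card_bot] at h5
  have := Nat.le_of_dvd (by norm_num) h4
  have := h.big
  omega

theorem mem : x ∈ normalClosure {x} := subset_normalClosure rfl

theorem simple : IsSimpleGroup (normalClosure ({x} : Set G)) :=
  H9.isSimpleGroup_of_minimal_normal _ (fun L hL hle => or_iff_not_imp_left.2 fun e =>
    hle.antisymm (normalClosure_le_normal (Set.singleton_subset_iff.2 (h.min L hL e))))
    (p := 11) (by norm_num) (h.ord ▸ orderOf_dvd_natCard _ h.mem)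
    fun e => h.nsq (e.trans (card_subgroup_dvd_card _))

theorem nc : ¬ IsMulCommutative (normalClosure ({x} : Set G)) := fun hc => by
  have := h.simple
  refine h.nn (index_eq_one.2 (eq_top_iff.2 fun g _ => mem_normalizer_zpowers.2 ?_))
  have h1 := (inferInstance : (zpowers (⟨x, h.mem⟩ : normalClosure {x})).Normal).eq_bot_or_eq_top
  rw [zpowers_eq_bot, Subtype.ext_iff] at h1
  obtain ⟨k, hk⟩ : (⟨_, Normal.conj_mem inferInstance _ h.mem g⟩ : normalClosure {x}) ∈
    zpowers ⟨x, h.mem⟩ := h1.resolve_left (ne_of_ord h.ord (by norm_num)) ▸ mem_top _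
  exact ⟨k, congrArg Subtype.val hk⟩

theorem c3 : ∃ c ∈ normalClosure {x}, c * x * c⁻¹ = x ^ 3 := by
  have := h.simple
  set y : normalClosure {x} := ⟨x, h.mem⟩
  have hy : orderOf y = 11 := (orderOf_coe y).symm.trans h.ord
  have hd := card_subgroup_dvd_card (normalClosure ({x} : Set G))
  suffices IsConj y (y ^ 3) by
    obtain ⟨c, hc⟩ := isConj_iff.1 this
    exact ⟨c, c.2, congrArg Subtype.val hc⟩
  obtain ⟨e, n, h1, -, h2, -, h3⟩ := sylow_cyc (by norm_num) hy fun e => h.nsq (e.trans hd)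
  obtain ⟨c, hc, hc'⟩ := SetLike.not_le_iff_exists.1 fun a :
      normalizer (zpowers y : Set _) ≤ centralizer {y} => by
    have a1 := card_le_of_le a
    have a2 := Nat.pos_of_dvd_of_pos h1 (by norm_num)
    have a3 := h3 this h.nc
    have a4 := Nat.card_pos (α := centralizer {y})
    nlinarith [show 2 ≤ e by omega]
  obtain ⟨k, hk, e⟩ := exists_pow hy (mem_normalizer_zpowers.1 hc)
  have h4 := isConj_iff.2 ⟨c, e⟩
  by_contra h5
  rcases (by decide : ∀ k < 11, k = 0 ∨ k = 1 ∨ k = 10 ∨ ∃ j < 10, k ^ j % 11 = 3 % 11) k hk with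
    rfl | rfl | rfl | ⟨j, -, hj⟩
  · exact ne_of_ord hy (by norm_num) (by simpa using h4)
  · exact hc' (mem_centralizer_singleton_iff.2 (mul_inv_eq_iff_eq_mul.1 (by simpa using e)))
  · exact no_two hy (inv_eq hy ▸ h4) h.nc (hd.trans h.dvd) h5
  · exact h5 ((pow_eq_iff hy _ _).2 hj ▸ conj_iter h4 j)

theorem five (N : Subgroup G) (hN : N.Normal) (hx : x ∈ N) : 5 ∣ Nat.card N := by
  obtain ⟨c, h1, h2⟩ := h.c3
  exact (five_dvd h.ord h2).trans (orderOf_dvd_natCard _
    (normalClosure_le_normal (Set.singleton_subset_iff.2 hx) h1))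

theorem three_le {e : ℕ} (he : Nat.card (normalizer (zpowers x : Set G)) =
    e * Nat.card (centralizer {x})) : 3 ≤ e := by
  obtain ⟨c, -, h2⟩ := h.c3
  have h1 := H4.M12P.ncard_conj (normalizer (zpowers x : Set G)) x
  have h3 := mem_normalizer_zpowers.2 (h2 ▸ npow_mem_zpowers x 3)
  have h4 : ∀ i j, i % 11 ≠ j % 11 → x ^ i ≠ x ^ j := fun i j => mt (pow_eq_iff h.ord i j).1
  rw [← relIndex_eq (cent_le_norm x) he, ← h1, ← Set.ncard_eq_three.2 ⟨x ^ 3 ^ 0, x ^ 3 ^ 1, x ^ 3 ^ 2,
    h4 _ _ (by norm_num), h4 _ _ (by norm_num), h4 _ _ (by norm_num), rfl⟩]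
  refine Set.ncard_le_ncard ?_
  rintro _ (rfl | rfl | rfl) <;> exact ⟨_, pow_mem h3 _, conj_iter' h2 _⟩

theorem idx (hn : (normalizer (zpowers x : Set G)).index = 144)
    (hc : ¬ Nat.card (centralizer {x}) ∣ 11) {Q : Subgroup G} (h1 : Q ≠ ⊥) (h2 : x ∉ Q)
    (h3 : normalizer (zpowers x : Set G) ≤ normalizer Q) :
    Nat.card (normalizer (Q : Set G)) = Nat.card (normalizer (zpowers x : Set G)) := by
  have a1 := relIndex_mul_index h3
  have a2 := relIndex_modEq (by norm_num) h.pg (H := normalizer Q) (fun e => h.nsq (by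
    refine Dvd.dvd.trans ?_ (card_subgroup_dvd_card (normalizer (Q : Set G)))
    rw [← relIndex_mul_card (le_normalizer.trans h3), sq, Nat.card_zpowers, h.ord]
    exact Nat.mul_dvd_mul_right e _)) (le_normalizer.trans h3)
  have a3 : (normalizer (Q : Set G)).index ≠ 1 := fun e =>
    h2 (h.min Q (normalizer_eq_top_iff.1 (index_eq_one.1 e)) h1)
  have a4 : (normalizer (Q : Set G)).index ≠ 12 := fun e =>
    hc (cent_le_eleven h.ord e (h.core h3 a3))
  rw [← relIndex_mul_card h3]
  rw [hn] at a1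
  rcases (by decide +kernel : ∀ a ∈ D, a ∣ 144 → a % 11 = 1 → a = 1 ∨ a = 12 ∨ a = 144) _
    (mem_D ((Dvd.intro _ a1).trans (by norm_num))) (Dvd.intro _ a1) a2 with e | e | e <;>
    rw [e] at a1 ⊢ <;> omega

theorem no_ten {a : G} (ha : orderOf a = 2) (hN : Nat.card G = 31680) (hc : Commute a x)
    (h1 : Nat.card (centralizer {a}) ∣ 220) (h2 : Nat.card (centralizer {x}) = 22) : False := by
  obtain ⟨T, hT, -, h3⟩ := exists_between (n := 1) (m := 6) Nat.prime_two (le_top (a := zpowers a))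
    (by rw [Nat.card_zpowers, ha, pow_one]) (by norm_num) (by rw [card_top, hN]; norm_num)
  obtain ⟨g, hg⟩ := exists_32 h3 (a := ⟨a, hT (mem_zpowers a)⟩) ((orderOf_coe _).symm.trans ha) (by
    have := Nat.dvd_gcd ((card_cent_sub (Y := T) ⟨a, hT (mem_zpowers a)⟩).trans h1)
      ((card_subgroup_dvd_card _).trans h3.dvd)
    simpa using this)
  rw [← orderOf_coe] at hg
  obtain ⟨f, hf⟩ := exists_sign_of_not_conj (M := zpowers (g : G)) (by
    have := index_mul_card' (zpowers (g : G)) hN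
    rw [Nat.card_zpowers, hg] at this
    omega) (sq_of_ord ha).1 fun c ⟨k, hk⟩ => by
      have h4 := ord_dvd_cent ((Commute.refl (g : G)).zpow_right k)
      rw [show (g : G) ^ k = _ from hk] at h4
      rw [hg, card_centralizer_conj] at h4
      have := h4.trans h1
      omega
  have h4 : f.ker.index = 2 := by
    rw [index_ker, MonoidHom.range_eq_top.2 fun u => by
      rcases Int.units_eq_one_or u with rfl | rfl
      exacts [⟨1, f.map_one⟩, ⟨a, hf⟩], card_top, Nat.card_eq_fintype_card, Fintype.card_units_int]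
  have h5 : ∀ c, c * x * c⁻¹ ∈ f.ker := fun c => mem_of_coprime_index (by
    rw [H4.Nse.orderOf_conj', h.ord, h4]; norm_num)
  have h6 : Nat.card f.ker = 15840 := by have := index_mul_card' f.ker hN; rw [h4] at this; omega
  have hx : x ∈ f.ker := by simpa using h5 1
  have h7 : orderOf (⟨x, hx⟩ : f.ker) = 11 := (orderOf_coe _).symm.trans h.ord
  refine no_e10 h6 h7 ?_ fun N hN hxN => ?_
  · have a1 : (centralizer {(⟨x, hx⟩ : f.ker)}).map f.ker.subtype ≤ centralizer {x} := by
      rintro _ ⟨u, hu, rfl⟩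
      exact mem_centralizer_singleton_iff.2 (congrArg Subtype.val (mem_centralizer_singleton_iff.1 hu))
    have a2 := (card_cent_sub (⟨x, hx⟩ : f.ker)).trans h2.dvd
    obtain ⟨k, a3⟩ := h7.symm.dvd.trans (ord_dvd_cent (Commute.refl (⟨x, hx⟩ : f.ker)))
    have a4 := Nat.le_of_dvd (by norm_num) a2
    by_contra a5
    obtain ⟨u, -, rfl⟩ := (eq_of_le_of_card_ge a1 (by
      rw [h2, card_map_of_injective f.ker.subtype_injective]
      have := Nat.card_pos (α := centralizer {(⟨x, hx⟩ : f.ker)})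
      omega)).ge (mem_centralizer_singleton_iff.2 hc)
    exact absurd (u.2.symm.trans hf) (by decide)
  · rw [← card_map_of_injective f.ker.subtype_injective]
    refine (h.five _ inferInstance fun c => ⟨⟨_, h5 c⟩, mem_of_coprime_index ?_, rfl⟩).trans
      (card_dvd_of_le (normalCore_le _))
    obtain ⟨k, a1⟩ := h7.symm.dvd.trans (orderOf_dvd_natCard _ hxN)
    have a2 := index_mul_card' N h6
    rw [← orderOf_coe, H4.Nse.orderOf_conj', h.ord, Nat.Prime.coprime_iff_not_dvd (by norm_num)]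
    rintro ⟨l, a3⟩
    rw [a1, a3] at a2
    have : 121 * (l * k) = 15840 := by rw [← a2]; ring
    omega

theorem main (hb : 1320 < Nat.card G) : E5 x ∧ (Nat.card G = 7920 ∨ Nat.card G = 95040) := by
  obtain ⟨B, h1, h2, hB, h3⟩ := exists_B h.ord h.nsq
  obtain ⟨e, n, h4, h5, h6, h7, -⟩ := sylow_cyc (by norm_num) h.ord h.nsq
  have hi : (normalizer (zpowers x : Set G)).index = n := Nat.eq_of_mul_eq_mul_right Nat.card_pos
    (by rw [index_mul_card, h6, h7])
  have he : e = 5 ∨ e = 10 := by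
    have := h.three_le h6
    have := Nat.le_of_dvd (by norm_num) h4
    interval_cases e <;> omega
  have hd := h7 ▸ h.dvd
  have c0 := Nat.card_pos (α := B)
  obtain ⟨c, hc⟩ : ∃ c, Nat.card B = c := ⟨_, rfl⟩
  rw [hc] at c0 h1
  rw [h1] at hd h6 h7
  have key : e = 5 ∧ c = 1 ∧ (n = 144 ∨ n = 1728) := by
    have a0 : n * c ∣ 1728 := Nat.dvd_of_mul_dvd_mul_left (k := 55) (by norm_num)
      (Dvd.dvd.trans (by rcases he with rfl | rfl; exacts [⟨1, by ring⟩, ⟨2, by ring⟩]) hd)
    have a1 := (Dvd.intro _ rfl).trans a0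
    rcases (by decide +kernel : ∀ a ∈ D, a ∣ 1728 → a % 11 = 1 → a = 1 ∨ a = 12 ∨ a = 144 ∨ a = 1728) _
      (mem_D (a1.trans (by norm_num))) a1 h5 with rfl | rfl | rfl | rfl
    · exact absurd hi h.nn
    · have := Nat.le_of_dvd (by norm_num) (cent_le_eleven h.ord hi (h.core le_rfl h.nn))
      obtain rfl : c = 1 := by omega
      omega
    swap
    · have := Nat.le_of_dvd (by norm_num) hd
      rcases he with rfl | rfl <;> omega
    by_cases c1 : c = 1
    · refine ⟨he.resolve_right fun e => no_e10 ?_ h.ord (by omega) h.five, c1, .inl rfl⟩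
      rw [← h7, e, c1]
    exfalso
    have a2 : ∀ Q : Subgroup B, Q.Normal → Nat.card Q ≠ 1 → (Nat.card Q).Coprime Q.index →
        Nat.card (normalizer (Q.map B.subtype : Set G)) = e * (11 * c) := fun Q hQ b1 b2 =>
      (h.idx hi (fun e => by have := Nat.le_of_dvd (by norm_num) e; omega) (fun e => b1 (by
        rw [← card_map_of_injective B.subtype_injective, e, card_bot]))
        (fun e => h2 (map_subtype_le _ e)) (h3.trans (norm_le b2))).trans h6
    have a3 : ∀ Q : Subgroup B, Q.Normal → ∀ r k, r.Prime → r ∣ 144 → Nat.card Q = r ^ (k + 1) →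
        ¬ r ∣ Q.index → r ^ (k + 2) ∣ e * (11 * c) := fun Q hQ r k hr b1 b2 b3 => by
      have := Fact.mk hr
      rw [← a2 Q hQ (by rw [b2]; exact (Nat.one_lt_pow (by omega) hr.one_lt).ne')
        (b2 ▸ (hr.coprime_iff_not_dvd.2 b3).pow_left _)]
      refine Sylow.prime_pow_dvd_card_normalizer ?_
        ((card_map_of_injective B.subtype_injective).trans b2)
      rw [← h7, pow_succ']
      exact Nat.mul_dvd_mul b1 (((b2 ▸ hc ▸ card_subgroup_dvd_card Q).mul_left _).mul_left _)
    have a4 : c ∣ 12 := Nat.dvd_of_mul_dvd_mul_left (k := 144) (by norm_num) a0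
    have a5 := Nat.le_of_dvd (by norm_num) a4
    have a5 : c = 2 ∧ (e * (11 * c) = 110 ∨ e * (11 * c) = 220) ∨ c = 4 ∧ e * (11 * c) = 220 ∨
        (c = 3 ∨ c = 6 ∨ c = 12) ∧ (e * (11 * c) = 165 ∨ e * (11 * c) = 330 ∨ e * (11 * c) = 660) := by
      clear hc
      rcases he with rfl | rfl <;> interval_cases c <;> omega
    clear hd
    generalize e * (11 * c) = w at *
    have a6 : ∀ Q : Subgroup B, Q.Normal → Nat.card Q ≠ 3 := fun Q hQ e => by
      have b1 := index_mul_card' Q hc
      rw [e] at b1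
      have := a3 Q hQ 3 0 (by norm_num) (by norm_num) e (by omega)
      omega
    have a7 := a3 ⊤ inferInstance 2
    rw [card_top, index_top, hc] at a7
    have a8 : ¬ (c = 3 ∨ c = 6) := fun e => by
      have := Fact.mk Nat.prime_three
      obtain ⟨Q, hQ⟩ := Sylow.exists_subgroup_card_pow_prime (G := B) 3 (n := 1) (by omega)
      have b1 := index_mul_card' Q hc
      rw [hQ] at b1
      rcases e with e | e
      · exact a6 Q (normal_of_index_eq_one (by omega)) hQ
      · exact a6 Q (normal_of_index_eq_two (by omega)) hQ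
    have a9 : c ≠ 12 := fun e => by
      obtain ⟨Q, hQ, b | ⟨b, -⟩⟩ := twelve (hc.trans e)
      · exact a6 Q hQ b
      have b1 := index_mul_card' Q hc
      rw [b] at b1
      have := a3 Q hQ 2 1 (by norm_num) (by norm_num) b (by omega)
      omega
    have a10 : c ≠ 4 := fun e => by
      have := a7 1 (by norm_num) (by norm_num) e (by norm_num)
      omega
    have a11 : c = 2 := by omega
    have a12 := a7 0 (by norm_num) (by norm_num) a11 (by norm_num)
    obtain ⟨a, ha, ha'⟩ := exists_mem_orderOf Nat.prime_two (hc.trans a11).symm.dvd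
    have a13 := a2 ⊤ inferInstance (by rw [card_top]; omega) (by simp)
    rw [← MonoidHom.range_eq_map, range_subtype, ← eq_of_le_of_card_ge (zpowers_le_of_mem ha)
      (by rw [Nat.card_zpowers]; omega)] at a13
    exact h.no_ten ha' (by rw [← h7]; omega) (mem_centralizer_singleton_iff.1 (hB ha))
      ((card_dvd_of_le (cent_le_norm a)).trans (Eq.dvd (by omega))) (by omega)
  obtain ⟨rfl, c1, hn⟩ := key
  rw [c1] at h1 h6 h7
  have a2 := h.ord ▸ orderOf_dvd_natCard _ h.mem
  have a3 := h6 ▸ index_dvd_frattini (by norm_num) h.ord h.nsq a2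
  obtain ⟨c, a5⟩ := Nat.Coprime.mul_dvd_of_dvd_of_dvd (by norm_num) a2 (h.five _ inferInstance h.mem)
  have a6 := (normalClosure {x}).index_mul_card ▸ h.dvd
  rw [a5, mul_left_comm] at a6
  have a7 := index_eq_one.1 (Nat.eq_one_of_dvd_coprimes (by norm_num) a3 ((Dvd.intro _ rfl).trans
    (Nat.dvd_of_mul_dvd_mul_left (k := 55) (n := 1728) (by norm_num) a6)))
  have b1 := h.simple
  have b2 := h.nc
  rw [a7] at b1 b2
  have := topEquiv.symm.isSimpleGroup (G := G)
  exact ⟨E5.of_card (fun e => b2 inferInstance) h.dvd h.ord h1 h6, by omega⟩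

end Red

end Cfsg.Agent.H5.MT
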