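import Cfsg.Agent.H5.C12Str
import Cfsg.Agent.H3.PSL2Cent
import Cfsg.Agent.H3.CharInt
import Cfsg.Agent.H7.Fitting
import Cfsg.Agent.H9.MaxClassTwo

/-!
# The final statements from the structure statement
-/

set_option autoImplicit false
set_option linter.unusedSectionVars false

namespace Cfsg.Agent.L0.C12

open Subgroup MulAction Cfsg.Agent.L0.SC3 Cfsg.Agent.H9

universe u

section
variable {Y : Type*} [Group Y] [Finite Y] {y : Y}

theorem p1index (h : T3 y) {K M : Subgroup Y} (c : TII y ⊤ K M) : M.index ∣ 4 := by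
  have hM : M.Normal := ⟨fun m hm l => c.nM l trivial m hm⟩
  have e : centralizer ({y} : Set Y) ⊔ M = ⊤ := by
    rw [eq_top_iff]
    intro g _
    obtain ⟨m, hm, a, -, h1, -, rfl⟩ := c.fra g trivial
    exact mul_mem (mem_sup_right hm) (mem_sup_left (mem_centralizer_singleton_iff.mpr h1.symm.eq))
  have e1 : M.index = M.relIndex (centralizer ({y} : Set Y)) := by
    rw [← relIndex_sup_right, e, relIndex_top_right]
  have e2 := (M.subgroupOf (centralizer ({y} : Set Y))).index_mul_card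
  have e3 := orderOf_dvd_natCard (⟨⟨y, mem_centralizer_singleton_iff.mpr rfl⟩, c.mem⟩ :
    M.subgroupOf (centralizer ({y} : Set Y)))
  rw [← orderOf_coe, ← orderOf_coe, h.orderOf_eq] at e3
  obtain ⟨k, hk⟩ := e3
  have e4 := h.dvd
  rw [← e2, hk, mul_left_comm] at e4
  rw [e1]
  exact (Dvd.intro _ rfl).trans (Nat.dvd_of_mul_dvd_mul_left (k := 3) (by norm_num) e4)

theorem p1div : (∀ k ∈ Nat.divisors 96, k % 7 = 1 → k = 1 ∨ k = 8) ∧
    ∀ k ∈ Nat.divisors 336, k % 13 = 1 → k = 1 ∨ k = 14 := by decide +kernel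

theorem p1pgl (h : T3 y) {M : Subgroup Y} (c : TII y ⊤ ⊥ M) (hM : M ≠ ⊤) {p m n : ℕ}
    [Fact p.Prime] (s : H3.Spec M p p m n 2) (hs : IsSimpleGroup M)
    (hp : p = 7 ∧ m = 3 ∧ n = 4 ∨ p = 13 ∧ m = 6 ∧ n = 7) :
    M.index = 2 ∧ Nonempty (Y ≃* GL (Fin 2) (ZMod p) ⧸ center (GL (Fin 2) (ZMod p))) := by
  have := Fact.mk Nat.prime_two
  have := Fact.mk Nat.prime_three
  have hN : M.Normal := ⟨fun m hm l => c.nM l trivial m hm⟩
  have i4 := p1index h c
  have pp : p.Prime := Fact.out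
  have hY := M.index_mul_card
  rw [s.card] at hY
  have i2 : M.index = 2 ∨ M.index = 4 := by
    have i1 : M.index ≠ 1 := fun e => hM (index_eq_one.mp e)
    generalize M.index = i at i4 i1
    have := Nat.le_of_dvd (by norm_num) i4
    interval_cases i <;> simp_all
  have q1 : ¬ p ∣ 6 ∧ Nat.Coprime 4 p ∧ 2 ∣ p + 1 ∧ ¬ p * p ∣ 4 * (p * (m * n * 2)) ∧
      2 * m + 1 = p ∧ 2 * n = p + 1 ∧ 3 ∣ m := by
    rcases hp with ⟨rfl, rfl, rfl⟩ | ⟨rfl, rfl, rfl⟩ <;> decide
  have hbot : ∀ N : Subgroup Y, N.Normal → y ∉ N → N = ⊥ := fun N h1 h2 =>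
    le_bot_iff.mp (c.max N le_top (fun l _ k hk => h1.conj_mem k hk l) h2)
  have m4 : ∀ g : Y, g ^ 4 ∈ M := fun g => by
    obtain ⟨k, hk⟩ := i4
    rw [hk, pow_mul]
    exact pow_mem (M.pow_index_mem g) k
  have mo : ∀ g : Y, Nat.Coprime 4 (orderOf g) → g ∈ M := fun g hg => by
    obtain ⟨k, hk⟩ := exists_pow_eq_self_of_coprime hg
    rw [← hk]
    exact pow_mem (m4 g) k
  have cP : ∀ P : Sylow p Y, Nat.card P = p := fun P => by
    obtain ⟨k, hk⟩ := IsPGroup.iff_card.mp P.2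
    have h1 : p ∣ Nat.card P := P.dvd_card_of_dvd_card (hY ▸ Dvd.intro (M.index * (m * n * 2)) (by ring))
    have h2 : Nat.card P ∣ 4 * (p * (m * n * 2)) :=
      (card_subgroup_dvd_card (P : Subgroup Y)).trans (hY ▸ Nat.mul_dvd_mul_right i4 _)
    change Nat.card P = p ^ k at hk
    rw [hk] at h1 h2 ⊢
    rcases k with _ | _ | k
    · exact absurd (Nat.dvd_one.mp h1) pp.one_lt.ne'
    · simp
    · exact absurd ((Dvd.intro (p ^ k) (by ring)).trans h2) q1.2.2.2.1
  have oP : ∀ P : Sylow p Y, ∀ a ∈ (P : Subgroup Y), a ≠ 1 → orderOf a = p := fun P a ha h1 =>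
    ((Nat.dvd_prime pp).mp (cP P ▸ orderOf_dvd_natCard _ ha)).resolve_left
      fun e => h1 (orderOf_eq_one_iff.mp e)
  have gen : ∀ P : Sylow p Y, ∀ a ∈ (P : Subgroup Y), a ≠ 1 → zpowers a = P := fun P a ha h1 =>
    eq_of_le_of_card_ge (zpowers_le.mpr ha) (by
      rw [Nat.card_zpowers, oP P a ha h1]; exact (cP P).le)
  have fix : ∀ P : Sylow p Y, ∀ k ∈ (P : Subgroup Y), k • P = P := fun P k hk =>
    Sylow.smul_eq_iff_mem_normalizer.mpr (le_normalizer hk)
  have free : ∀ P Q : Sylow p Y, Q ≠ P → ∀ k ∈ (P : Subgroup Y), k • Q = Q → k = 1 := by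
    intro P Q hne k hk e
    by_contra h1
    have h2 : k ∈ (P : Subgroup Y) ⊓ normalizer (Q : Set Y) :=
      ⟨hk, Sylow.smul_eq_iff_mem_normalizer.mp e⟩
    rw [P.2.inf_normalizer_sylow Q] at h2
    exact hne (Sylow.ext ((gen Q k h2.2 h1).symm.trans (gen P k hk h1)))
  have hn : Nat.card (Sylow p Y) = p + 1 := by
    obtain ⟨P⟩ : Nonempty (Sylow p Y) := inferInstance
    have e1 := card_sylow_modEq_one p Y
    have e2 := P.card_dvd_index
    have e3 := (P : Subgroup Y).index_mul_card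
    rw [show Nat.card (P : Subgroup Y) = p from cP P, ← hY] at e3
    have e4 : (P : Subgroup Y).index = M.index * (m * n * 2) :=
      Nat.eq_of_mul_eq_mul_right pp.pos (by rw [e3]; ring)
    have e5 : Nat.card (Sylow p Y) ∣ 4 * (m * n * 2) :=
      e2.trans (e4 ▸ Nat.mul_dvd_mul_right i4 _)
    have e6 : Nat.card (Sylow p Y) ≠ 1 := fun e => by
      have := (Nat.card_eq_one_iff_unique.mp e).1
      have h1 := hbot P P.normal_of_subsingleton fun hy =>
        q1.1 (oP P y hy h.ne ▸ h.orderOf_eq ▸ by norm_num)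
      have h2 : Nat.card (P : Subgroup Y) = p := cP P
      rw [h1, card_bot] at h2
      exact pp.one_lt.ne h2
    rcases hp with ⟨rfl, rfl, rfl⟩ | ⟨rfl, rfl, rfl⟩
    · exact (p1div.1 _ (Nat.mem_divisors.mpr ⟨e5, by norm_num⟩) e1).resolve_left e6
    · exact (p1div.2 _ (Nat.mem_divisors.mpr ⟨e5, by norm_num⟩) e1).resolve_left e6
  have trans : ∀ P Q R : Sylow p Y, Q ≠ P → R ≠ P → ∃ k ∈ (P : Subgroup Y), k • Q = R := by
    intro P Q R hQ hR
    classical
    let f : P → {S : Sylow p Y // S ≠ P} := fun k => ⟨(k : Y) • Q, fun e =>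
      hQ ((smul_left_cancel_iff (k : Y)).mp (e.trans (fix P k k.2).symm))⟩
    have hf : Function.Bijective f := by
      rw [Nat.bijective_iff_injective_and_card]
      refine ⟨fun k k' e => ?_, ?_⟩
      · have e1 : (k : Y) • Q = (k' : Y) • Q := congrArg Subtype.val e
        have := free P Q hQ _ (mul_mem (inv_mem k'.2) k.2) (by rw [mul_smul, e1, inv_smul_smul])
        exact Subtype.ext (inv_mul_eq_one.mp this).symm
      · have := Fintype.ofFinite (Sylow p Y)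
        rw [Nat.card_eq_fintype_card (α := {S : Sylow p Y // S ≠ P}), Fintype.card_subtype_compl,
          Fintype.card_subtype_eq, ← Nat.card_eq_fintype_card, hn, Nat.add_sub_cancel]
        exact cP P
    obtain ⟨k, hk⟩ := hf.2 ⟨R, hR⟩
    exact ⟨k, k.2, congrArg Subtype.val hk⟩
  have hP : ∀ P : Sylow p Y, ∀ a ∈ (P : Subgroup Y), a ≠ 1 → centralizer {a} = P := by
    intro P a ha h1
    have oa := oP P a ha h1
    refine P.3 (isPGroup_of_forall_coprime fun g hg cop => ?_) (fun b hb => ?_)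
    swap
    · rw [← gen P a ha h1] at hb
      obtain ⟨i, rfl⟩ := hb
      exact mem_centralizer_singleton_iff.mpr ((Commute.refl a).zpow_left i)
    have hc : Commute g a := mem_centralizer_singleton_iff.mp hg
    have g4 : g ^ 4 = 1 := by
      rcases s.isolated ⟨a, mo a (oa ▸ q1.2.1)⟩ ⟨g ^ 4, m4 g⟩
        (Subtype.ext (hc.pow_left 4).symm.eq) (Subtype.ext (oa ▸ pow_orderOf_eq_one a))
        (by rw [orderOf_mk]; exact cop.coprime_dvd_left (orderOf_pow_dvd 4)) with e | e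
      exacts [absurd (congrArg Subtype.val e) h1, congrArg Subtype.val e]
    have hcP : ∀ k ∈ (P : Subgroup Y), Commute g k := fun k hk => by
      rw [← gen P a ha h1] at hk
      obtain ⟨i, rfl⟩ := hk
      exact hc.zpow_right i
    have gP : g • P = P := Sylow.smul_eq_iff_mem_normalizer.mpr
      (centralizer_le_normalizer _ (mem_centralizer_iff.mpr fun k hk => (hcP k hk).symm.eq))
    obtain ⟨Q, hQ, hne⟩ := (show IsPGroup 2 (zpowers g) from IsPGroup.of_card_dvd_pow (n := 2) (by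
      rw [Nat.card_zpowers]; exact orderOf_dvd_of_pow_eq_one g4)
      ).exists_fixed_point_of_prime_dvd_card_of_fixed_point (Sylow p Y) (hn ▸ q1.2.2.1) (a := P)
      (fun k => (zpowers_le (H := stabilizer Y P)).mpr gP k.2)
    have gQ : g • Q = Q := hQ ⟨g, mem_zpowers g⟩
    have hker : ∀ z : Y, z ∈ (toPermHom Y (Sylow p Y)).ker ↔ ∀ R : Sylow p Y, z • R = R :=
      fun z => by rw [MonoidHom.mem_ker, Equiv.ext_iff]; rfl
    refine mem_bot.mp (hbot (toPermHom Y (Sylow p Y)).ker inferInstance (fun hy => ?_) ▸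
      (hker g).mpr fun R => ?_)
    · have e := free P Q hne.symm (a⁻¹ * (y * a * y⁻¹)) (mul_mem (inv_mem ha)
        (conj_mem_of_mem_normalizer (Sylow.smul_eq_iff_mem_normalizer.mp ((hker y).mp hy P)) ha))
        (by rw [mul_smul, mul_smul, mul_smul, (hker _).mp (inv_mem hy), (hker y).mp hy,
          inv_smul_smul])
      have e1 : Commute y a := mul_inv_eq_iff_eq_mul.mp (inv_mul_eq_one.mp e).symm
      exact q1.1 (oa ▸ orderOf_dvd_of_pow_eq_one (h.six a e1))
    · by_cases e : R = P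
      · rw [e, gP]
      obtain ⟨k, hk, rfl⟩ := trans P Q R hne.symm e
      rw [← mul_smul, (hcP k hk).eq, mul_smul, gQ]
  have hn' : ∀ P : Sylow p Y, Nat.card (Sylow p Y) = Nat.card P + 1 := fun P => by rw [hn, cP]
  obtain ⟨P⟩ : Nonempty (Sylow p Y) := inferInstance
  have : Nontrivial (Sylow p Y) := Finite.one_lt_card_iff_nontrivial.mp (by
    rw [hn]; have := pp.pos; omega)
  obtain ⟨Q, hQ⟩ := exists_ne P
  set Z := H3.zs_sylow hP hn'
  have hr : Z.root P = P := H3.root_zs_sylow hP hn' hQ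
  have cr : Nat.card (Z.root P) = p := hr ▸ cP P
  set H : Subgroup Y := stabilizer Y P ⊓ stabilizer Y Q with hH
  have e1 := Z.card_eq hQ.symm
  have e2 := Z.card_stab_dvd hQ.symm
  rw [cr, ← hH] at e1 e2
  have e3 : Nat.card H = M.index * m := Nat.eq_of_mul_eq_mul_left
    (show 0 < (p + 1) * p by have := pp.pos; positivity) (by rw [← e1, ← hY, ← q1.2.2.2.2.2.1]; ring)
  have m0 : 0 < m := by rcases hp with ⟨-, rfl, -⟩ | ⟨-, rfl, -⟩ <;> norm_num
  have e4 : M.index = 2 := i2.resolve_right fun e => by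
    have := Nat.le_of_dvd (by omega) e2
    rw [e3, e] at this
    omega
  rw [e4] at e3
  refine ⟨e4, ?_⟩
  obtain ⟨a, ha, a1⟩ : ∃ a ∈ (P : Subgroup Y), a ≠ 1 := by
    rcases (P : Subgroup Y).bot_or_exists_ne_one with e | e
    · have h2 : Nat.card (P : Subgroup Y) = p := cP P
      rw [e, card_bot] at h2
      exact absurd h2 pp.one_lt.ne
    · exact e
  have act : ∀ g ∈ H, ∃ i : ℤ, g * a * g⁻¹ = a ^ i := fun g hg => by
    have := conj_mem_of_mem_normalizer (Sylow.smul_eq_iff_mem_normalizer.mp hg.1) ha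
    rw [← gen P a ha a1] at this
    obtain ⟨i, hi⟩ := this
    exact ⟨i, hi.symm⟩
  have hab : ∀ g ∈ H, ∀ k ∈ H, Commute g k := fun g hg k hk => by
    obtain ⟨i, hi⟩ := act g hg
    obtain ⟨j, hj⟩ := act k hk
    have hm := H.mul_mem (H.inv_mem (H.mul_mem hk hg)) (H.mul_mem hg hk)
    have e : g * k * a * (g * k)⁻¹ = k * g * a * (k * g)⁻¹ := by
      calc g * k * a * (g * k)⁻¹ = g * (k * a * k⁻¹) * g⁻¹ := by group
        _ = (a ^ i) ^ j := by rw [hj, ← conj_zpow, hi]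
        _ = (a ^ j) ^ i := by rw [← zpow_mul, mul_comm, zpow_mul]
        _ = k * (g * a * g⁻¹) * k⁻¹ := by rw [hi, ← conj_zpow, hj]
        _ = _ := by group
    rcases Z.eq_one_of_commute_root hQ.symm hm.1 hm.2 (hr ▸ ha : a ∈ Z.root P) (by
      calc (k * g)⁻¹ * (g * k) * a = (k * g)⁻¹ * (g * k * a * (g * k)⁻¹) * (g * k) := by group
        _ = _ := by rw [e]; group) with e | e
    exacts [(inv_mul_eq_one.mp e).symm, absurd e a1]
  obtain ⟨⟨z, hz⟩, oz⟩ := exists_prime_orderOf_dvd_card' (G := H) 3 (e3 ▸ q1.2.2.2.2.2.2.mul_left 2)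
  rw [orderOf_mk] at oz
  have z1 : z ≠ 1 := fun e => by simp [e] at oz
  have t : T3 z := h.of_cube z1 (oz ▸ pow_orderOf_eq_one z)
  have zM : z ∈ M := mo z (by rw [oz]; norm_num)
  obtain ⟨⟨w, wM⟩, hw⟩ := real_of_simple hs (nab_of_card hs (by
    rw [s.card]; rcases hp with ⟨rfl, rfl, rfl⟩ | ⟨rfl, rfl, rfl⟩ <;> norm_num)) (t.sub zM)
  replace hw : w * z * w⁻¹ = z⁻¹ := congrArg Subtype.val hw
  have fz : ∀ R : Sylow p Y, z • R = R → w • R = P ∨ w • R = Q := fun R e => by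
    by_contra hc
    push Not at hc
    refine z1 (Z.three z P Q (w • R) hQ.symm hc.2.symm hc.1.symm hz.1 hz.2 ?_)
    rw [← mul_smul, show z * w = w * z⁻¹ by rw [← mul_inv_eq_iff_eq_mul.mp (by rw [← conj_inv, hw, inv_inv] : w * z⁻¹ * w⁻¹ = z)], mul_smul,
      inv_smul_eq_iff.mpr e.symm]
  have hsw : w • P = Q ∧ w • Q = P := by
    have hne : w • P ≠ w • Q := fun e => hQ ((smul_left_cancel_iff w).mp e).symm
    rcases fz P hz.1 with e | e <;> rcases fz Q hz.2 with e' | e'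
    · exact absurd (e.trans e'.symm) hne
    · have := (hab w ⟨e, e'⟩ z hz).eq
      rw [this, mul_inv_cancel_right] at hw
      exact absurd hw t.ne_inv
    · exact ⟨e, e'⟩
    · exact absurd (e.trans e'.symm) hne
  obtain ⟨R, hR1, hR2⟩ : ∃ R : Sylow p Y, R ≠ P ∧ R ≠ Q :=
    ⟨a • Q, Z.root_smul_ne (hr ▸ ha) hQ, fun e => a1 (free P Q hQ a ha e)⟩
  have wv : ∀ v ∈ H, v * v = 1 → w * v * w⁻¹ = v⁻¹ := fun v hv v2 => by
    rw [inv_eq_of_mul_eq_one_left v2]
    by_cases v1 : v = 1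
    · simp [v1]
    refine Z.involution_unique hQ.symm hR1 hR2 ?_ ?_ (by simpa using v1)
      (by rw [conj_mul, v2]; simp) hv.1 hv.2 v1 v2
    · rw [mul_smul, mul_smul, inv_smul_eq_iff.mpr hsw.2.symm, show v • Q = Q from hv.2, hsw.2]
    · rw [mul_smul, mul_smul, inv_smul_eq_iff.mpr hsw.1.symm, show v • P = P from hv.1, hsw.1]
  refine ((Z.identify hQ.symm (by rw [← one_lt_card_iff_ne_bot, cr]; exact pp.one_lt)
    (fun b hb d hd => ?_) hsw.1 hsw.2 (fun g hg => ?_) (by rw [cr, ← hH]; omega)).2 (ZMod p)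
    (by rw [cr, Nat.card_zmod])).2 (by rw [← hH, Nat.card_zmod]; omega)
  · rw [hr, ← gen P a ha a1] at hb hd
    obtain ⟨i, rfl⟩ := hb
    obtain ⟨j, rfl⟩ := hd
    exact zpow_mul_comm a i j
  · obtain ⟨v, k1, k2, e | e | e⟩ := t.cent (hab z hz g hg)
    · exact e ▸ wv v (e ▸ hg) k2
    · have hv : v ∈ H := by simpa [e] using H.mul_mem hg (H.inv_mem hz)
      rw [e, ← conj_mul, wv v hv k2, hw, ← mul_inv_rev, k1.eq]
    · have hv : v ∈ H := by simpa [e] using H.mul_mem hg hz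
      rw [e, ← conj_mul, wv v hv k2, ← conj_inv, hw, ← mul_inv_rev, k1.inv_left.eq]

theorem p1t3 (hx : orderOf y = 3) (h5 : ¬ 5 ∣ Nat.card Y)
    (hC : Nat.card ↥(centralizer ({y} : Set Y)) = 12)
    (hCab : ∀ a ∈ centralizer ({y} : Set Y), ∀ b ∈ centralizer ({y} : Set Y), a * b = b * a)
    (hCexp : ∀ a ∈ centralizer ({y} : Set Y), a ^ 6 = 1) : T3 y where
  ne := fun e => by simp [e] at hx
  cube := hx ▸ pow_orderOf_eq_one y
  five := h5
  ab := fun a b ha hb => hCab a (mem_centralizer_singleton_iff.mpr ha.symm) b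
    (mem_centralizer_singleton_iff.mpr hb.symm)
  six := fun a ha => hCexp a (mem_centralizer_singleton_iff.mpr ha.symm)
  dvd := hC.dvd

theorem p1equiv {M : Subgroup Y} {S : Type} [Group S] (q : Quo S ⊥ M) : Nonempty (M ≃* S) :=
  let ⟨f, hf, e⟩ := q
  ⟨MulEquiv.ofBijective f
    ⟨(injective_iff_map_eq_one f).mpr fun a ha => Subtype.ext (mem_bot.mp ((e a).mp ha)), hf⟩⟩

theorem p1spec_equiv {X : Type*} [Group X] {p q m n d : ℕ} (h : H3.Spec X p q m n d)
    (e : Y ≃* X) : H3.Spec Y p q m n d :=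
  ⟨h.prime, h.dvd_q, h.cqm, h.cqn, h.cmn, h.hd, (Nat.card_congr e.toEquiv).trans h.card,
    fun g => e.orderOf_eq g ▸ h.spec (e g),
    let ⟨g, hg⟩ := h.exm; ⟨e.symm g, (e.symm.orderOf_eq g).trans hg⟩,
    let ⟨g, hg⟩ := h.exn; ⟨e.symm g, (e.symm.orderOf_eq g).trans hg⟩⟩

theorem p1perm : Nonempty (Equiv.Perm (Fin 3) ≃* DihedralGroup 3) := by
  refine nonempty_mulEquiv_dihedral (c := finRotate 3) (a := Equiv.swap 0 1)
    (orderOf_eq_prime (by decide) (by decide)) (by decide) (by decide) ?_ (by simp [Fintype.card_perm, Nat.factorial])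
  rintro ⟨k, hk⟩
  have := congrArg Equiv.Perm.sign hk
  simp [sign_finRotate] at this

end

theorem s3714_of (H : ∀ (X : Type u) [Group X] [Finite X] (y : X), IsSimpleGroup X →
      (∃ a b : X, a * b ≠ b * a) → T3 y → IH.{u} (Nat.card X) → Nat.card X < 6000)
    {G : Type u} [Group G] [Finite G] (h5 : ¬ 5 ∣ Nat.card G) (x : G) (hx : orderOf x = 3)
    (hC : Nat.card ↥(Subgroup.centralizer ({x} : Set G)) = 12)
    (hCab : ∀ a ∈ Subgroup.centralizer ({x} : Set G), ∀ b ∈ Subgroup.centralizer ({x} : Set G), a * b = b * a)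
    (hCexp : ∀ a ∈ Subgroup.centralizer ({x} : Set G), a ^ 6 = 1) :
    ((Nat.card (G ⧸ Cfsg.pPrimeCore 3 G) = 3 ∨ Nonempty (G ⧸ Cfsg.pPrimeCore 3 G ≃* DihedralGroup 3)) ∧ Group.IsSolvable G) ∨
    (Nonempty (G ⧸ Cfsg.pPrimeCore 3 G ≃* Matrix.ProjectiveSpecialLinearGroup (Fin 2) (ZMod 7)) ∨
      Nonempty (G ⧸ Cfsg.pPrimeCore 3 G ≃* Matrix.ProjectiveSpecialLinearGroup (Fin 2) (ZMod 13))) ∨
    ((Nonempty (G ⧸ Cfsg.pPrimeCore 3 G ≃* (GL (Fin 2) (ZMod 7) ⧸ Subgroup.center (GL (Fin 2) (ZMod 7)))) ∨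
      Nonempty (G ⧸ Cfsg.pPrimeCore 3 G ≃* (GL (Fin 2) (ZMod 13) ⧸ Subgroup.center (GL (Fin 2) (ZMod 13))))) ∧
      ∃ K : Subgroup G, K.Normal ∧ K.index = 2 ∧ K ⊔ Subgroup.centralizer ({x} : Set G) = ⊤) := by
  have h := p1t3 hx h5 hC hCab hCexp
  have cop : ∀ {B : Subgroup G}, (Nat.card B).Coprime 3 ↔ ∀ b ∈ B, b ^ 3 = 1 → b = 1 := by
    intro B
    rw [← not_dvd_card_iff, Nat.coprime_comm, Nat.prime_three.coprime_iff_not_dvd]
  have hO := cop.mp (H7.pPrimeCore_coprime 3 G)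
  set π := QuotientGroup.mk' (Cfsg.pPrimeCore 3 G)
  have hπ : Function.Surjective π := QuotientGroup.mk'_surjective _
  have hk : ∀ b ∈ π.ker, b ^ 3 = 1 → b = 1 := by rwa [QuotientGroup.ker_mk']
  have t := h.map hπ hk
  have k : ∀ K : Subgroup (G ⧸ Cfsg.pPrimeCore 3 G), (∀ l ∈ (⊤ : Subgroup _), ∀ k ∈ K, l * k * l⁻¹ ∈ K) →
      (∀ b ∈ K, b ^ 3 = 1 → b = 1) → K = ⊥ := fun K h1 h2 => by
    have hK : K.Normal := ⟨fun k hk l => h1 l trivial k hk⟩
    have := H7.le_pPrimeCore (hK.comap π) (cop.mpr fun b hb h3 =>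
      hk b (h2 _ hb (by rw [← map_pow, h3, map_one])) h3)
    rw [eq_bot_iff]
    intro g hg
    obtain ⟨g, rfl⟩ := hπ g
    exact (QuotientGroup.eq_one_iff g).mpr (this hg)
  rcases str_of H _ _ t with ⟨K, c⟩ | ⟨K, M, c⟩
  · obtain rfl := k K c.normal c.cube
    have sc : SC (π x) := ⟨t.ne, t.cube, fun g hg => by
      obtain ⟨v, k1, k2, e⟩ := t.cent hg
      simpa [mem_bot.mp (c.cen v trivial k1 k2)] using e⟩
    have e := sc.card_eq_or_perm c.toCore
    refine Or.inl ⟨e.imp id fun ⟨e⟩ => ⟨e.trans p1perm.some⟩,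
      (Group.isSolvable_iff_subgroup_quotient (Cfsg.pPrimeCore 3 G)).mpr ⟨solv3 h5 hO,
        H3.isSolvable_of_card_dvd_prime_pow_mul (a := 1) (b := 1) Nat.prime_two Nat.prime_three ?_⟩⟩
    rcases e with e | ⟨⟨e⟩⟩
    · rw [e]; norm_num
    · rw [Nat.card_congr e.toEquiv]; simp [Fintype.card_perm, Nat.factorial]
  obtain rfl := k K c.nK c.cube
  by_cases hM : M = ⊤
  · subst hM
    exact Or.inr (Or.inl (c.quo.imp (fun q => ⟨topEquiv.symm.trans (p1equiv q).some⟩)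
      fun q => ⟨topEquiv.symm.trans (p1equiv q).some⟩))
  have key : M.index = 2 ∧ (Nonempty (G ⧸ Cfsg.pPrimeCore 3 G ≃* (GL (Fin 2) (ZMod 7) ⧸ center (GL (Fin 2) (ZMod 7)))) ∨
      Nonempty (G ⧸ Cfsg.pPrimeCore 3 G ≃* (GL (Fin 2) (ZMod 13) ⧸ center (GL (Fin 2) (ZMod 13))))) := by
    rcases c.quo with q | q <;> obtain ⟨e⟩ := p1equiv q
    · have := p1simple_L7
      exact (p1pgl t c hM (p1spec_equiv p1spec_L7 e) e.isSimpleGroup (by simp)).imp id Or.inl
    · have := p1simple_L13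
      exact (p1pgl t c hM (p1spec_equiv p1spec_L13 e) e.isSimpleGroup (by simp)).imp id Or.inr
  refine Or.inr (Or.inr ⟨key.2, M.comap π, Normal.comap ⟨fun m hm l => c.nM l trivial m hm⟩ π,
    (M.index_comap_of_surjective hπ).trans key.1, eq_top_iff.mpr fun g _ => ?_⟩)
  obtain ⟨m, hm, a, -, h1, -, e⟩ := c.fra (π g) trivial
  obtain ⟨d, k1, rfl⟩ := h.lift hπ hk h1
  rw [← inv_mul_cancel_right g d]
  refine mul_mem (mem_sup_left ?_) (mem_sup_right (mem_centralizer_singleton_iff.mpr k1.symm))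
  rw [mem_comap, map_mul, map_inv, e, mul_inv_cancel_right]
  exact hm

theorem s3715_of (H : ∀ (X : Type u) [Group X] [Finite X] (y : X), IsSimpleGroup X →
      (∃ a b : X, a * b ≠ b * a) → T3 y → IH.{u} (Nat.card X) → Nat.card X < 6000)
    {G : Type u} [Group G] [Finite G] [IsSimpleGroup G] (hG : ¬ IsMulCommutative G)
    (h5 : ¬ 5 ∣ Nat.card G) (x : G) (hx : orderOf x = 3)
    (hC : Nat.card ↥(Subgroup.centralizer ({x} : Set G)) = 12)
    (hCab : ∀ a ∈ Subgroup.centralizer ({x} : Set G), ∀ b ∈ Subgroup.centralizer ({x} : Set G), a * b = b * a)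
    (hCexp : ∀ a ∈ Subgroup.centralizer ({x} : Set G), a ^ 6 = 1) : False := by
  have h := p1t3 hx h5 hC hCab hCexp
  have nab : ∃ a b : G, a * b ≠ b * a := by
    by_contra hn
    push Not at hn
    exact hG ⟨⟨hn⟩⟩
  rcases iso_of_str ‹_› nab h (str_of H _ _ h) with ⟨⟨e⟩⟩ | ⟨⟨e⟩⟩
  · have := (p1spec_equiv p1spec_L7 e).card_centralizer_dvd h.ne (by rw [hx])
    rw [hC] at this
    norm_num at this
  · have := Fact.mk Nat.prime_two
    obtain ⟨P⟩ : Nonempty (Sylow 2 (centralizer ({x} : Set G))) := inferInstance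
    have cP : Nat.card P = 4 := by
      rw [P.card_eq_multiplicity, hC]
      decide +kernel
    have sq : ∀ u : P, ((u : centralizer ({x} : Set G)) : G) ^ 2 = 1 := fun u => by
      have h4 : ((u : centralizer ({x} : Set G)) : G) ^ 4 = 1 := by
        have : u ^ 4 = 1 := cP ▸ pow_card_eq_one' (x := u)
        exact congrArg (fun v : P => ((v : centralizer ({x} : Set G)) : G)) this
      have h6 := hCexp _ (u : centralizer ({x} : Set G)).2
      rwa [show 6 = 4 + 2 from rfl, pow_add, h4, one_mul] at h6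
    obtain ⟨u, v, u1, v1, uv⟩ : ∃ u v : P, u ≠ 1 ∧ v ≠ 1 ∧ u ≠ v := by
      have := Fintype.ofFinite P
      obtain ⟨a, b, c, h1, h2, h3⟩ := Fintype.two_lt_card_iff.mp
        (show 2 < Fintype.card P by rw [← Nat.card_eq_fintype_card, cP]; norm_num)
      exact ⟨a⁻¹ * b, a⁻¹ * c, fun e => h1 (inv_mul_eq_one.mp e),
        fun e => h2 (inv_mul_eq_one.mp e), fun e => h3 (mul_left_cancel e)⟩
    have cm : ∀ u : P, e x * e (u : centralizer ({x} : Set G)) = e (u : centralizer ({x} : Set G)) * e x :=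
      fun u => by rw [← map_mul, ← map_mul, mem_centralizer_singleton_iff.mp (u : centralizer ({x} : Set G)).2]
    have ne : ∀ u : P, u ≠ 1 → e (u : centralizer ({x} : Set G)) ≠ 1 := fun u hu => by simpa using hu
    refine uv (Subtype.ext (Subtype.ext (e.injective (H3.psl_involution_unique (F := ZMod 13)
      (by decide) (x := e x) ?_ (cm u) (cm v) (ne u u1) (ne v v1)
      (by rw [← map_pow, sq, map_one]) (by rw [← map_pow, sq, map_one])))))
    rw [← map_pow, Ne, map_eq_one_iff e e.injective, ← orderOf_dvd_iff_pow_eq_one, hx]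
    norm_num

end Cfsg.Agent.L0.C12
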