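import Cfsg.Agent.H5.ElBu
import Cfsg.Agent.H1.ElA

/-! An `N(E)`-equivariant map from the fixed points of `E` to the long blocks. -/

set_option autoImplicit false
set_option linter.unusedSectionVars false

namespace Cfsg.Agent.H1.El

open Finset

variable {G : Type*} [Group G] [Finite G] {Ω : Type*} [MulAction G Ω] [FaithfulSMul G Ω]
  [Fintype Ω] [DecidableEq Ω] {p q : ℕ} {P : Sylow p G} {E : Subgroup G} {x : G} {F : Finset Ω}

open Classical in
/-- coordinate of the block of `a` -/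
noncomputable def co5 (p : ℕ) (x : G) (o a : Ω) : ZMod p :=
  if h : ∃ k : ℕ, x ^ k • o = a then (h.choose : ZMod p) else 0

/-- the induced map on blocks -/
noncomputable def sg5 (p : ℕ) (x : G) (o : Ω) (n : G) (t : ZMod p) : ZMod p :=
  co5 p x o (n • x ^ t.val • o)

namespace Cx

variable (h : Cx p q P E x F) {o : Ω} (ho : o ∉ F)
include h

theorem nx5 : x ∈ Subgroup.normalizer (E : Set G) :=
  Subgroup.mem_normalizer_fintype fun e he => h.nrm x h.xP e he

theorem nF5 {n : G} (hn : n ∈ Subgroup.normalizer (E : Set G)) (a : Ω) : n • a ∈ F ↔ a ∈ F :=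
  h.invF (fun e he => (Subgroup.mem_normalizer_iff.1 hn e).1 he) a

include ho

theorem co_pow (k : ℕ) : co5 p x o (x ^ k • o) = k := by
  have key : ∀ i j : ℕ, i ≤ j → x ^ i • o = x ^ j • o → (i : ZMod p) = j := fun i j hij e => by
    obtain ⟨d, rfl⟩ := Nat.exists_eq_add_of_le hij
    rw [pow_add, mul_smul, smul_left_cancel_iff] at e
    have := (dvd_pow_self p two_ne_zero).trans ((h.reg ho).1 e.symm)
    rw [Nat.cast_add, (ZMod.natCast_eq_zero_iff _ _).2 this, add_zero]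
  have ex : ∃ j : ℕ, x ^ j • o = x ^ k • o := ⟨k, rfl⟩
  rw [co5, dif_pos ex]
  rcases le_total ex.choose k with l | l
  · exact key _ _ l ex.choose_spec
  · exact (key _ _ l ex.choose_spec.symm).symm

theorem co_smul {a : Ω} (ha : a ∉ F) (k : ℕ) : co5 p x o (x ^ k • a) = co5 p x o a + k := by
  obtain ⟨j, rfl⟩ := h.trL ho ha
  rw [← mul_smul, ← pow_add, h.co_pow ho, h.co_pow ho, Nat.cast_add, add_comm]

theorem co_E {a : Ω} (ha : a ∉ F) {e : G} (he : e ∈ E) : co5 p x o (e • a) = co5 p x o a := by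
  obtain ⟨k, hk⟩ := h.orbE a ha e he
  rw [hk, ← pow_mul, h.co_smul ho ha]; simp

theorem co_sg {n : G} (hn : n ∈ Subgroup.normalizer (E : Set G)) {a : Ω} (ha : a ∉ F) :
    co5 p x o (n • a) = sg5 p x o n (co5 p x o a) := by
  have := Fact.mk h.hp
  obtain ⟨j, rfl⟩ := h.trL ho ha
  rw [h.co_pow ho, sg5, ZMod.val_natCast]
  conv_lhs => rw [← Nat.div_add_mod j p, pow_add, pow_mul, mul_smul, ← mul_smul n,
    show n * (x ^ p) ^ (j / p) = n * (x ^ p) ^ (j / p) * n⁻¹ * n by group, mul_smul]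
  exact h.co_E ho (by rw [h.nF5 hn, h.nF5 (pow_mem h.nx5 _)]; exact ho)
    ((Subgroup.mem_normalizer_iff.1 hn _).1 (pow_mem h.zE _))

theorem co_surj (t : ZMod p) : ∃ a, a ∉ F ∧ co5 p x o a = t := by
  have := Fact.mk h.hp
  exact ⟨x ^ t.val • o, by rw [h.nF5 (pow_mem h.nx5 _)]; exact ho, by simp [h.co_pow ho]⟩

theorem sg_mul {n m : G} (hn : n ∈ Subgroup.normalizer (E : Set G))
    (hm : m ∈ Subgroup.normalizer (E : Set G)) (t : ZMod p) :
    sg5 p x o (n * m) t = sg5 p x o n (sg5 p x o m t) := by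
  obtain ⟨a, ha, rfl⟩ := h.co_surj ho t
  rw [← h.co_sg ho (mul_mem hn hm) ha, ← h.co_sg ho hm ha, ← h.co_sg ho hn (by rwa [h.nF5 hm]),
    mul_smul]

theorem sg_pow (k : ℕ) (t : ZMod p) : sg5 p x o (x ^ k) t = t + k := by
  obtain ⟨a, ha, rfl⟩ := h.co_surj ho t
  rw [← h.co_sg ho (pow_mem h.nx5 k) ha, h.co_smul ho ha]

theorem sg_E {e : G} (he : e ∈ E) (t : ZMod p) : sg5 p x o e t = t := by
  obtain ⟨a, ha, rfl⟩ := h.co_surj ho t
  rw [← h.co_sg ho (Subgroup.le_normalizer he) ha, h.co_E ho ha he]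

variable (hE : E = Subgroup.zpowers (x ^ p))
include hE

theorem sg_cen {g : G} (hg : g ∈ Subgroup.centralizer {x ^ p}) :
    ∃ k : ZMod p, ∀ t, sg5 p x o g t = t + k := by
  have := Fact.mk h.hp
  have hC : ∀ g ∈ Subgroup.centralizer {x ^ p}, g ∈ Subgroup.normalizer (E : Set G) := fun g hg =>
    Subgroup.mem_normalizer_fintype fun e he => by
      obtain ⟨k, rfl⟩ := Subgroup.mem_zpowers_iff.1 (hE ▸ he)
      rw [(Commute.zpow_right (Subgroup.mem_centralizer_singleton_iff.1 hg) k).eq, mul_inv_cancel_right]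
      exact he
  have hx : x ∈ Subgroup.centralizer {x ^ p} :=
    Subgroup.mem_centralizer_singleton_iff.2 ((Commute.refl x).pow_right p).eq
  obtain ⟨U, h1, h2, h3, h4⟩ := bu h.hp _ x hx h.ord (h.cyc hE).2.2.1 fun n hn _ => by
    rw [Subgroup.mem_centralizer_singleton_iff.1 hn, mul_inv_cancel_right]
  let _ : MulAction U (ZMod p) :=
    { smul := fun u t => sg5 p x o u t
      one_smul := fun t => h.sg_E ho E.one_mem t
      mul_smul := fun u v t => h.sg_mul ho (hC _ (h1 u.2)) (hC _ (h1 v.2)) t }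
  have sm : ∀ (u : U) (t : ZMod p), u • t = sg5 p x o u t := fun _ _ => rfl
  have cj : ∀ (u : U) (s : ZMod p), ∃ v : U, ∀ t : ZMod p, v • (t + s) = u • t + s := fun u s => by
    have hs := pow_mem hx s.val
    refine ⟨⟨_, h2 _ hs u u.2⟩, fun t => ?_⟩
    have := h.sg_mul ho (hC _ (h1 (h2 _ hs u u.2))) (hC _ hs) t
    rw [inv_mul_cancel_right, h.sg_mul ho (hC _ hs) (hC _ (h1 u.2)), h.sg_pow ho, h.sg_pow ho,
      ZMod.natCast_zmod_val] at this
    exact this.symm
  have fx : ∀ (u : U) (t : ZMod p), u • t = t := fun u t => by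
    by_contra ne
    have st : ∀ k : ℕ, ∃ v : U, v • t = t + k * (u • t - t) := fun k => by
      induction k with
      | zero => exact ⟨1, by simp⟩
      | succ k ih =>
        obtain ⟨v, hv⟩ := ih
        obtain ⟨w, hw⟩ := cj u (k * (u • t - t))
        exact ⟨w * v, by rw [mul_smul, hv, hw]; push_cast; ring⟩
    have ob : MulAction.orbit U t = Set.univ := Set.eq_univ_of_forall fun s => by
      obtain ⟨v, hv⟩ := st ((s - t) / (u • t - t)).val
      exact ⟨v, by
        simp only [hv, ZMod.natCast_zmod_val, div_mul_cancel₀ _ (sub_ne_zero.2 ne), add_sub_cancel]⟩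
    have := (MulAction.stabilizer U t).index_dvd_card
    rw [MulAction.index_stabilizer, ob, Set.ncard_univ, Nat.card_zmod] at this
    exact h3 this
  obtain ⟨u, hu, k, rfl⟩ := h4 g hg
  exact ⟨k, fun t => by
    rw [h.sg_mul ho (hC _ (h1 hu)) (pow_mem h.nx5 k), h.sg_pow ho]; exact fx ⟨u, hu⟩ _⟩

theorem sg_aff {n : G} (hn : n ∈ Subgroup.normalizer (E : Set G)) :
    ∃ A b : ZMod p, ∀ t, sg5 p x o n t = b + A * t := by
  have := Fact.mk h.hp
  obtain ⟨k, hk⟩ := h.sg_cen ho hE (g := n * x * n⁻¹) (by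
    rw [Subgroup.mem_centralizer_singleton_iff]
    obtain ⟨j, hj⟩ := Subgroup.mem_zpowers_iff.1
      (hE ▸ (Subgroup.mem_normalizer_iff.1 (inv_mem hn) _).1 h.zE)
    have : x ^ p = n * (x ^ p) ^ j * n⁻¹ := by rw [hj]; group
    rw [this, conj_mul, conj_mul, (((Commute.refl x).pow_right p).zpow_right j).eq])
  refine ⟨k, sg5 p x o n 0, fun t => ?_⟩
  rw [← ZMod.natCast_zmod_val t]
  induction t.val with
  | zero => simp
  | succ j ih =>
    have e1 := h.sg_mul ho hn h.nx5 j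
    have e2 := h.sg_mul ho (mul_mem (mul_mem hn h.nx5) (inv_mem hn)) hn j
    have e3 := h.sg_pow ho 1 j
    rw [pow_one] at e3
    rw [inv_mul_cancel_right, e1, e3, hk, ih] at e2
    push_cast at e2 ⊢
    rw [e2]; ring

theorem sg_tr {w : Ω} (hw : w ∈ F) {n : G} (hn : n ∈ Subgroup.normalizer (E : Set G))
    (e : n • w = w) {k : ZMod p} (hk : ∀ t, sg5 p x o n t = t + k) : k = 0 := by
  have := Fact.mk h.hp
  obtain ⟨j, r, hr, eo⟩ := Nat.exists_eq_pow_mul_and_not_dvd (orderOf_pos n).ne' p h.hp.ne_one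
  have hg : IsPGroup p (Subgroup.zpowers (n ^ r)) := by
    refine IsPGroup.iff_card.2 ?_
    obtain ⟨k, -, hk⟩ := (Nat.dvd_prime_pow h.hp).1 (orderOf_dvd_of_pow_eq_one
      (show (n ^ r) ^ p ^ j = 1 by rw [← pow_mul, mul_comm, ← eo, pow_orderOf_eq_one]))
    exact ⟨k, by rw [Nat.card_zpowers, hk]⟩
  have hEp : IsPGroup p E := IsPGroup.of_card (n := 1) (by simpa using (h.cyc hE).1)
  have hS := hg.to_sup_of_normal_right' hEp (Subgroup.zpowers_le.2 (pow_mem hn r))
  have hle : Subgroup.zpowers (n ^ r) ⊔ E ≤ MulAction.stabilizer G w :=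
    sup_le (Subgroup.zpowers_le.2 (pow_mem e r)) fun y hy => (h.memF w).1 hw y hy
  obtain ⟨i, hi⟩ := IsPGroup.iff_card.1 hS
  have hi1 : i ≤ 1 := by
    by_contra hh
    exact (h.cyc hE).2.2.2 w ((pow_dvd_pow p (by omega)).trans (hi ▸ Subgroup.card_dvd_of_le hle))
  have hq : E = Subgroup.zpowers (n ^ r) ⊔ E := Subgroup.eq_of_le_of_card_ge le_sup_right (by
    rw [hi, (h.cyc hE).1]; simpa using Nat.pow_le_pow_right h.hp.pos hi1)
  have hm : n ^ r ∈ E := hq ▸ Subgroup.mem_sup_left (Subgroup.mem_zpowers _)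
  have pw : ∀ i : ℕ, sg5 p x o (n ^ i) 0 = i * k := fun i => by
    induction i with
    | zero => simpa using h.sg_E ho E.one_mem 0
    | succ i ih => rw [pow_succ', h.sg_mul ho hn (pow_mem hn i), ih, hk]; push_cast; ring
  have := pw r
  rw [h.sg_E ho hm] at this
  exact (mul_eq_zero.1 this.symm).resolve_left (by rwa [ZMod.natCast_eq_zero_iff])

theorem sg_fix {w : Ω} (hw : w ∈ F) : ∃ t, ∀ n ∈ Subgroup.normalizer (E : Set G), n • w = w →
    sg5 p x o n t = t := by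
  have := Fact.mk h.hp
  by_cases H : ∀ n ∈ Subgroup.normalizer (E : Set G), n • w = w → sg5 p x o n 0 = 0
  · exact ⟨0, H⟩
  push Not at H
  obtain ⟨m, hm, em, ne⟩ := H
  obtain ⟨A, b, hA⟩ := h.sg_aff ho hE hm
  have A1 : 1 - A ≠ 0 := fun e => ne (by
    have : A = 1 := (sub_eq_zero.1 e).symm
    rw [hA, mul_zero, add_zero]
    exact h.sg_tr ho hE hw hm em fun t => by rw [hA, this]; ring)
  refine ⟨b / (1 - A), fun n hn en => ?_⟩
  obtain ⟨B, c, hB⟩ := h.sg_aff ho hE hn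
  have hg := mul_mem (mul_mem hm hn) (inv_mem (mul_mem hn hm))
  have := h.sg_tr ho hE hw hg (k := b + A * c - c - B * b) (by
    rw [mul_smul, inv_smul_eq_iff.2 (show w = (n * m) • w by rw [mul_smul, em, en]), mul_smul, en, em])
    fun t => by
      have e1 := h.sg_mul ho (mul_mem hn hm) (inv_mem (mul_mem hn hm)) t
      rw [mul_inv_cancel, h.sg_E ho E.one_mem, h.sg_mul ho hn hm, hB, hA] at e1
      rw [h.sg_mul ho (mul_mem hm hn) (inv_mem (mul_mem hn hm)), h.sg_mul ho hm hn, hA, hB]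
      linear_combination -e1
  rw [hB]
  field_simp
  linear_combination -this

end Cx

theorem Cx.beta (h : Cx p q P E x F) (hE : E = Subgroup.zpowers (x ^ p)) :
    ∃ R : Ω → Ω → Prop, (∀ a ∈ F, R a a) ∧ (∀ a b, R a b → R b a) ∧
      (∀ a b c, R a b → R b c → R a c) ∧
      (∀ n : G, (∀ e, e ∈ E ↔ n * e * n⁻¹ ∈ E) → ∀ a b, R a b → R (n • a) (n • b)) ∧
      ∀ a ∈ F, Nat.card {b // b ∈ F ∧ R a b} = 2 * q - p := by
  classical
  have := Fact.mk h.hp
  obtain ⟨o, ho⟩ : ∃ o, o ∉ F := by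
    by_contra hh
    push Not at hh
    have := h.cardF
    rw [eq_univ_of_forall hh, card_univ] at this
    have := pow_pos h.hp.pos 2
    omega
  obtain ⟨w, hw⟩ : F.Nonempty := card_pos.1 (by
    rw [h.cF]; exact Nat.mul_pos (by have := h.five; omega) h.hp.pos)
  obtain ⟨s, hs⟩ := h.sg_fix ho hE hw
  have tr : ∀ a ∈ F, ∃ n ∈ Subgroup.normalizer (E : Set G), n • w = a := fun a ha => by
    obtain ⟨g, rfl⟩ := h.tr w a
    obtain ⟨n, h1, h2, -⟩ := h.witt hw hw ha ha
    exact ⟨n, Subgroup.mem_normalizer_iff.2 h1, h2⟩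
  choose! ν h1 h2 using tr
  let β : Ω → ZMod p := fun a => sg5 p x o (ν a) s
  have eq : ∀ n ∈ Subgroup.normalizer (E : Set G), ∀ a ∈ F, β (n • a) = sg5 p x o n (β a) :=
    fun n hn a ha => by
      have ha' := (h.nF5 hn a).2 ha
      have hg := mul_mem (inv_mem (h1 _ ha')) (mul_mem hn (h1 a ha))
      have := h.sg_mul ho (h1 _ ha') hg s
      rw [hs _ hg (by rw [mul_smul, mul_smul, h2 a ha, inv_smul_eq_iff, h2 _ ha']),
        mul_inv_cancel_left, h.sg_mul ho hn (h1 a ha)] at this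
      exact this.symm
  refine ⟨fun a b => a ∈ F ∧ b ∈ F ∧ β a = β b, fun a ha => ⟨ha, ha, rfl⟩,
    fun a b r => ⟨r.2.1, r.1, r.2.2.symm⟩, fun a b c r t => ⟨r.1, t.2.1, r.2.2.trans t.2.2⟩,
    fun n hn a b r => ?_, fun a ha => ?_⟩
  · have hn' := Subgroup.mem_normalizer_iff.2 hn
    exact ⟨(h.nF5 hn' a).2 r.1, (h.nF5 hn' b).2 r.2.1, by rw [eq n hn' a r.1, eq n hn' b r.2.1, r.2.2]⟩
  have fib : ∀ t, (F.filter fun b => β b = t).card = (F.filter fun b => β b = β a).card := fun t => by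
    have hn := pow_mem h.nx5 (β a - t).val
    refine card_bij (fun b _ => x ^ (β a - t).val • b) (fun b hb => ?_)
      (fun b _ c _ e => smul_left_cancel _ e) fun b hb => ⟨(x ^ (β a - t).val)⁻¹ • b, ?_, by simp⟩
    · rw [mem_filter] at hb ⊢
      exact ⟨(h.nF5 hn b).2 hb.1, by rw [eq _ hn b hb.1, h.sg_pow ho, hb.2]; simp⟩
    · rw [mem_filter] at hb ⊢
      have hb' := (h.nF5 (inv_mem hn) b).2 hb.1
      have := eq _ hn _ hb'
      rw [smul_inv_smul, h.sg_pow ho, hb.2, ZMod.natCast_zmod_val] at this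
      exact ⟨hb', by linear_combination -this⟩
  have tot := card_eq_sum_card_fiberwise (s := F) (t := univ) (f := β) fun _ _ => mem_univ _
  rw [sum_congr rfl fun t _ => fib t, sum_const, card_univ, ZMod.card, smul_eq_mul, h.cF,
    mul_comm] at tot
  rw [Nat.eq_of_mul_eq_mul_left h.hp.pos tot, ← Nat.card_eq_finsetCard]
  exact Nat.card_congr (Equiv.subtypeEquivRight fun b => by
    rw [mem_filter]; exact ⟨fun r => ⟨r.1, r.2.2.2.symm⟩, fun r => ⟨r.1, ha, r.1, r.2.symm⟩⟩)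

end Cfsg.Agent.H1.El
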