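import Cfsg.Agent.H5.MtB

/-!
# Groups whose order divides that of `M₁₂`, III: the characters not vanishing at elements of
order eleven
-/

set_option autoImplicit false
set_option linter.unusedSectionVars false

namespace Cfsg.Agent.H5.MT

open Cfsg Cfsg.Agent.H3 Subgroup Finset
open Cfsg.Agent.H9.FT (radI radI_mul radI_mul' dvd_of_mem_radI)
open scoped ComplexConjugate Classical

variable {G : Type*} [Group G] [Finite G]

/-- The sign attached to a degree. -/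
def sg (d : ℕ) : ℤ := if d % 11 = 1 ∨ d % 11 = 6 then 1 else -1

/-- The possible degrees. -/
def PATS : List (ℕ × ℕ × ℕ × ℕ × ℕ) :=
  [(5, 10, 10, 12, 12), (5, 10, 10, 120, 144), (5, 12, 12, 12, 32), (5, 12, 32, 120, 144),
  (5, 32, 45, 45, 54), (5, 32, 54, 54, 144), (6, 10, 10, 32, 45), (6, 10, 12, 45, 54),
  (6, 12, 32, 32, 45), (16, 10, 10, 10, 45), (16, 10, 12, 32, 45), (16, 12, 12, 45, 54),
  (16, 45, 45, 45, 120), (16, 45, 54, 120, 144), (27, 10, 12, 12, 12), (27, 10, 12, 120, 144),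
  (27, 10, 45, 45, 54), (27, 10, 54, 54, 144), (27, 32, 32, 45, 45), (27, 32, 32, 54, 144),
  (60, 10, 12, 12, 45), (60, 10, 45, 120, 144), (72, 10, 12, 45, 120), (72, 10, 45, 54, 54),
  (72, 32, 32, 45, 54), (160, 32, 45, 54, 120)]

theorem mem_PATS : ∀ a ∈ [5, 6, 16, 27, 60, 72, 160, 192, 270],
    ∀ b ∈ [10, 12, 32, 45, 54, 120, 144], ∀ c ∈ [10, 12, 32, 45, 54, 120, 144], b ≤ c →
    ∀ d ∈ [10, 12, 32, 45, 54, 120, 144], c ≤ d → ∀ e ∈ [10, 12, 32, 45, 54, 120, 144], d ≤ e →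
    1 + (sg a * a + sg b * b + sg c * c + sg d * d + sg e * e) = 0 →
    1 + a ^ 2 + (a ^ 2 + b ^ 2 + c ^ 2 + d ^ 2 + e ^ 2) ≤ 95040 → (a, b, c, d, e) ∈ PATS := by
  decide +kernel

theorem deg_cases : ∀ d ∈ H4.M12R.D, d ≤ 308 → 1 < d →
    (d % 11 = 1 ∨ d % 11 = 10 → d ∈ [10, 12, 32, 45, 54, 120, 144]) ∧
    (d % 11 = 5 ∨ d % 11 = 6 → d ∈ [5, 6, 16, 27, 60, 72, 160, 192, 270]) ∧
    (d % 11 = 2 → 2 * d + 1 ∣ 95040 → d = 2) ∧ (d % 11 = 9 → ¬ 2 * d - 1 ∣ 95040) := by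
  decide +kernel

/-- A self-centralizing element of order eleven with automizer of order five. -/
structure E5 (x : G) : Prop where
  simple : IsSimpleGroup G
  nc : ¬ IsMulCommutative G
  dvd : Nat.card G ∣ 95040
  ord : orderOf x = 11
  cent : ∀ a, Commute a x → a ∈ zpowers x
  c3 : IsConj x (x ^ 3)
  ni : ¬ IsConj x x⁻¹

/-- The characters not vanishing at `x`. -/
structure Blk (x : G) (X : Fin 5 → IrrCharacter G) (ψ : IrrCharacter G) (D : Fin 5 → ℕ) : Prop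
    extends E5 x where
  deg : ∀ i, (X i).1 1 = D i
  reg : ∀ g, IsPReg 11 g → ψ.1 g = (X 0).1 g
  nodup : [o G, ψ, X 0, X 1, X 2, X 3, X 4].Nodup
  mem : ∀ θ : IrrCharacter G, θ.1 x ≠ 0 ↔ θ ∈ [o G, ψ, X 0, X 1, X 2, X 3, X 4]
  val0 : ψ.1 x + (X 0).1 x = sg (D 0)
  val : ∀ i, i ≠ 0 → (X i).1 x = sg (D i)
  pat : (D 0, D 1, D 2, D 3, D 4) ∈ PATS

theorem card_cent {x : G} {n : ℕ} (hx : orderOf x = n) (hc : ∀ a, Commute a x → a ∈ zpowers x) :
    Nat.card (centralizer {x}) = n := by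
  rw [← hx, ← Nat.card_zpowers, le_antisymm (fun a ha => hc a (mem_centralizer_singleton_iff.1 ha))
    (zpowers_le_of_mem (mem_centralizer_singleton_iff.2 rfl))]

theorem deg_sq_le (s : Finset (IrrCharacter G)) {d : IrrCharacter G → ℕ}
    (hd : ∀ χ, χ.1 1 = d χ) : ∑ χ ∈ s, d χ ^ 2 ≤ Nat.card G := by
  have h1 := sum_irr_one_sq (G := G)
  simp only [hd] at h1
  rw [show Nat.card G = ∑ χ, d χ ^ 2 by exact_mod_cast h1.symm]
  exact sum_le_sum_of_subset (subset_univ s)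

theorem sum_list {ι M : Type*} [Fintype ι] [AddCommMonoid M] {L : List ι} (h : L.Nodup) {p : ι → Prop}
    (hp : ∀ i, ¬ p i ↔ i ∈ L) (F : ι → M) :
    ∑ i, F i = (L.map F).sum + ∑ i with p i, F i := by
  rw [← sum_filter_add_sum_filter_not univ p, add_comm, ← List.sum_toFinset F h]
  congr 2
  ext i
  simp [hp]

namespace E5

variable {x : G} (h : E5 x)
include h

theorem x11 (n : ℕ) : (x ^ n) ^ 11 = 1 := by
  rw [← pow_mul, mul_comm, pow_mul, ← h.ord, pow_orderOf_eq_one, one_pow]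

theorem ne_one : x ≠ 1 := fun e => by
  have := h.ord
  rw [e, orderOf_one] at this
  omega

theorem five_sum {χ : G → ℂ} (hχ : IsCharacter G χ) :
    ∑ i ∈ range 11, χ (x ^ i) = χ 1 + 5 * (χ x + χ x⁻¹) := by
  have h1 : ∀ j i, 3 ^ j % 11 = i % 11 → χ (x ^ i) = χ x := fun j i e => by
    rw [isClassFunction_isConj (char_isClassFunction hχ) (conj_iter h.c3 j),
      (H4.Nse.pow_eq_iff h.ord _ _).2 e]
  have h2 : ∀ j i, 3 ^ j * 10 % 11 = i % 11 → χ (x ^ i) = χ x⁻¹ := fun j i e => by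
    rw [inv_eq h.ord, isClassFunction_isConj (char_isClassFunction hχ)
      (conj_pow' (conj_iter h.c3 j) 10), ← pow_mul, (H4.Nse.pow_eq_iff h.ord _ _).2 e]
  simp only [sum_range_succ, range_zero, sum_empty, pow_zero, pow_one, h1 1 3 rfl, h1 2 9 rfl,
    h1 3 5 rfl, h1 4 4 rfl, h2 0 10 rfl, h2 1 8 rfl, h2 2 2 rfl, h2 3 6 rfl, h2 4 7 rfl]
  ring

theorem five_int {χ : G → ℂ} (hχ : IsCharacter G χ) : ∃ s : ℤ, χ x + χ x⁻¹ = s := by
  obtain ⟨m, hm⟩ := G22.exists_sum_pow hχ h.ord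
  obtain ⟨d, hd⟩ := char_one_nat hχ
  rw [h.five_sum hχ, hd] at hm
  exact int_of_mul ((char_isIntegral hχ _).add (char_isIntegral hχ _)) (k := 5) (m := 11 * m - d)
    (by norm_num) (by push_cast at hm ⊢; linear_combination hm)

theorem data (χ : IrrCharacter G) : ∃ s n : ℤ, χ.1 x + χ.1 x⁻¹ = s ∧ χ.1 x * χ.1 x⁻¹ = n ∧
    s ^ 2 ≤ 4 * n ∧ 11 ∣ 4 * n - s ^ 2 ∧ (4 * n = s ^ 2 ↔ χ.1 x⁻¹ = χ.1 x) := by
  obtain ⟨s, hs⟩ := h.five_int (ch χ)
  obtain ⟨m, hm⟩ := h.five_int (isCharacter_mul (ch χ) (isCharacter_inv (ch χ)))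
  simp only [Pi.mul_apply, inv_inv] at hm
  obtain ⟨n, hn⟩ := int_of_mul ((char_isIntegral (ch χ) x).mul (char_isIntegral (ch χ) x⁻¹))
    (k := 2) (m := m) two_ne_zero (by push_cast; linear_combination hm)
  have e : ((4 * n - s ^ 2 : ℤ) : ℂ) = (χ.1 x⁻¹ - χ.1 x) * (χ.1 x - χ.1 x⁻¹) := by
    push_cast
    rw [← hs, ← hn]
    ring
  refine ⟨s, n, hs, hn, ?_, dvd_of_mem_radI (p := 11) (by norm_num) ?_, ?_⟩
  · rw [char_inv (ch χ)] at e
    have := congrArg Complex.re e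
    simp only [Complex.intCast_re, Complex.mul_re, Complex.sub_re, Complex.conj_re, Complex.sub_im,
      Complex.conj_im] at this
    have h1 : ((0 : ℤ) : ℝ) ≤ (4 * n - s ^ 2 : ℤ) := by
      rw [this]
      push_cast
      nlinarith [sq_nonneg (χ.1 x).im]
    exact sub_nonneg.1 (Int.cast_le.1 h1)
  · rw [e]
    refine radI_mul ?_ ((char_isIntegral (ch χ) _).sub (char_isIntegral (ch χ) _))
    have := sub_mem (cong_one (by norm_num) (ch χ) (h.x11 10))
      (cong_one (by norm_num) (ch χ) (h.x11 1))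
    rwa [sub_sub_sub_cancel_right, pow_one, ← inv_eq h.ord] at this
  · rw [← sub_eq_zero, ← Int.cast_eq_zero (α := ℂ), e, mul_eq_zero, sub_eq_zero, sub_eq_zero,
      or_iff_left_of_imp Eq.symm]

theorem exists_blk : ∃ X ψ D, Blk x X ψ D := by
  have := h.simple
  choose s n hs hn h1 h2 h3 using h.data
  choose d d0 hd using fun χ : IrrCharacter G => irr_one_pos χ.2
  have hC := card_cent h.ord h.cent
  have sn : ∑ χ, n χ = 11 := by
    have := sum_irr_mul_conj x x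
    simp only [← char_inv (ch _), hn, IsConj.refl, if_true, hC] at this
    exact_mod_cast this
  have ss : ∑ χ, s χ ^ 2 = 22 := by
    have a := sum_irr_mul_conj x⁻¹ x
    have b := sum_irr_mul_conj x x⁻¹
    simp only [← char_inv (ch _), inv_inv, if_neg h.ni, if_neg fun e : IsConj x⁻¹ x => h.ni e.symm]
      at a b
    have : ((∑ χ, s χ ^ 2 : ℤ) : ℂ) = (2 * ∑ χ, n χ : ℤ) := by
      push_cast
      rw [← add_zero (2 * _), ← add_zero (2 * _ + 0), mul_sum]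
      nth_rewrite 1 [← a, ← b]
      rw [← sum_add_distrib, ← sum_add_distrib]
      exact sum_congr rfl fun χ _ => by rw [← hs, ← hn]; ring
    rw [sn] at this
    exact_mod_cast this
  have sd : ∑ χ, s χ * d χ = 0 := by
    have a := sum_irr_one_mul x
    have b := sum_irr_one_mul x⁻¹
    rw [if_neg h.ne_one] at a
    rw [if_neg (inv_ne_one.2 h.ne_one)] at b
    have : ((∑ χ, s χ * d χ : ℤ) : ℂ) = 0 := by
      push_cast
      rw [← add_zero 0]
      nth_rewrite 1 [← a, ← b]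
      rw [← sum_add_distrib]
      exact sum_congr rfl fun χ _ => by rw [← hs, hd]; ring
    exact_mod_cast this
  obtain ⟨u, hu⟩ := exists_gal (G := G) (show Nat.Coprime 10 11 by norm_num)
  have g1 : ∀ χ, (gal u χ).1 x = χ.1 x⁻¹ := fun χ => by
    rw [(hu χ x).1 (by simpa using h.x11 1), inv_eq h.ord]
  have g2 : ∀ χ, (gal u χ).1 x⁻¹ = χ.1 x := fun χ => by
    rw [inv_eq h.ord, (hu χ _).1 (h.x11 10), ← pow_mul, (H4.Nse.pow_eq_iff h.ord (10 * 10) 1).2 rfl,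
      pow_one]
  have g3 : ∀ χ, s (gal u χ) = s χ ∧ n (gal u χ) = n χ ∧ d (gal u χ) = d χ := fun χ =>
    ⟨Int.cast_injective (α := ℂ) (by rw [← hs, ← hs, g1, g2, add_comm]),
      Int.cast_injective (α := ℂ) (by rw [← hn, ← hn, g1, g2, mul_comm]),
      Nat.cast_injective (R := ℂ) (by rw [← hd, ← hd, gal_one])⟩
  have so : s (o G) = 2 ∧ n (o G) = 1 ∧ d (o G) = 1 := by
    have a := hs (o G)
    have b := hn (o G)
    have c := hd (o G)
    simp only [o_apply, mul_one, one_add_one_eq_two] at a b c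
    exact ⟨by exact_mod_cast a.symm, by exact_mod_cast b.symm, by exact_mod_cast c.symm⟩
  have sD : ∑ χ, (4 * n χ - s χ ^ 2) = 22 := by rw [sum_sub_distrib, ← mul_sum, sn, ss]; rfl
  obtain ⟨φ, -, hφ⟩ := exists_ne_zero_of_sum_ne_zero (sD.trans_ne (by norm_num))
  have n1 : gal u φ ≠ φ := fun e => hφ (sub_eq_zero.2 ((h3 φ).2 (by rw [← g1, e])))
  have n2 : o G ≠ φ := fun e => hφ (by rw [← e, so.1, so.2.1]; rfl)
  have n3 : o G ≠ gal u φ := fun e => hφ (by rw [← (g3 φ).1, ← (g3 φ).2.1, ← e, so.1, so.2.1]; rfl)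
  set R := univ \ {o G, gal u φ, φ} with hR
  have sp : ∀ F : IrrCharacter G → ℤ, F (gal u φ) = F φ →
      ∑ χ, F χ = F (o G) + 2 * F φ + ∑ χ ∈ R, F χ := fun F hF => by
    rw [← sum_sdiff (subset_univ {o G, gal u φ, φ}), sum_insert (by simp [n2, n3]), sum_pair n1, hF]
    ring
  have a := sp (fun χ => 4 * n χ - s χ ^ 2) (by simp only [g3])
  have a' := sum_nonneg (s := R) fun χ _ => sub_nonneg.2 (h1 χ)
  have a1 := h1 φ
  have a2 := h2 φ
  rw [sD, so.1, so.2.1] at a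
  have b' := (sum_eq_zero_iff_of_nonneg fun χ _ => sub_nonneg.2 (h1 χ)).1
    (by omega : ∑ χ ∈ R, (4 * n χ - s χ ^ 2) = 0)
  have c : ∀ χ ∈ R, χ.1 x = (s χ / 2 : ℤ) ∧ s χ = 2 * (s χ / 2) := fun χ hχ => by
    have c2 := hs χ
    rw [(h3 χ).1 (sub_eq_zero.1 (b' χ hχ)), ← two_mul] at c2
    obtain ⟨e, he⟩ := int_of_mul (char_isIntegral (ch χ) x) two_ne_zero c2
    have c3 : s χ = 2 * e := by
      rw [he] at c2
      exact_mod_cast c2.symm
    exact ⟨by rw [he, c3]; simp, by omega⟩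
  obtain ⟨e, he⟩ : ∃ e : IrrCharacter G → ℤ, ∀ χ ∈ R, χ.1 x = e χ ∧ s χ = 2 * e χ := ⟨_, c⟩
  clear c
  have b := sp (fun χ => s χ ^ 2) (by simp only [g3])
  have c := sp (fun χ => s χ * d χ) (by simp only [g3])
  rw [ss, so.1, sum_congr rfl fun χ hχ => by rw [(he χ hχ).2, mul_pow], ← mul_sum] at b
  rw [sd, so.1, so.2.2, sum_congr rfl fun χ hχ => by rw [(he χ hχ).2, mul_assoc], ← mul_sum] at c
  have b1 := sum_nonneg (s := R) fun χ _ => sq_nonneg (e χ)
  have hs1 : s φ = 1 ∨ s φ = -1 := by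
    have c3 : -4 < s φ ∧ s φ < 4 := abs_lt.1 (abs_lt_of_sq_lt_sq (by omega) (by norm_num))
    have c4 : s φ ^ 2 = 9 → ¬ 3 ∣ s φ := fun e1 e2 => by
      rw [sum_eq_zero fun χ hχ => by rw [pow_eq_zero_iff two_ne_zero |>.1
        ((sum_eq_zero_iff_of_nonneg fun χ _ => sq_nonneg (e χ)).1 (by omega) χ hχ), zero_mul]] at c
      have := e2.mul_right (d φ : ℤ)
      omega
    obtain ⟨c3, c5⟩ := c3
    generalize s φ = t at *
    interval_cases t <;> omega
  have b2 : ∑ χ ∈ R, e χ ^ 2 = 4 := by rcases hs1 with e | e <;> rw [e] at b <;> omega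
  have hD : ∀ χ, χ ≠ o G → _ := fun χ hχ => deg_cases (d χ)
    (mem_D ((irr_degree_dvd_card χ.2 (hd χ)).trans h.dvd)) (by
      have := (deg_sq_le {χ} hd).trans (Nat.le_of_dvd (by norm_num) h.dvd)
      rw [sum_singleton] at this
      nlinarith) (one_lt_deg h.nc hχ (hd χ))
  have hRo : ∀ χ ∈ R, χ ≠ o G := fun χ hχ e => by simp [hR, e] at hχ
  have m1 : ∀ χ ∈ R, (11 : ℤ) ∣ e χ - d χ := fun χ hχ => dvd_of_mem_radI (p := 11) (by norm_num) (by
    have := cong_one (by norm_num) (ch χ) (h.x11 1)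
    rw [pow_one, (he χ hχ).1, hd] at this
    simpa using this)
  have m2 : (11 : ℤ) ∣ s φ - 2 * d φ := dvd_of_mem_radI (p := 11) (by norm_num) (by
    have := add_mem (cong_one (by norm_num) (ch φ) (h.x11 1))
      (cong_one (by norm_num) (ch φ) (h.x11 10))
    rw [pow_one, ← inv_eq h.ord, ← add_sub_add_comm, hs, hd] at this
    simpa [two_mul] using this)
  have m3 : s φ = sg (d φ) ∧ d φ ∈ [5, 6, 16, 27, 60, 72, 160, 192, 270] :=
    ⟨by rw [sg]; split_ifs <;> omega, (hD φ n2.symm).2.1 (by omega)⟩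
  have m4 : ∀ χ ∈ R, e χ ^ 2 ≤ 1 := fun χ hχ => by
    by_contra hc
    rw [← add_sum_erase _ _ hχ] at b2 c
    have c1 := sum_nonneg (s := R.erase χ) fun χ _ => sq_nonneg (e χ)
    have c3 : -3 < e χ ∧ e χ < 3 := abs_lt.1 (abs_lt_of_sq_lt_sq (by omega) (by norm_num))
    have c2 : e χ = 2 ∨ e χ = -2 := by
      obtain ⟨c3, c5⟩ := c3
      generalize e χ = t at *
      interval_cases t <;> omega
    rw [sum_eq_zero (s := R.erase χ) fun χ' hχ' => by rw [pow_eq_zero_iff two_ne_zero |>.1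
      ((sum_eq_zero_iff_of_nonneg fun χ _ => sq_nonneg (e χ)).1
        (by rcases c2 with e | e <;> rw [e] at b2 <;> omega) χ' hχ'), zero_mul]] at c
    have c4 := (irr_degree_dvd_card φ.2 (hd φ)).trans h.dvd
    have c5 := m1 χ hχ
    have c6 := d0 φ
    obtain ⟨-, -, c7, c8⟩ := hD χ (hRo χ hχ)
    rcases c2 with e1 | e1 <;> rcases hs1 with e2 | e2 <;> rw [e1, e2] at c <;> rw [e1] at c5
    · omega
    · have := c7 (by omega) (by rwa [show 2 * d χ + 1 = d φ by omega])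
      exact h.ne_one (ker_eq h.nc (hRo χ hχ) (by rw [(he χ hχ).1, hd, e1, this]; simp))
    · exact c8 (by omega) (by rwa [show 2 * d χ - 1 = d φ by omega])
    · omega
  set R' := R.filter fun χ => e χ ≠ 0 with hR'
  have m5 : ∀ χ ∈ R', e χ ^ 2 = 1 := fun χ hχ => by
    have := m4 χ (mem_filter.1 hχ).1
    have : 0 < e χ ^ 2 := by have := (mem_filter.1 hχ).2; positivity
    omega
  have m6 : R'.card = 4 := by
    rw [← sum_filter_of_ne (p := fun χ => e χ ≠ 0) fun χ _ h => by simpa using h,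
      sum_congr rfl m5] at b2
    rw [sum_const, nsmul_eq_mul, mul_one] at b2
    exact_mod_cast b2
  have m7 : ∀ χ ∈ R', e χ = sg (d χ) ∧ d χ ∈ [10, 12, 32, 45, 54, 120, 144] := fun χ hχ => by
    have c1 := m1 χ (mem_filter.1 hχ).1
    have c2 := sq_eq_one_iff.1 (m5 χ hχ)
    exact ⟨by rw [sg]; split_ifs <;> omega, (hD χ (hRo χ (mem_filter.1 hχ).1)).1 (by omega)⟩
  have p1 := List.mergeSort_perm R'.toList fun a b => d a ≤ d b
  have p2 := List.pairwise_mergeSort (le := fun a b => decide (d a ≤ d b))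
    (fun a b c => by simpa using le_trans) (fun a b => by simpa using le_total _ _) R'.toList
  obtain ⟨χ₁, χ₂, χ₃, χ₄, p3⟩ := List.length_eq_four.1 (p1.length_eq.trans
    (R'.length_toList.trans m6))
  rw [p3] at p1 p2
  have p4 : ∀ χ, χ ∈ R' ↔ χ ∈ [χ₁, χ₂, χ₃, χ₄] := fun χ => by rw [p1.mem_iff, mem_toList]
  have p5 := p1.nodup_iff.2 R'.nodup_toList
  have p6 : ∀ χ ∈ [χ₁, χ₂, χ₃, χ₄], χ ∉ [o G, gal u φ, φ] := fun χ hχ => by
    simpa [hR] using (mem_filter.1 ((p4 χ).2 hχ)).1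
  have nd : [o G, gal u φ, φ, χ₁, χ₂, χ₃, χ₄].Nodup :=
    List.Nodup.append (l₁ := [o G, gal u φ, φ]) (by simp [n1, n2, n3]) p5
      fun χ h1 h2 => p6 χ h2 h1
  have q : ∀ χ ∈ [χ₁, χ₂, χ₃, χ₄], χ.1 x = sg (d χ) := fun χ hχ => by
    rw [(he χ (mem_filter.1 ((p4 χ).2 hχ)).1).1, (m7 χ ((p4 χ).2 hχ)).1]
  refine ⟨![φ, χ₁, χ₂, χ₃, χ₄], gal u φ, ![d φ, d χ₁, d χ₂, d χ₃, d χ₄], h, fun i => ?_,
    fun g hg => (hu φ g).2 hg, nd, fun θ => ?_, ?_, fun i hi => ?_, ?_⟩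
  · fin_cases i <;> exact hd _
  · change _ ↔ θ ∈ [o G, gal u φ, φ] ++ [χ₁, χ₂, χ₃, χ₄]
    rw [List.mem_append, ← p4, mem_filter]
    by_cases hθ : θ ∈ R
    · rw [(he θ hθ).1, Int.cast_ne_zero, or_iff_right (by simpa [hR] using hθ), and_iff_right hθ]
    · refine iff_of_true (fun e => ?_) (Or.inl (by simpa [hR, or_iff_not_imp_left] using hθ))
      have c1 := hn θ
      rw [e, zero_mul, eq_comm, Int.cast_eq_zero] at c1
      simp only [hR, mem_sdiff, mem_univ, true_and, not_not, mem_insert, mem_singleton] at hθ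
      have := sq_nonneg (s φ)
      rcases hθ with rfl | rfl | rfl
      · omega
      · rw [(g3 φ).2.1] at c1
        omega
      · omega
  · change _ + φ.1 x = sg (d φ)
    rw [g1, add_comm, hs, m3.1]
  · fin_cases i
    exacts [absurd rfl hi, q χ₁ (by simp), q χ₂ (by simp), q χ₃ (by simp), q χ₄ (by simp)]
  · simp only [List.pairwise_cons, List.mem_cons, List.not_mem_nil, or_false, forall_eq_or_imp,
      forall_eq, decide_eq_true_eq] at p2
    have q' : ∀ χ ∈ [χ₁, χ₂, χ₃, χ₄], _ := fun χ hχ => m7 χ ((p4 χ).2 hχ)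
    change (d φ, d χ₁, d χ₂, d χ₃, d χ₄) ∈ PATS
    refine mem_PATS _ m3.2 _ (q' χ₁ (by simp)).2 _ (q' χ₂ (by simp)).2 p2.1.1 _
      (q' χ₃ (by simp)).2 p2.2.1.1 _ (q' χ₄ (by simp)).2 p2.2.2.1 ?_ ?_
    · rw [← sum_filter_of_ne (p := fun χ => e χ ≠ 0) fun χ _ h => left_ne_zero_of_mul h, ← hR',
        show R' = [χ₁, χ₂, χ₃, χ₄].toFinset from Finset.ext fun χ => by rw [p4, List.mem_toFinset],
        List.sum_toFinset _ p5] at c
      simp only [List.map_cons, List.map_nil, List.sum_cons, List.sum_nil, (q' χ₁ (by simp)).1,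
        (q' χ₂ (by simp)).1, (q' χ₃ (by simp)).1, (q' χ₄ (by simp)).1, m3.1, Nat.cast_one] at c
      linarith
    · have := (deg_sq_le [o G, gal u φ, φ, χ₁, χ₂, χ₃, χ₄].toFinset hd).trans
        (Nat.le_of_dvd (by norm_num) h.dvd)
      rw [List.sum_toFinset _ nd] at this
      simp only [List.map_cons, List.map_nil, List.sum_cons, List.sum_nil, so.2.2, g3] at this
      linarith

end E5

end Cfsg.Agent.H5.MT
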