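import Cfsg.Agent.H5.MtC

/-!
# Groups whose order divides that of `M₁₂`, IV: values on regular elements
-/

set_option autoImplicit false
set_option linter.unusedSectionVars false

namespace Cfsg.Agent.H5.MT

open Cfsg Cfsg.Agent.H3 Subgroup Finset
open Cfsg.Agent.H9.FT (radI radI_mul radI_mul' dvd_of_mem_radI)
open scoped ComplexConjugate Classical

variable {G : Type*} [Group G] [Finite G]

/-- A family of regular elements with the sums of the character values. -/
structure Fam (X : Fin 5 → IrrCharacter G) (n : ℕ) (u : ℕ → G) (C : ℕ) (a : Fin 5 → ℤ) : Prop where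
  reg : ∀ i < n, IsPReg 11 (u i)
  ne : ∀ i < n, u i ≠ 1
  cen : ∀ i < n, Nat.card (centralizer {u i}) = C
  val : ∀ j, ∑ i ∈ range n, (X j).1 (u i) = a j

/-- The class multiplication coefficient, up to a factor. -/
def Zf (M : ℕ) (D : Fin 5 → ℕ) (n n' : ℕ) (a b : Fin 5 → ℤ) : ℤ :=
  M * n * n' + ∑ j, sg (D j) * (M / D j : ℕ) * a j * b j

/-- The candidates for a value. -/
def cand (n K C : ℕ) (ok : ℕ → ℤ → Bool) (d : ℕ) : List ℤ :=
  (((List.range 200).filter fun b => b * b ≤ n * n * C).flatMap fun b : ℕ => [(b : ℤ), -(b : ℤ)]).filter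
    fun a => ok d a && decide (a.natAbs < n * d) && K * a.natAbs % d == 0

/-- The search. -/
def srch5 (n K C : ℕ) (ok : ℕ → ℤ → Bool) (D : Fin 5 → ℕ) (fin : (Fin 5 → ℤ) → Bool) : Bool :=
  (cand n K C ok (D 0)).all fun a => (cand n K C ok (D 1)).all fun b =>
    decide ((n * n * C : ℕ) < n * n + 2 * a * a + b * b) || (cand n K C ok (D 2)).all fun c =>
    decide ((n * n * C : ℕ) < n * n + 2 * a * a + b * b + c * c) ||
      (cand n K C ok (D 3)).all fun d =>
      (fun e => !(cand n K C ok (D 4)).contains e ||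
        decide ((n * n * C : ℕ) < n * n + 2 * a * a + b * b + c * c + d * d + e * e) ||
        fin ![a, b, c, d, e])
      (-sg (D 4) * (n + sg (D 0) * a + sg (D 1) * b + sg (D 2) * c + sg (D 3) * d))

theorem sg_sq (d : ℕ) : sg d * sg d = 1 := by rw [sg]; split_ifs <;> rfl

theorem srch5_sound {n K C : ℕ} {ok : ℕ → ℤ → Bool} {D : Fin 5 → ℕ} {fin : (Fin 5 → ℤ) → Bool}
    (h : srch5 n K C ok D fin = true) (hC : n * n * C < 40000) {a : Fin 5 → ℤ}
    (h1 : ∀ j, ok (D j) (a j) = true) (h2 : ∀ j, (a j).natAbs < n * D j)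
    (h3 : ∀ j, (D j : ℤ) ∣ K * a j) (h4 : n + ∑ j, sg (D j) * a j = 0)
    (h5 : (n : ℤ) ^ 2 + a 0 ^ 2 + ∑ j, a j ^ 2 ≤ n ^ 2 * C) : fin a = true := by
  rw [Fin.sum_univ_five] at h4 h5
  have p0 := mul_self_nonneg (a 0)
  have p1 := mul_self_nonneg (a 1)
  have p2 := mul_self_nonneg (a 2)
  have p3 := mul_self_nonneg (a 3)
  have p4 := mul_self_nonneg (a 4)
  have pn := mul_self_nonneg (n : ℤ)
  simp only [sq] at h5
  have hm : ∀ j, a j ∈ cand n K C ok (D j) := fun j => by
    have b1 : (a j).natAbs * (a j).natAbs ≤ n * n * C := by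
      zify
      rw [abs_mul_abs_self]
      fin_cases j <;> simp only [Fin.reduceFinMk, Fin.zero_eta, Fin.mk_one] <;> linarith
    have b2 : (a j).natAbs < 200 := by nlinarith
    have b3 : D j ∣ K * (a j).natAbs := by
      have := Int.natAbs_dvd_natAbs.2 (h3 j)
      simpa [Int.natAbs_mul] using this
    simp only [cand, List.mem_filter, List.mem_flatMap, List.mem_range, decide_eq_true_eq,
      Bool.and_eq_true, beq_iff_eq, List.mem_cons, List.not_mem_nil, or_false]
    exact ⟨⟨_, ⟨b2, b1⟩, by omega⟩, ⟨h1 j, h2 j⟩, Nat.mod_eq_zero_of_dvd b3⟩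
  have e : -sg (D 4) * (n + sg (D 0) * a 0 + sg (D 1) * a 1 + sg (D 2) * a 2 + sg (D 3) * a 3) =
      a 4 := by linear_combination (-sg (D 4)) * h4 + a 4 * sg_sq (D 4)
  simp only [srch5, List.all_eq_true, Bool.or_eq_true, decide_eq_true_eq, Bool.not_eq_true',
    Nat.cast_mul] at h
  have := (((h _ (hm 0) _ (hm 1)).resolve_left (by linarith) _ (hm 2)).resolve_left
    (by linarith) _ (hm 3))
  rw [e, show ![a 0, a 1, a 2, a 3, a 4] = a from funext fun j => by fin_cases j <;> rfl] at this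
  exact (this.resolve_left (by simp [hm 4]; linarith))

namespace Blk

variable {x : G} {X : Fin 5 → IrrCharacter G} {ψ : IrrCharacter G} {D : Fin 5 → ℕ}
  (h : Blk x X ψ D)
include h

theorem split {A : Type*} [AddCommMonoid A] (F : IrrCharacter G → A) :
    ∑ θ, F θ = F (o G) + F ψ + ∑ j, F (X j) + ∑ θ with θ.1 x = 0, F θ := by
  rw [sum_list h.nodup (p := fun θ => θ.1 x = 0) h.mem, Fin.sum_univ_five]
  simp only [List.map_cons, List.map_nil, List.sum_cons, List.sum_nil, add_assoc, add_zero]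

theorem wsum {F : IrrCharacter G → ℂ} (hF : F ψ = F (X 0)) :
    ∑ θ, F θ * θ.1 x = F (o G) + ∑ j, sg (D j) * F (X j) := by
  rw [h.split, sum_eq_zero (s := univ.filter _) fun θ hθ => by rw [(mem_filter.1 hθ).2, mul_zero],
    Fin.sum_univ_five, Fin.sum_univ_five, h.val 1 (by decide), h.val 2 (by decide),
    h.val 3 (by decide), h.val 4 (by decide), ← h.val0, hF, o_apply]
  ring

theorem ne_o (j : Fin 5) : X j ≠ o G := fun e => by
  have := h.nodup
  fin_cases j <;> simp_all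

theorem inj : Function.Injective X := fun i j e => by
  have := h.nodup
  fin_cases i <;> fin_cases j <;> simp_all

theorem pos (j : Fin 5) : 0 < D j :=
  have := h.simple
  lt_trans one_pos (one_lt_deg h.nc (h.ne_o j) (h.deg j))

theorem cop (j : Fin 5) : (D j).Coprime 11 := by
  have : ∀ P ∈ PATS, P.1.Coprime 11 ∧ P.2.1.Coprime 11 ∧ P.2.2.1.Coprime 11 ∧
    P.2.2.2.1.Coprime 11 ∧ P.2.2.2.2.Coprime 11 := by decide +kernel
  obtain ⟨a, b, c, d, e⟩ := this _ h.pat
  fin_cases j <;> assumption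

theorem not_conj {g : G} (hg : IsPReg 11 g) : ¬ IsConj x g := fun e => by
  obtain ⟨c, rfl⟩ := isConj_iff.1 e
  rw [IsPReg, H4.Nse.orderOf_conj', h.ord] at hg
  norm_num at hg

theorem rel1 {g : G} (hg : IsPReg 11 g) : 1 + ∑ j, sg (D j) * (X j).1 g = 0 := by
  have := sum_irr_mul_conj g⁻¹ x
  simp only [← char_inv (ch _), inv_inv, if_neg fun e => h.not_conj hg.inv (IsConj.symm e)] at this
  rwa [sum_congr rfl fun _ _ => mul_comm _ _, h.wsum (F := fun θ => θ.1 g) (h.reg g hg)] at this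

variable {n n' C C' M : ℕ} {u v : ℕ → G} {a b : Fin 5 → ℤ} (f : Fam X n u C a)
include f

theorem rel : n + ∑ j, sg (D j) * a j = 0 := by
  have := sum_eq_zero (s := range n) fun i hi => h.rel1 (f.reg i (mem_range.1 hi))
  rw [sum_add_distrib, sum_comm] at this
  simp only [← mul_sum, f.val, sum_const, card_range, nsmul_eq_mul, mul_one] at this
  exact_mod_cast this

theorem nrm : (n : ℤ) ^ 2 + a 0 ^ 2 + ∑ j, a j ^ 2 ≤ n ^ 2 * C := by
  have := sum_sq_le (range n) u fun i hi => f.cen i (mem_range.1 hi)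
  rw [h.split, sum_congr rfl fun i hi => h.reg _ (f.reg i (mem_range.1 hi))] at this
  simp only [f.val, o_apply, sum_const, card_range, nsmul_eq_mul, mul_one, Complex.norm_intCast,
    sq_abs, Complex.norm_natCast] at this
  have := (le_add_of_nonneg_right (sum_nonneg fun θ _ => sq_nonneg _)).trans this
  exact_mod_cast this

theorem lt (hn : n ≠ 0) (j : Fin 5) : (a j).natAbs < n * D j := by
  have := h.simple
  have h1 := (norm_sum_le _ _).trans_lt (sum_lt_sum_of_nonempty (nonempty_range_iff.2 hn)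
    fun i hi => norm_lt h.nc (h.ne_o j) (f.ne i (mem_range.1 hi)) (h.deg j))
  rw [f.val, sum_const, card_range, nsmul_eq_mul, Complex.norm_intCast, ← Int.cast_abs,
    Int.abs_eq_natAbs] at h1
  exact_mod_cast h1

theorem dv {K : ℕ} (hK : K * C = Nat.card G) (j : Fin 5) : (D j : ℤ) ∣ K * a j :=
  dvd_of_central (X j) (range n) u (fun i hi => by
    have h1 := (centralizer {u i}).index_mul_card
    rw [f.cen i (mem_range.1 hi), ← hK] at h1
    exact Nat.eq_of_mul_eq_mul_right (f.cen i (mem_range.1 hi) ▸ Nat.card_pos) h1) (h.deg j) (f.val j)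

theorem cnt (g : Fam X n' v C' b) (hM : Nat.card G = 11 * M) : 11 * Zf M D n n' a b = C * C' *
    ∑ i ∈ range n, ∑ j ∈ range n', ({c | IsConj (u i) c ∧ IsConj (v j) (c⁻¹ * x⁻¹)}.ncard : ℤ) := by
  have := Fintype.ofFinite G
  have h1 : ∀ j, ((M / D j : ℕ) : ℂ) = M / D j := fun j => Nat.cast_div
    ((h.cop j).dvd_of_dvd_mul_left (hM ▸ irr_degree_dvd_card (X j).2 (h.deg j)))
    (Nat.cast_ne_zero.2 (h.pos j).ne')
  have h2 := h.wsum (F := fun θ => (∑ i ∈ range n, θ.1 (u i)) * (∑ i ∈ range n', θ.1 (v i)) / θ.1 1)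
    (by rw [sum_congr rfl fun i hi => h.reg _ (f.reg i (mem_range.1 hi)),
      sum_congr rfl fun i hi => h.reg _ (g.reg i (mem_range.1 hi)), h.reg 1 (IsPReg.one 11)])
  apply Int.cast_injective (α := ℂ)
  simp only [Zf, Int.cast_mul, Int.cast_add, Int.cast_sum, Int.cast_natCast, h1, mul_sum]
  rw [sum_congr rfl fun i hi => sum_congr rfl fun j hj => by
    rw [← f.cen i (mem_range.1 hi), ← g.cen j (mem_range.1 hj), ← L0.SC3.triple_count]]
  simp only [← mul_sum]
  rw [sum_comm_cycle, hM]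
  simp only [← sum_mul, ← sum_div, ← sum_mul_sum]
  rw [h2]
  simp only [f.val, g.val, h.deg, o_apply]
  simp only [sum_const, card_range, nsmul_eq_mul, mul_add, mul_sum]
  push_cast
  congr 1
  · ring
  · exact sum_congr rfl fun j _ => by ring

theorem zz (g : Fam X n' v C' b) (hM : Nat.card G = 11 * M) :
    ∃ m : ℕ, Zf M D n n' a b = C * C' * m := by
  have h1 := h.cnt f g hM
  obtain ⟨m, hm⟩ : 11 ∣ ∑ i ∈ range n, ∑ j ∈ range n',
      {c | IsConj (u i) c ∧ IsConj (v j) (c⁻¹ * x⁻¹)}.ncard :=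
    dvd_sum fun i hi => dvd_sum fun j _ => by
      have := H4.Nse.ncard_modEq_conj (p := 11) (by norm_num) (y := x) (by simpa using h.x11 1)
        (S := {c | IsConj (u i) c ∧ IsConj (v j) (c⁻¹ * x⁻¹)}) fun c hc =>
          ⟨hc.1.trans (isConj_iff.2 ⟨x, rfl⟩), hc.2.trans (isConj_iff.2 ⟨x, by group⟩)⟩
      rw [Set.eq_empty_of_forall_notMem (s := {c | _ ∧ Commute x c}) fun c hc => ?_,
        Set.ncard_empty] at this
      · exact (Nat.modEq_zero_iff_dvd).1 this
      obtain ⟨k, rfl⟩ := isConj_iff.1 hc.1.1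
      have h2 := orderOf_dvd_of_mem_zpowers (h.cent _ hc.2.symm)
      rw [H4.Nse.orderOf_conj', h.ord] at h2
      exact f.ne i (mem_range.1 hi) (orderOf_eq_one_iff.1 ((f.reg i (mem_range.1 hi)).eq_one_of_dvd h2))
  refine ⟨m, mul_left_cancel₀ (a := 11) (by norm_num) ?_⟩
  rw [h1, ← mul_assoc, mul_comm 11, mul_assoc (_ * _)]
  congr 1
  exact_mod_cast hm

theorem z0 (g : Fam X n' v C' b) (hM : Nat.card G = 11 * M) (hu : ∀ i < n, u i * u i = 1)
    (hv : ∀ i < n', v i * v i = 1) : Zf M D n n' a b = 0 := by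
  have h1 := h.cnt f g hM
  rw [sum_eq_zero fun i hi => sum_eq_zero fun j hj => by
    rw [Set.eq_empty_of_forall_notMem (s := {c | _ ∧ _}) fun c hc => h.ni ?_, Set.ncard_empty,
      Nat.cast_zero]
    have sq : ∀ {p q : G}, p * p = 1 → IsConj p q → q * q = 1 := fun hp e => by
      obtain ⟨k, rfl⟩ := isConj_iff.1 e
      rw [conj_mul, hp, mul_one, mul_inv_cancel]
    have h2 := sq (hu i (mem_range.1 hi)) hc.1
    have h3 := sq (hv j (mem_range.1 hj)) hc.2
    refine isConj_iff.2 ⟨c, ?_⟩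
    calc _ = c * x * c * (c⁻¹ * x⁻¹ * (c⁻¹ * x⁻¹)) := by
          rw [h3, mul_one, inv_eq_of_mul_eq_one_right h2]
      _ = _ := by group] at h1
  omega

theorem search {K : ℕ} {ok : ℕ → ℤ → Bool} {fin : (Fin 5 → ℤ) → Bool}
    (hs : srch5 n K C ok D fin = true) (hn : n ≠ 0) (hK : K * C = Nat.card G) (hC : n * n * C < 40000)
    (h1 : ∀ j, ok (D j) (a j) = true) : fin a = true :=
  srch5_sound hs hC h1 (h.lt f hn) (h.dv f hK) (h.rel f) (h.nrm f)

end Blk

end Cfsg.Agent.H5.MT
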