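import Cfsg.Agent.H4.M12R6

/-!
# Groups whose order divides that of `M₁₂`, VIII: fusion of involutions
-/

set_option autoImplicit false
set_option linter.unusedSectionVars false

namespace Cfsg.Agent.H5.MT

open Subgroup H4.Nse H4.M12R MulAction Equiv H4

variable {G : Type*} [Group G] [Finite G]

/-- Simple groups of order `95040`. -/
structure Sm (G : Type*) [Group G] : Prop where
  simple : IsSimpleGroup G
  card : Nat.card G = 95040

theorem lift_swap {t : G} (ht : t * t = 1)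
    (h : ∀ u x : G, u * u = t → orderOf x = 3 → ¬ Commute x u) {π : G →* Perm (Fin 5)}
    (hs : Function.Surjective π) (hk : ∀ x, π x = 1 ↔ x = 1 ∨ x = t) (u : G)
    (hu : π u = swap 0 1) : u * u = 1 := by
  refine ((hk _).mp (by rw [map_mul, hu, swap_mul_self])).elim id fun e => ?_
  obtain ⟨x, hx⟩ := hs (swap 2 3 * swap 3 4)
  have h1 : (x ^ 4) ^ 3 = 1 := by
    rw [show (x ^ 4) ^ 3 = (x ^ 3 * x ^ 3) ^ 2 by group]
    rcases (hk (x ^ 3)).mp (by rw [map_pow, hx]; decide) with e | e <;> simp [e, ht]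
  have h2 : π (x ^ 4) = swap 2 3 * swap 3 4 := by rw [map_pow, hx]; decide
  generalize x ^ 4 = x at h1 h2
  have h3 : orderOf x = 3 := orderOf_eq_prime (hp := ⟨Nat.prime_three⟩) h1 fun e => by
    rw [e, map_one] at h2
    exact absurd h2 (by decide)
  have h4 : u ^ 4 = 1 := by rw [show u ^ 4 = u * u * (u * u) by simp [pow_succ, mul_assoc], e, ht]
  have h5 := commute_of_conj_mem (u := x) (y := u) (by rw [h3]; decide)
    ((orderOf_dvd_of_pow_eq_one h4).trans (by norm_num)) (by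
      rw [← mul_mem_cancel_right (inv_mem (mem_zpowers u))]
      rcases (hk (x * u * x⁻¹ * u⁻¹)).mp (by
        simp only [map_mul, map_inv, hu, h2]; decide) with e' | e' <;> rw [e']
      exacts [one_mem _, e ▸ mul_mem (mem_zpowers u) (mem_zpowers u)])
  exact absurd h5 (h u x e h3)

namespace Sm

variable (h : Sm G)
include h

theorem idx (H : Subgroup G) : H.index * Nat.card H = 95040 := index_mul_card' H h.card

theorem fix {r : G} (hr : r * r = 1) (H : Subgroup G) :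
    ∃ n k, n + 4 * k = H.index ∧ n * Nat.card H =
      {x | x ∈ H ∧ IsConj r x}.ncard * Nat.card (centralizer ({r} : Set G)) :=
  have := h.simple
  fix_count (fun f => hom_trivial (by rw [h.card]; norm_num) f r) hr H

theorem exists_norm {t : G} (hc : Nat.card (centralizer ({t} : Set G)) = 240) {T : Subgroup G}
    (hT : Nat.card T = 2 ^ 4) : ∃ s, (∀ x ∈ T, s * x * s⁻¹ ∈ T) ∧ (∀ x ∈ T, s⁻¹ * x * s ∈ T) ∧
      ¬ Commute s t := by
  obtain ⟨R, h1, -, h2⟩ := exists_between (m := 5) Nat.prime_two (le_top (a := T)) hT (by norm_num)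
    (by rw [card_top, h.card]; norm_num)
  obtain ⟨s, hs, h3⟩ := SetLike.not_le_iff_exists.mp fun e : R ≤ centralizer {t} => by
    have := card_dvd_of_le e
    rw [h2, hc] at this
    omega
  refine ⟨s, fun x => conj_mem_of_index_two h1 (by omega) hs, fun x hx => ?_,
    fun e => h3 (mem_centralizer_singleton_iff.mpr e)⟩
  simpa using conj_mem_of_index_two h1 (by omega) (inv_mem hs) hx

theorem exists_mod {g t : G} (ht : GT g t) (hH : Nat.card (centralizer ({t} : Set G)) = 240)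
    (h12 : ∀ u x : G, u * u = t → orderOf x = 3 → ¬ Commute x u) : ∃ Ψ : Γ →* G, Mod t Ψ := by
  set H := centralizer ({t} : Set G) with hHd
  have hc : ∀ {x}, x ∈ H ↔ Commute x t := mem_centralizer_singleton_iff
  have hz : ∀ x : H, Commute x ⟨t, hc.mpr rfl⟩ := fun x => Subtype.ext (hc.mp x.2)
  have htt : (⟨t, hc.mpr rfl⟩ : H) * ⟨t, hc.mpr rfl⟩ = 1 := Subtype.ext ht.tt
  obtain ⟨π, hs, hk⟩ := exists_pi hH (ht.sub (hc.mpr ht.comm.symm) (hc.mpr rfl) ht.le) hz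
  have hπ : ∀ K : Subgroup (Perm (Fin 5)), Nat.card (K.comap π) * K.index = 240 := fun K => by
    rw [← index_comap_of_surjective K hs, card_mul_index, hH]
  obtain ⟨ψ, hψ⟩ := exists_sec htt hz hs hk (lift_swap htt (fun u x a b c =>
    h12 u x (congrArg Subtype.val a) ((orderOf_coe x).trans b) (congrArg Subtype.val c)) hs hk) (by
    obtain ⟨s, h1, h2, h3⟩ := h.exists_norm hH
      (T := ((centralizer {swap 0 1 * swap 2 3}).comap π).map H.subtype) (by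
        have h1 := hπ (centralizer {swap 0 1 * swap 2 3})
        have h2 := (centralizer {(swap 0 1 * swap 2 3 : Perm (Fin 5))}).index_mul_card
        rw [show Nat.card (centralizer {(swap 0 1 * swap 2 3 : Perm (Fin 5))}) = 8 from
          (card_filter _ fun _ => mem_centralizer_singleton_iff).trans (by decide +kernel),
          Nat.card_perm, Nat.card_fin, show Nat.factorial 5 = 120 from rfl] at h2
        rw [show (centralizer {(swap 0 1 * swap 2 3 : Perm (Fin 5))}).index = 15 by omega] at h1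
        rw [card_map_of_injective H.subtype_injective]
        omega)
    have h4 := h1 t ⟨⟨t, hc.mpr rfl⟩, by
      rw [SetLike.mem_coe, mem_comap, (hk _).mpr (Or.inr rfl)]; exact one_mem _, rfl⟩
    obtain ⟨w, hw, e⟩ := h4
    have h5 : ∀ σ ∈ centralizer {swap 0 1 * swap 2 3}, Commute σ (π w) := fun σ hσ => by
      obtain ⟨x, rfl⟩ := hs σ
      obtain ⟨y, -, hy⟩ := h2 x ⟨x, hσ, rfl⟩
      refine Commute.map (Subtype.ext ?_) π
      have := (hc.mp y.2).conj s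
      rw [show (y : G) = _ from hy, ← show (w : G) = _ from e] at this
      exact (by simpa [mul_assoc] using this : Commute (x : G) w)
    have h6 : ∀ σ : Perm (Fin 5), swap 0 1 * σ = σ * swap 0 1 → swap 2 3 * σ = σ * swap 2 3 →
        swap 0 2 * swap 1 3 * σ = σ * (swap 0 2 * swap 1 3) → σ = 1 ∨ σ = swap 0 1 * swap 2 3 := by
      decide +kernel
    have h7 : w * w = 1 := Subtype.ext (by
      rw [coe_mul, show (w : G) = _ from e, conj_mul, ht.tt, mul_one, mul_inv_cancel, coe_one])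
    rcases h6 (π w) (h5 _ (mem_centralizer_singleton_iff.mpr (by decide)))
      (h5 _ (mem_centralizer_singleton_iff.mpr (by decide)))
      (h5 _ (mem_centralizer_singleton_iff.mpr (by decide))) with e' | e'
    · rcases (hk w).mp e' with rfl | rfl
      · exact absurd (conj_eq_one_iff.mp e.symm) ht.ne_one
      · exact absurd (mul_inv_eq_iff_eq_mul.mp e.symm) h3
    · intro u hu
      rcases (hk (w⁻¹ * u)).mp (by rw [map_mul, map_inv, hu, e', inv_mul_cancel]) with e | e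
      · rwa [← inv_mul_eq_one.mp e]
      · rw [eq_mul_of_inv_mul_eq e, (hz w).symm.mul_mul_mul_comm, h7, htt, one_mul])
  let τ : ℤˣ →* H := MonoidHom.mk' (fun ε => if ε = 1 then 1 else ⟨t, hc.mpr rfl⟩) fun a b => by
    rcases Int.units_eq_one_or a with rfl | rfl <;> rcases Int.units_eq_one_or b with rfl | rfl <;>
      simp [htt]
  have hτ : τ (-1) = ⟨t, hc.mpr rfl⟩ := rfl
  let Ψ : Γ →* H := τ.noncommCoprod ψ fun a σ => by
    rcases Int.units_eq_one_or a with rfl | rfl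
    · simp
    · exact (hz _).symm
  have h1 : Function.Surjective Ψ := fun x => by
    rcases (hk (x * (ψ (π x))⁻¹)).mp (by simp [hψ]) with e | e
    · exact ⟨(1, π x), (eq_mul_of_mul_inv_eq e).symm⟩
    · exact ⟨(-1, π x), (eq_mul_of_mul_inv_eq e).symm⟩
  refine ⟨H.subtype.comp Ψ, H.subtype_injective.comp
    ((Nat.bijective_iff_surjective_and_card Ψ).mpr ⟨h1, ?_⟩).1, by simp [Ψ, hτ], fun x hx => ?_, hH⟩
  · rw [hH, Nat.card_prod, Nat.card_perm, Nat.card_fin, Nat.card_eq_fintype_card]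
    rfl
  · obtain ⟨γ, hγ⟩ := h1 ⟨x, hc.mpr hx⟩
    exact ⟨γ, congrArg Subtype.val hγ⟩

variable {t : G} {Ψ : Γ →* G} (m : Mod t Ψ)
include m

theorem exists_s : ∃ s, s * t * s⁻¹ = Ψ (-1, d1) ∧
    ∀ γ : Γ, γ.2 * d1 = d1 * γ.2 → ∃ δ : Γ, δ.2 * d1 = d1 * δ.2 ∧ Ψ δ = s * Ψ γ * s⁻¹ := by
  have h0 : ∀ γ : Γ, γ ∈ centralizer {((1, d1) : Γ)} ↔ γ.2 * d1 = d1 * γ.2 := fun γ => by
    simp [mem_centralizer_singleton_iff, Prod.ext_iff]
  obtain ⟨s, h1, h2, h3⟩ := h.exists_norm m.card (T := (centralizer {((1, d1) : Γ)}).map Ψ) (by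
    rw [card_map_of_injective m.inj]
    exact (card_filter _ h0).trans (by decide +kernel))
  refine ⟨s, ?_, fun γ hγ => ?_⟩
  · obtain ⟨γ, -, e⟩ := h1 t ⟨_, (h0 _).mpr (by simp), m.t_eq⟩
    have h5 : ∀ σ, σ * d1 = d1 * σ → σ * γ.2 = γ.2 * σ := fun σ hσ => by
      obtain ⟨δ, -, hδ⟩ := h2 _ ⟨(1, σ), (h0 _).mpr hσ, rfl⟩
      have := (m.comm δ).conj s
      rw [hδ, ← e] at this
      exact congrArg Prod.snd (m.inj (show Ψ (_ * γ) = Ψ (γ * (1, σ)) by
        simpa [mul_assoc] using this.eq))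
    have h6 : ∀ σ : Perm (Fin 5), swap 0 1 * σ = σ * swap 0 1 → swap 2 3 * σ = σ * swap 2 3 →
        swap 0 2 * swap 1 3 * σ = σ * (swap 0 2 * swap 1 3) → σ = 1 ∨ σ = d1 := by
      decide +kernel
    have h7 : IsConj t (Ψ γ) := isConj_iff.mpr ⟨s, e.symm⟩
    obtain ⟨ε, σ⟩ := γ
    rcases h6 σ (h5 _ (by decide)) (h5 _ (by decide)) (h5 _ (by decide)) with rfl | rfl <;>
      rcases Int.units_eq_one_or ε with rfl | rfl
    · exact absurd (conj_eq_one_iff.mp (e.symm.trans (map_one Ψ))) m.ne_one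
    · exact absurd (mul_inv_eq_iff_eq_mul.mp (e.symm.trans m.t_eq)) h3
    · exact absurd h7 m.not_v
    · exact e.symm
  · obtain ⟨δ, hδ, e⟩ := h1 _ ⟨γ, (h0 _).mpr hγ, rfl⟩
    exact ⟨δ, (h0 _).mp hδ, e⟩

theorem conj_iff (γ : Γ) : IsConj t (Ψ γ) ↔ γ.2 * γ.2 = 1 ∧
    if sw γ.2 then IsConj t (Ψ (γ.1, swap 0 1)) else γ.1 = -1 := by
  obtain ⟨ε, σ⟩ := γ
  by_cases h1 : σ * σ = 1
  swap
  · refine iff_of_false (fun e => h1 ?_) fun e => h1 e.1
    exact congrArg Prod.snd (m.inj ((map_mul Ψ _ _).trans ((m.sq e).trans (map_one Ψ).symm)))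
  have h2 := cls σ h1
  simp only [h1, true_and]
  split_ifs at h2 ⊢ with h3
  · obtain ⟨τ, rfl⟩ := h2
    exact Mod.conj_iff _ _ _ _
  obtain ⟨s, hs, -⟩ := h.exists_s m
  rcases h2 with rfl | ⟨τ, rfl⟩ <;> rcases Int.units_eq_one_or ε with rfl | rfl
  · exact iff_of_false (fun e => m.ne_one (isConj_one_left.mp (map_one Ψ ▸ e))) (by decide)
  · exact iff_of_true (m.t_eq ▸ IsConj.refl _) rfl
  · exact iff_of_false (fun e => m.not_v ((Mod.conj_iff _ _ _ _).mp e)) (by decide)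
  · exact iff_of_true ((Mod.conj_iff _ _ _ _).mpr (isConj_iff.mpr ⟨s, hs⟩)) rfl

theorem index_t : (centralizer ({t} : Set G)).index = 396 := by
  have := h.idx (centralizer {t})
  rw [m.card] at this
  omega

theorem both (ε : ℤˣ) : IsConj t (Ψ (ε, swap 0 1)) ↔ IsConj t (Ψ (1, swap 0 1)) := by
  rcases Int.units_eq_one_or ε with rfl | rfl
  · rfl
  by_contra hc
  obtain ⟨n, k, h1, h2⟩ := h.fix m.tt (centralizer {t})
  have h3 : ∀ η : ℤˣ, (∀ ε, IsConj t (Ψ (ε, swap 0 1)) ↔ ε = η) → n =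
      (Finset.univ.filter fun γ : Γ => γ.2 * γ.2 = 1 ∧ if sw γ.2 then γ.1 = η else γ.1 = -1).card :=
    fun η hη => (Nat.eq_of_mul_eq_mul_right Nat.card_pos h2).trans
      (ncard_image m.inj _ (fun x hx => m.mem x (mem_centralizer_singleton_iff.mp hx.1)) fun γ => by
        rw [← hη, ← h.conj_iff m]
        exact and_iff_right (mem_centralizer_singleton_iff.mpr (m.comm γ)))
  have h4 : ∀ η : ℤˣ, (Finset.univ.filter fun γ : Γ => γ.2 * γ.2 = 1 ∧
      if sw γ.2 then γ.1 = η else γ.1 = -1).card = 26 := by decide +kernel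
  rw [h.index_t m] at h1
  by_cases h5 : IsConj t (Ψ (1, swap 0 1))
  · have := (h3 1 fun ε => by
      rcases Int.units_eq_one_or ε with rfl | rfl <;> simp_all).trans (h4 _)
    omega
  · have := (h3 (-1) fun ε => by
      rcases Int.units_eq_one_or ε with rfl | rfl <;> simp_all).trans (h4 _)
    omega

theorem conj_v4 {γ : Γ} (hγ : γ.2 ∈ V4) : IsConj t (Ψ γ) ↔ γ.1 = -1 := by
  rw [h.conj_iff m, (v4_spec _ hγ).2.1]
  exact and_iff_right (v4_spec _ hγ).1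

theorem conj_A {k : G} (hk : k ∈ normalizer (A0.map Ψ : Set G)) (ε : ℤˣ) {σ : Perm (Fin 5)}
    (hσ : σ ∈ V4) : ∃ ρ ∈ V4, k * Ψ (ε, σ) * k⁻¹ = Ψ (ε, ρ) := by
  obtain ⟨δ, hδ, e⟩ := (mem_normalizer_iff.mp hk _).mp ⟨(ε, σ), hσ, rfl⟩
  have h1 : IsConj (Ψ (ε, σ)) (Ψ δ) := isConj_iff.mpr ⟨k, e.symm⟩
  have h2 : ε = -1 ↔ δ.1 = -1 := by
    rw [← h.conj_v4 m hδ, ← h.conj_v4 m (γ := (ε, σ)) hσ]
    exact ⟨fun a => a.trans h1, fun a => a.trans h1.symm⟩
  refine ⟨δ.2, hδ, e.symm.trans (congrArg Ψ (Prod.ext ?_ rfl))⟩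
  rcases Int.units_eq_one_or ε with rfl | rfl <;> rcases Int.units_eq_one_or δ.1 with e | e <;>
    simp_all

theorem conj_t {k : G} (hk : k ∈ normalizer (A0.map Ψ : Set G)) :
    ∃ ρ ∈ V4, k * t * k⁻¹ = Ψ (-1, ρ) := m.t_eq ▸ h.conj_A m hk _ List.mem_cons_self

theorem exists_conj_M {σ : Perm (Fin 5)} (hσ : σ ∈ V4) :
    ∃ k ∈ normalizer (A0.map Ψ : Set G), k * t * k⁻¹ = Ψ (-1, σ) := by
  obtain ⟨s, h1, h2⟩ := h.exists_s m
  have hs : s ∈ normalizer (A0.map Ψ : Set G) := by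
    refine mem_normalizer_fintype ?_
    rintro _ ⟨γ, hγ, rfl⟩
    obtain ⟨δ, h3, e⟩ := h2 γ (v4_spec _ hγ).2.2.1
    have h4 : δ.2 * δ.2 = 1 := congrArg Prod.snd (m.inj (show Ψ (δ * δ) = Ψ 1 by
      rw [map_mul, e, conj_mul, ← map_mul, show γ * γ = 1 from
        Prod.ext (Int.units_mul_self _) (v4_spec _ hγ).1]; simp))
    refine ⟨δ, ?_, e⟩
    have h5 := (perm_spec _).1 h3 h4
    split_ifs at h5 with h6
    swap
    · exact h5
    have h7 : IsConj (Ψ γ) (Ψ δ) := isConj_iff.mpr ⟨s, e.symm⟩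
    have h8 : IsConj (Ψ ((-1, 1) * γ)) (Ψ ((-1, d1) * δ)) :=
      isConj_iff.mpr ⟨s, by rw [map_mul, map_mul, e, ← h1, m.t_eq, conj_mul]⟩
    have h9 : IsConj t (Ψ δ) ↔ IsConj t (Ψ ((-1, d1) * δ)) := by
      have : d1 * δ.2 * (d1 * δ.2) = 1 ∧ sw (d1 * δ.2) = true := by
        rcases h5 with e | e <;> rw [e] <;> decide
      rw [h.conj_iff m δ, h.conj_iff m ((-1, d1) * δ), if_pos h6,
        if_pos (show sw (((-1, d1) : Γ) * δ).2 = true from this.2), h.both m,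
        h.both m (((-1, d1) : Γ) * δ).1]
      exact and_congr_left' (iff_of_true h4 this.1)
    have h10 : γ.1 = -1 ↔ ((-1, 1) * γ).1 = -1 := by
      rw [← h.conj_v4 m hγ, ← h.conj_v4 m (γ := (-1, 1) * γ) (show 1 * γ.2 ∈ V4 by rwa [one_mul])]
      exact ⟨fun a => (h9.mp (a.trans h7)).trans h8.symm, fun a => (h9.mpr (a.trans h8)).trans h7.symm⟩
    rcases Int.units_eq_one_or γ.1 with e | e <;> simp [e] at h10
  rcases (v4_spec _ hσ).2.2.2.2 with rfl | ⟨τ, -, h3, -, rfl⟩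
  · exact ⟨1, one_mem _, by simp [m.t_eq]⟩
  · refine ⟨Ψ (1, τ) * s, mul_mem ((Hyp.mem_M m).mpr h3) hs, ?_⟩
    calc _ = Ψ (1, τ) * (s * t * s⁻¹) * (Ψ (1, τ))⁻¹ := by group
      _ = _ := by rw [h1, ← map_inv, ← map_mul, ← map_mul]; simp

theorem card_M : Nat.card (normalizer (A0.map Ψ : Set G)) = 192 := by
  have h1 := relIndex_mul_card_inf (centralizer {t}) (normalizer (A0.map Ψ : Set G))
  have h2 : Nat.card (centralizer {t} ⊓ normalizer (A0.map Ψ : Set G) : Subgroup G) = 48 :=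
    (ncard_image m.inj (fun γ => γ.2 4 = 4)
      (fun x hx => m.mem x (mem_centralizer_singleton_iff.mp hx.1)) fun γ => (and_iff_right
        (mem_centralizer_singleton_iff.mpr (m.comm γ))).trans (Hyp.mem_M m)).trans (by decide +kernel)
  rw [h2, ← M12P.ncard_conj, ncard_image m.inj (fun γ => γ.1 = -1 ∧ γ.2 ∈ V4), 
    show Finset.card _ = 4 by decide +kernel] at h1
  · exact h1.symm
  · rintro _ ⟨k, hk, rfl⟩
    obtain ⟨ρ, -, e⟩ := h.conj_t m hk
    exact ⟨_, e.symm⟩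
  · rintro ⟨ε, σ⟩
    refine ⟨fun ⟨k, hk, e⟩ => ?_, ?_⟩
    · obtain ⟨ρ, hρ, e'⟩ := h.conj_t m hk
      rw [← m.inj (e'.symm.trans e)]
      exact ⟨rfl, hρ⟩
    · rintro ⟨rfl, hσ⟩
      exact h.exists_conj_M m hσ

theorem conj_u : IsConj t (Ψ (1, swap 0 1)) := by
  classical
  by_contra hu
  set M := normalizer (A0.map Ψ : Set G)
  have h1 : ∀ x ∈ M, IsConj t x → Commute x t → ∃ ρ ∈ V4, x = Ψ (-1, ρ) := by
    intro x hx h1 h2
    obtain ⟨γ, rfl⟩ := m.mem x h2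
    obtain ⟨h3, h4⟩ := (h.conj_iff m γ).mp h1
    split_ifs at h4 with h5
    · exact absurd ((h.both m _).mp h4) hu
    · exact ⟨γ.2, ((perm_spec _).2.1 ((Hyp.mem_M m).mp hx)).2 h3 (by simpa using h5), by rw [← h4]⟩
  have h2 : ∀ x ∈ M, IsConj t x → ∀ σ ∈ V4, Commute x (Ψ (-1, σ)) → ∃ ρ ∈ V4, x = Ψ (-1, ρ) := by
    intro x hx h2 σ hσ h3
    obtain ⟨k, hk, e⟩ := h.exists_conj_M m hσ
    obtain ⟨ρ, hρ, e'⟩ := h1 (k⁻¹ * x * k⁻¹⁻¹) (mul_mem (mul_mem (inv_mem hk) hx) (inv_mem (inv_mem hk)))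
      (h2.trans (isConj_iff.mpr ⟨_, rfl⟩)) (by simpa [← e, mul_assoc] using h3.conj k⁻¹)
    obtain ⟨ρ', hρ', e''⟩ := h.conj_A m hk (-1) hρ
    exact ⟨ρ', hρ', by rw [← e'', ← e']; group⟩
  have h3 : ∀ x ∈ M, IsConj t x → ∀ σ ∈ V4, Commute x (Ψ (1, σ)) := by
    intro x hx h3 σ hσ
    by_cases h4 : ∃ ρ ∈ V4, x = Ψ (-1, ρ)
    · obtain ⟨ρ, hρ, rfl⟩ := h4
      exact Commute.map (show ((-1, ρ) : Γ) * (1, σ) = (1, σ) * (-1, ρ) from
        Prod.ext rfl ((v4_spec _ hρ).2.2.2.1 _ hσ).2) Ψ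
    obtain ⟨α, hα, e1⟩ := h.conj_t m hx
    obtain ⟨β, hβ, e2⟩ := h.conj_A m hx 1 hσ
    have e3 : ∀ ρ, Ψ (-1, ρ) = t * Ψ (1, ρ) := fun ρ => by rw [← m.t_eq, ← map_mul]; simp
    have e4 : x * Ψ (1, α) * x⁻¹ = Ψ (1, α) := by
      have : x * (x * t * x⁻¹) * x⁻¹ = t := by
        calc _ = x * x * t * (x * x)⁻¹ := by group
          _ = _ := by simp [m.sq h3]
      rw [e1, e3, ← conj_mul, e1, e3, mul_assoc, mul_eq_left, mul_eq_one_iff_inv_eq,
        ← map_inv] at this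
      rw [← this]
      exact congrArg Ψ (Prod.ext rfl (inv_eq_of_mul_eq_one_right (v4_spec _ hα).1))
    refine mul_inv_eq_iff_eq_mul.mp (e2.trans (congrArg (fun ρ => Ψ (1, ρ))
      (v4_key α hα β hβ σ hσ ?_ (fun e => ?_) ?_ ?_ ?_ ?_)))
    · rintro rfl
      exact h4 (h1 x hx h3 (mul_inv_eq_iff_eq_mul.mp (e1.trans m.t_eq)))
    · refine h4 (h2 x hx h3 σ hσ (mul_inv_eq_iff_eq_mul.mp ?_))
      rw [e3, ← conj_mul, e1, e2, ← e3, ← map_mul, ← e]
      simp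
    · rintro rfl
      exact congrArg Prod.snd (m.inj (by simpa using e2.trans e4.symm))
    · rintro rfl
      exact congrArg Prod.snd (m.inj (e2.symm.trans e4))
    · rintro rfl
      exact congrArg Prod.snd (m.inj ((conj_eq_one_iff.mp (e2.trans (map_one Ψ))).trans
        (map_one Ψ).symm))
    · rintro rfl
      exact congrArg Prod.snd (m.inj (e2.symm.trans ((conj_eq_one_iff.mpr (map_one Ψ)).trans
        (map_one Ψ).symm)))
  have h4 : {x | x ∈ M ∧ IsConj t x}.ncard ≤ 4 * 4 := by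
    rw [Set.ncard_eq_toFinset_card _ (Set.toFinite _)]
    refine (Finset.card_le_mul_card_image_of_maps_to (f := fun x => x * t * x⁻¹)
      (t := (V4.map fun ρ => Ψ (-1, ρ)).toFinset) (fun x hx => ?_) 4 fun b _ => ?_).trans
      (Nat.mul_le_mul_left 4 (List.toFinset_card_le _))
    · obtain ⟨ρ, hρ, e⟩ := h.conj_t m ((Set.Finite.mem_toFinset _).mp hx).1
      exact List.mem_toFinset.mpr (List.mem_map.mpr ⟨ρ, hρ, e.symm⟩)
    refine le_of_not_gt fun hlt => ?_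
    obtain ⟨x, hx⟩ := Finset.card_pos.mp (lt_trans (by norm_num) hlt)
    refine hlt.not_ge <| (Finset.card_le_card (t := (V4.map fun ρ => x * Ψ (1, ρ)).toFinset) fun y hy => ?_).trans
      (List.toFinset_card_le _)
    simp only [Finset.mem_filter, Set.Finite.mem_toFinset, Set.mem_ofPred_eq] at hx hy
    obtain ⟨γ, hγ⟩ := m.mem (x⁻¹ * y) (mul_inv_eq_iff_eq_mul.mp (by
      calc _ = x⁻¹ * (y * t * y⁻¹) * x := by group
        _ = _ := by rw [hy.2, ← hx.2]; group))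
    have h5 : γ.2 ∈ V4 := (perm_spec _).2.2.2 fun ρ hρ => congrArg Prod.snd (m.inj
      (show Ψ (γ * (1, ρ)) = Ψ ((1, ρ) * γ) by
        rw [map_mul, map_mul, hγ]
        exact (h3 x hx.1.1 hx.1.2 ρ hρ).inv_left.mul_left (h3 y hy.1.1 hy.1.2 ρ hρ)))
    obtain ⟨ε, σ⟩ := γ
    obtain rfl : y = x * Ψ (ε, σ) := by rw [hγ]; group
    rcases Int.units_eq_one_or ε with rfl | rfl
    · exact List.mem_toFinset.mpr (List.mem_map.mpr ⟨σ, h5, rfl⟩)
    obtain ⟨ρ, hρ, rfl⟩ := h2 x hx.1.1 hx.1.2 σ h5 (comm_of_pow (m.sq hx.1.2)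
      (m.sq ((h.conj_v4 m h5).mpr rfl)) (by rw [pow_two, m.sq hy.1.2]))
    rw [← map_mul, h.conj_v4 m (((v4_spec _ hρ).2.2.2.1 _ h5).1)] at hy
    exact absurd hy.1.2 (by simp)
  have hy : Ψ (1, swap 0 1 * swap 1 2) ∈ M := (Hyp.mem_M m).mpr rfl
  have h5 := ncard_modEq_conj Nat.prime_three (y := Ψ (1, swap 0 1 * swap 1 2))
    (by rw [← map_pow, ← map_one Ψ]; exact congrArg Ψ (by decide))
    (S := {x | x ∈ M ∧ IsConj t x}) fun x hx => ⟨mul_mem (mul_mem hy hx.1) (inv_mem hy),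
      hx.2.trans (isConj_iff.mpr ⟨_, rfl⟩)⟩
  rw [show {x | x ∈ {x | x ∈ M ∧ IsConj t x} ∧ Commute _ x} = {t} from ?_, Set.ncard_singleton,
    Nat.ModEq] at h5
  · obtain ⟨n, k, h6, h7⟩ := h.fix m.tt M
    have h8 := h.idx M
    rw [h.card_M m] at h7 h8
    rw [m.card] at h7
    omega
  have h6 : ∀ ρ ∈ V4, Commute (Ψ (1, swap 0 1 * swap 1 2)) (Ψ (-1, ρ)) → ρ = 1 := fun ρ hρ e =>
    v4_cent ρ hρ
      (congrArg Prod.snd (m.inj ((map_mul Ψ _ _).trans (e.eq.trans (map_mul Ψ _ _).symm))))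
  ext x
  refine ⟨fun ⟨⟨hx, h7⟩, h8⟩ => ?_, ?_⟩
  · obtain ⟨α, hα, e⟩ := h.conj_t m hx
    rw [h6 α hα (e ▸ (h8.mul_right (m.comm _)).mul_right h8.inv_right), m.t_eq] at e
    obtain ⟨ρ, hρ, rfl⟩ := h1 x hx h7 (mul_inv_eq_iff_eq_mul.mp e)
    rw [h6 ρ hρ h8]
    exact m.t_eq
  · rintro rfl
    exact ⟨⟨m.t_eq ▸ (Hyp.mem_M m).mpr rfl, IsConj.refl _⟩, m.comm _⟩

theorem of_comm {r x : G} (hr : r * r = 1) (hr1 : r ≠ 1) (hx : IsConj t x) (hc : Commute r x) :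
    IsConj t r ∨ IsConj (Ψ (1, d1)) r := by
  obtain ⟨k, rfl⟩ := isConj_iff.mp hx
  obtain ⟨⟨ε, σ⟩, e⟩ := m.mem (k⁻¹ * r * k) (by simpa [mul_assoc] using hc.conj k⁻¹)
  have h1 : IsConj (Ψ (ε, σ)) r := isConj_iff.mpr ⟨k, by rw [e]; group⟩
  have h2 : σ * σ = 1 := congrArg Prod.snd (m.inj (show Ψ ((ε, σ) * (ε, σ)) = Ψ 1 by
    rw [map_mul, e, map_one, mul_assoc, mul_assoc, mul_assoc, mul_inv_cancel_left, ← mul_assoc r, hr,
      one_mul, inv_mul_cancel]))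
  refine or_iff_not_imp_left.mpr fun h3 => ?_
  have h4 := mt (h.conj_iff m (ε, σ)).mpr fun e => h3 (e.trans h1)
  have h5 := cls σ h2
  simp only [h2, true_and] at h4
  split_ifs at h4 h5
  · exact absurd ((h.both m _).mpr (h.conj_u m)) h4
  obtain rfl := (Int.units_eq_one_or ε).resolve_right h4
  rcases h5 with rfl | ⟨τ, rfl⟩
  · exact absurd (isConj_one_right.mp (map_one Ψ ▸ h1)) hr1
  · exact ((Mod.conj_iff _ _ _ _).mpr (IsConj.refl _)).trans h1

theorem two_classes {r : G} (hr : r * r = 1) (hr1 : r ≠ 1) :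
    IsConj t r ∨ IsConj (Ψ (1, d1)) r := by
  have := Fact.mk Nat.prime_two
  have key : ∀ r ∈ normalizer (A0.map Ψ : Set G), r * r = 1 → r ≠ 1 → r * t * r⁻¹ = Ψ (-1, d1) →
      IsConj t r ∨ IsConj (Ψ (1, d1)) r := by
    intro r hM hr hr1 e1
    have e0 : ∀ x, r * (r * x * r⁻¹) * r⁻¹ = x := fun x => by
      calc _ = r * r * x * (r * r)⁻¹ := by group
        _ = _ := by simp [hr]
    have e2 := e0 t
    rw [e1] at e2
    have hu : Commute (Ψ (1, swap 0 1)) (Ψ (-1, d1)) := Commute.map (by decide : _ = _) Ψ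
    obtain ⟨⟨ε, σ⟩, e3⟩ := m.mem _ (e2 ▸ hu.conj r)
    have e4 := e0 (Ψ (1, swap 0 1))
    have h1 := (perm_spec σ).1 (congrArg Prod.snd (m.inj
      (show Ψ ((ε, σ) * (-1, d1)) = Ψ ((-1, d1) * (ε, σ)) by
        rw [map_mul, map_mul, e3, ← e1]; exact (m.comm _).conj r)))
      (congrArg Prod.snd (m.inj (show Ψ ((ε, σ) * (ε, σ)) = Ψ 1 by
        rw [map_mul, e3, conj_mul, ← map_mul, show _ * _ = (1 : Γ) by decide]; simp)))
    rw [← e3] at e4
    split_ifs at h1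
    swap
    · obtain ⟨ρ, hρ, e⟩ := h.conj_A m hM ε h1
      rw [← show swap 0 1 = ρ from congrArg Prod.snd (m.inj (e4.symm.trans e))] at hρ
      exact absurd hρ (by decide)
    have e5 : r * Ψ (-1, swap 0 1) * r⁻¹ = Ψ ((-1, d1) * (ε, σ)) := by
      rw [map_mul, ← e1, e3, conj_mul, ← m.t_eq, ← map_mul]
      rfl
    have e6 : r * Ψ (-1, swap 2 3) * r⁻¹ = Ψ ((-1, 1) * (ε, σ)) := by
      rw [map_mul, m.t_eq, ← e2, e3, conj_mul, ← map_mul, show _ * _ = ((-1, swap 2 3) : Γ) by decide]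
    rcases h1 with rfl | rfl <;> rcases Int.units_eq_one_or ε with rfl | rfl
    · exact h.of_comm m hr hr1 (h.conj_u m) (mul_inv_eq_iff_eq_mul.mp e3.symm)
    · exact absurd (m.inj (e4.symm.trans e5)) (by decide)
    · exact h.of_comm m hr hr1 ((h.both m (-1)).mpr (h.conj_u m))
        (mul_inv_eq_iff_eq_mul.mp (e5.trans (congrArg Ψ (by decide))))
    · exact absurd (m.inj (e4.symm.trans e6)) (by decide)
  obtain ⟨c, -, hc⟩ := exists_conj_le (H := ⊤) (T := normalizer (A0.map Ψ : Set G)) le_top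
    (pgroup_two hr) (by
      have h8 := h.idx (normalizer (A0.map Ψ : Set G))
      rw [h.card_M m] at h8
      rw [relIndex_top_right]
      omega)
  have h1 := hc r (mem_zpowers r)
  have h2 : ∀ c, c * r * c⁻¹ * (c * r * c⁻¹) = 1 := fun c => by
    rw [conj_mul, hr, mul_one, mul_inv_cancel]
  have h3 : ∀ c, IsConj (c * r * c⁻¹) r := fun c => (isConj_iff.mpr ⟨c, rfl⟩).symm
  obtain ⟨α, hα, e⟩ := h.conj_t m h1
  rcases (v4_spec _ hα).2.2.2.2 with rfl | ⟨τ, -, h4, h5, rfl⟩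
  · exact (h.of_comm m (h2 c) (by simpa using hr1) (IsConj.refl t)
      (mul_inv_eq_iff_eq_mul.mp (e.trans m.t_eq))).imp (·.trans (h3 c)) (·.trans (h3 c))
  · have h6 : Ψ (1, τ) ∈ normalizer (A0.map Ψ : Set G) := (Hyp.mem_M m).mpr h4
    refine (key (((Ψ (1, τ))⁻¹ * c) * r * ((Ψ (1, τ))⁻¹ * c)⁻¹) ?_ (h2 _) (mt conj_eq_one_iff.mp hr1)
      ?_).imp (·.trans (h3 _)) (·.trans (h3 _))
    · simpa [mul_assoc] using mul_mem (mul_mem (inv_mem h6) h1) h6
    · calc _ = (Ψ (1, τ))⁻¹ * (c * r * c⁻¹ * (Ψ (1, τ) * t * (Ψ (1, τ))⁻¹) * (c * r * c⁻¹)⁻¹) *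
            Ψ (1, τ) := by group
        _ = _ := by
          rw [(m.comm _).eq, mul_inv_cancel_right, e, ← map_inv, ← map_mul, ← map_mul]
          simp [mul_assoc]

end Sm

end Cfsg.Agent.H5.MT
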