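import Cfsg.Agent.H5.MtF
import Cfsg.Agent.H5.MtG

/-!
# Groups whose order divides that of `M₁₂`, IX: elements of order three
-/

set_option autoImplicit false
set_option linter.unusedSectionVars false

namespace Cfsg.Agent.H5.MT

open Cfsg Cfsg.Agent.H3 Subgroup Finset H4.Nse H4.M12R
open Cfsg.Agent.H9.FT (radI radI_mul radI_mul' dvd_of_mem_radI)
open scoped ComplexConjugate Classical

variable {G : Type*} [Group G] [Finite G]

theorem card_val_le (χ : IrrCharacter G) {S : Finset G} {v : ℤ} (h : ∀ g ∈ S, χ.1 g = v) :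
    S.card * v ^ 2 ≤ Nat.card G := by
  have := Fintype.ofFinite G
  have h1 := classInner_irr_self χ.2
  rw [classInner, inv_mul_eq_one₀ (Nat.cast_ne_zero.2 Nat.card_pos.ne')] at h1
  simp only [Complex.mul_conj'] at h1
  have h2 : ∑ g ∈ S, ‖χ.1 g‖ ^ 2 ≤ ∑ g, ‖χ.1 g‖ ^ 2 :=
    sum_le_sum_of_subset_of_nonneg (subset_univ S) fun _ _ _ => sq_nonneg _
  rw [sum_congr rfl fun g hg => by rw [h g hg, Complex.norm_intCast, sq_abs], sum_const,
    nsmul_eq_mul, show ∑ g, ‖χ.1 g‖ ^ 2 = Nat.card G by exact_mod_cast h1.symm] at h2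
  exact_mod_cast h2

theorem even_card {S : Finset G} (h : ∀ g ∈ S, g⁻¹ ∈ S ∧ g⁻¹ ≠ g) : 2 ∣ S.card := by
  have := sum_involution (s := S) (f := fun _ => (1 : ZMod 2)) (fun g _ => g⁻¹) (fun _ _ => rfl)
    (fun g hg _ => (h g hg).2) (fun g hg => (h g hg).1) fun g _ => inv_inv g
  rwa [sum_const, nsmul_eq_mul, mul_one, ZMod.natCast_eq_zero_iff] at this

theorem dvd_card_conj [Fintype G] {d : ℕ} (p : G → Prop) [DecidablePred p] (hp : ∀ g x, p x → p (g * x * g⁻¹))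
    (h : ∀ b, p b → d ∣ (centralizer {b}).index) : d ∣ (univ.filter p).card :=
  dvd_card_of_conj_fibers _ id (fun g x hx => by
    simp only [mem_filter, mem_univ, true_and] at hx ⊢
    exact hp g x hx) (fun _ _ => rfl) fun b hb => (h b (by simpa using hb)).mul_right _

theorem val_inv {χ : IrrCharacter G} {g : G} {v : ℤ} (h : χ.1 g = v) : χ.1 g⁻¹ = v := by
  rw [char_inv (ch χ), h, map_intCast]

theorem val_conj (χ : IrrCharacter G) (k g : G) : χ.1 (k * g * k⁻¹) = χ.1 g :=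
  (eq_of_conj χ (isConj_iff.2 ⟨k, rfl⟩)).symm

theorem exists_sumS (χ : IrrCharacter G) [Fintype G] (P : Subgroup G) :
    ∃ m : ℕ, χ.1 1 + ∑ g with g ∈ P ∧ g ≠ 1, χ.1 g = Nat.card P * m := by
  obtain ⟨m, hm⟩ := G22.exists_sum_sub (K := ⊤) (isCharacter_res ⊤ (ch χ)) (H := P) le_top
  refine ⟨m, hm ▸ ?_⟩
  rw [← sum_subtype (univ.filter (· ∈ P)) (by simp), ← add_sum_erase _ _
    (mem_filter.2 ⟨mem_univ _, one_mem P⟩), ← filter_ne', filter_filter]

theorem card_erase [Fintype G] (P : Subgroup G) :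
    (univ.filter fun g => g ∈ P ∧ g ≠ 1).card + 1 = Nat.card P := by
  rw [← filter_filter, filter_ne', card_erase_add_one (mem_filter.2 ⟨mem_univ _, one_mem P⟩),
    ← Fintype.card_subtype, Nat.card_eq_fintype_card]

theorem cent_mul_le {a b : G} (hc : Commute a b) (h : (orderOf a).Coprime (orderOf b)) :
    centralizer {a * b} ≤ centralizer ({a} : Set G) := fun g hg => by
  obtain ⟨k, hk⟩ : a ∈ zpowers (a * b) := by
    obtain ⟨k, h1, h2⟩ := Nat.chineseRemainder h 1 0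
    refine ⟨k, ?_⟩
    simp only [zpow_natCast, hc.mul_pow]
    rw [pow_eq_pow_iff_modEq.2 h1, pow_eq_pow_iff_modEq.2 h2, pow_one, pow_zero, mul_one]
  exact mem_centralizer_singleton_iff.2
    (hk ▸ Commute.zpow_right (mem_centralizer_singleton_iff.1 hg) k)

namespace Blk

variable {x : G} {X : Fin 5 → IrrCharacter G} {ψ : IrrCharacter G} {D : Fin 5 → ℕ}
  (h : Blk x X ψ D) (hN : Nat.card G = 95040)
include h hN

theorem sm : Sm G := ⟨h.simple, hN⟩

theorem ten {y : G} (hy : orderOf y = 5) : Nat.card (centralizer {y}) = 10 := by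
  obtain ⟨y', t, ht, -⟩ := h.exists_GT hN
  rw [card_cent_eq Nat.prime_five ht.og hy h.nsq5, ht.cardC]

theorem not5 {g : G} (hg : ¬ orderOf g ∣ 10) : Nat.card (centralizer {g}) % 5 ≠ 0 := fun e => by
  obtain ⟨a, ha, hc⟩ := exists_comm Nat.prime_five (Nat.dvd_of_mod_eq_zero e)
  exact hg (h.ten hN ha ▸ ord_dvd_cent hc.symm)

theorem val192 {v : G} (hv : orderOf v = 2) (hC : 64 ∣ Nat.card (centralizer {v})) :
    Nat.card (centralizer {v}) = 192 ∧ ∀ j, (X j).1 v = (![0, -3, 6, -8, 0] j : ℤ) := by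
  obtain ⟨b, g, hb, -, -, h4⟩ := h.inv12 hN hv
  replace h4 := h4 (h.pat12 hN)
  simp only [T12, List.mem_cons, Prod.mk.injEq, List.not_mem_nil, or_false] at h4
  refine ⟨by omega, fun j => (hb j).trans (congrArg _ ?_)⟩
  fin_cases j <;> simp <;> omega

theorem no12 {t : G} (ht : orderOf t = 2) (hC : Nat.card (centralizer {t}) = 240) (u w : G)
    (hu : u * u = t) (hw : orderOf w = 3) : ¬ Commute w u := fun hc => by
  have := h.simple
  have h4 : u ^ 4 = 1 := by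
    rw [show u ^ 4 = u * u * (u * u) by simp [pow_succ, mul_assoc], hu, (sq_of_ord ht).1]
  have ou : orderOf u = 2 ^ (1 + 1) := orderOf_eq_prime_pow (hp := ⟨Nat.prime_two⟩)
    (by rw [pow_one, pow_two, hu]; exact (sq_of_ord ht).2) h4
  have hr := reg_of h4 (by norm_num)
  obtain ⟨b, -, hb, -, -, h1⟩ := h.inv12 hN ht
  replace h1 := h1 (h.pat12 hN)
  simp only [T12, List.mem_cons, Prod.mk.injEq, List.not_mem_nil, or_false, hC] at h1
  obtain ⟨c, hc'⟩ := h.int12 hN hr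
  have h2 := fun j => eight_dvd h.nc (ch (X j)) h4 (h.deg j) (by rw [pow_two, hu, hb]) (hc' j)
  have h3 := h.nrm (fam1 hr (ne_of_ord ou (by norm_num)) hc')
  have h5 := cong_int Nat.prime_three (ch (X 2)) (pw hw) hc (a := 0) (by
    rw [defz Nat.prime_three (h.deg 2) (by rw [hN, h.D12 hN]; decide)
      (by rw [hc.orderOf_mul_eq_mul_orderOf_of_coprime (by rw [hw, ou]; norm_num), hw]; simp)]
    simp) (hc' 2)
  have h6 := hC ▸ card_dvd_of_le (H := centralizer {u}) (K := centralizer {t}) fun g hg =>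
    mem_centralizer_singleton_iff.2 (hu ▸ Commute.mul_right (mem_centralizer_singleton_iff.1 hg)
      (mem_centralizer_singleton_iff.1 hg))
  have h7 := (by decide +kernel : ∀ n < 241, n ∣ 240 → n % 5 ≠ 0 → n ≤ 48) _
    (Nat.lt_succ_of_le (Nat.le_of_dvd (by norm_num) h6)) h6 (h.not5 hN (by rw [ou]; norm_num))
  have a0 := h2 0
  have a1 := h2 1
  have a2 := h2 2
  have a4 := h2 4
  rw [h.D12 hN] at a0 a1 a2 a4
  change _ ∣ 16 + _ - _ at a0
  change _ ∣ 45 + _ - _ at a1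
  change _ ∣ 54 + _ - _ at a2
  change _ ∣ 144 + _ - _ at a4
  rw [Fin.sum_univ_five] at h3
  have b0 : 2 ^ 2 ≤ c 0 ^ 2 := sq_le_sq.2 (le_abs.2 (by norm_num; omega))
  have b1 : 1 ^ 2 ≤ c 1 ^ 2 := sq_le_sq.2 (le_abs.2 (by norm_num; omega))
  have b2 : 6 ^ 2 ≤ c 2 ^ 2 := sq_le_sq.2 (le_abs.2 (by norm_num; omega))
  have b4 : 2 ^ 2 ≤ c 4 ^ 2 := sq_le_sq.2 (le_abs.2 (by norm_num; omega))
  have b3 := sq_nonneg (c 3)
  omega

theorem exists_mod : ∃ (t : G) (Ψ : Γ →* G), Mod t Ψ := by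
  obtain ⟨y, t, ht, hC⟩ := h.exists_GT hN
  exact ⟨t, (h.sm hN).exists_mod ht hC (h.no12 hN ht.ot hC)⟩

theorem cardV {t : G} {Ψ : Γ →* G} (m : Mod t Ψ) : Nat.card (centralizer {Ψ (1, d1)}) = 192 := by
  obtain ⟨u, hu, h1⟩ := exists_central (G := G) (n := 5) (by rw [hN]; norm_num)
  rcases (h.sm hN).two_classes m (sq_of_ord hu).1 (sq_of_ord hu).2 with e | e <;>
    obtain ⟨k, rfl⟩ := isConj_iff.1 e
  · rw [card_centralizer_conj, m.card] at h1
    omega
  · rw [← card_centralizer_conj k, (h.val192 hN hu h1).1]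

theorem o1 {r : G} (hr : orderOf r = 2) : ¬ 9 ∣ Nat.card (centralizer {r}) := by
  obtain ⟨t, Ψ, m⟩ := h.exists_mod hN
  rcases (h.sm hN).two_classes m (sq_of_ord hr).1 (sq_of_ord hr).2 with e | e <;>
    obtain ⟨k, rfl⟩ := isConj_iff.1 e <;> rw [card_centralizer_conj]
  · rw [m.card]; norm_num
  · rw [h.cardV hN m]; norm_num

theorem typ3 {g : G} {k : ℕ} (hg : g ^ 3 ^ k = 1) (h1 : g ≠ 1) :
    ((X 0).1 g = (1 : ℤ) ∧ (X 1).1 g = (0 : ℤ)) ∨
    ((X 0).1 g = (-2 : ℤ) ∧ (X 1).1 g = (0 : ℤ) ∧ (X 3).1 g = (3 : ℤ) ∧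
      (Nat.card (centralizer {g}) = 18 ∨ Nat.card (centralizer {g}) = 27 ∨
        Nat.card (centralizer {g}) = 54)) ∨
    ((X 0).1 g = (1 : ℤ) ∧ (X 1).1 g = (3 : ℤ) ∧ (X 4).1 g = (-3 : ℤ) ∧
      Nat.card (centralizer {g}) = 36) := by
  obtain ⟨v, hv, hC⟩ := exists_central (G := G) (n := 5) (by rw [hN]; norm_num)
  obtain ⟨h2, h3⟩ := h.val192 hN hv hC
  have fv := fam1 (reg_of (pw hv) (by norm_num)) (ne_of_ord hv (by norm_num)) h3
  have hr := reg_of hg (Nat.Coprime.pow_left _ (by norm_num))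
  obtain ⟨a, ha⟩ := h.int12 hN hr
  have f := fam1 hr h1 ha
  obtain ⟨i, -, hi⟩ := (Nat.dvd_prime_pow Nat.prime_three).1 (orderOf_dvd_of_pow_eq_one hg)
  have h4 : 3 ∣ orderOf g :=
    hi ▸ dvd_pow_self 3 fun e => h1 (orderOf_eq_one_iff.1 (by rw [hi, e, pow_zero]))
  have h5 := S6 _ (h.cD (centralizer {g}))
    (Nat.mod_eq_zero_of_dvd (h4.trans (ord_dvd_cent (Commute.refl g))))
    (h.not5 hN fun e => absurd (h4.trans e) (by norm_num)) (h.not11 hr h1)
  rw [← h.D12 hN] at h5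
  have h6 := h.search f h5 one_ne_zero (hKK hN _) (by have := h.le g hr h1; omega)
    (h.ok12 hN Nat.prime_three hg h1 ha)
  rw [h2] at fv
  simp only [zok_of (h.zz f f (M := 8640) hN), zok_of (h.zz f fv (M := 8640) hN), Bool.not_true,
    Bool.false_or, Bool.or_eq_true, Bool.and_eq_true, beq_iff_eq, Prod.mk.injEq] at h6
  simp only [ha, Int.cast_inj]
  omega

theorem typP {P : Subgroup G} (hP : Nat.card P = 27) : (∀ g ∈ P, g ≠ 1 →
    (X 0).1 g = (-2 : ℤ) ∨ (X 1).1 g = (3 : ℤ)) ∧ ∃ g ∈ P, g ≠ 1 ∧ (X 1).1 g = (3 : ℤ) := by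
  have := Fintype.ofFinite G
  set T := univ.filter fun g => g ∈ P ∧ g ≠ 1 with hT
  have h0 : ∀ g ∈ T, g ^ 3 ^ 3 = 1 := fun g hg =>
    orderOf_dvd_iff_pow_eq_one.1 ((P.orderOf_dvd_natCard (mem_filter.1 hg).2.1).trans hP.dvd)
  have h1 := fun g hg => h.typ3 hN (h0 g hg) (mem_filter.1 hg).2.2
  have h2 : ∀ (j : Fin 5) (v : ℤ), 2 ∣ (T.filter fun g => (X j).1 g = v).card := fun j v =>
    even_card fun g hg => ⟨by
      simp only [hT, mem_filter, mem_univ, true_and, inv_mem_iff, ne_eq, inv_eq_one] at hg ⊢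
      exact ⟨hg.1, val_inv hg.2⟩, fun e => (mem_filter.1 (mem_filter.1 hg).1).2.2
        (pow_eq_one_of_coprime (m := 2) (n := 3 ^ 3) (by norm_num)
          (by rw [pow_two]; exact mul_eq_one_iff_inv_eq.2 e) (h0 g (mem_filter.1 hg).1))⟩
  obtain ⟨m, hm⟩ := exists_sumS (X 0) P
  obtain ⟨n, hn⟩ := exists_sumS (X 1) P
  have h3 := card_erase P
  rw [← hT] at hm hn h3
  rw [sum_congr rfl (g := fun g => 1 - 3 * if (X 0).1 g = (-2 : ℤ) then 1 else 0) fun g hg => by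
    rcases h1 g hg with e | e | e <;> simp only [e.1, Int.cast_inj] <;> norm_num, sum_sub_distrib,
    ← mul_sum, sum_boole, sum_const, nsmul_eq_mul, mul_one, h.deg, h.D12 hN, hP] at hm
  rw [sum_congr rfl (g := fun g => 3 * if (X 1).1 g = (3 : ℤ) then 1 else 0) fun g hg => by
    rcases h1 g hg with ⟨-, e⟩ | ⟨-, e, -⟩ | ⟨-, e, -⟩ <;> simp only [e, Int.cast_inj] <;> norm_num,
    ← mul_sum, sum_boole, h.deg, h.D12 hN, hP] at hn
  have h4 := card_union_of_disjoint (s := T.filter fun g => (X 0).1 g = (-2 : ℤ))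
    (t := T.filter fun g => (X 1).1 g = (3 : ℤ)) (disjoint_filter.2 fun g hg a b => by
      rcases h1 g hg with e | e | e <;> simp only [a, b, Int.cast_inj] at e <;> omega)
  rw [← filter_or] at h4
  have h5 := card_filter_le T fun g => (X 0).1 g = (-2 : ℤ) ∨ (X 1).1 g = (3 : ℤ)
  have h6 := h2 0 (-2)
  have h7 := h2 1 3
  have hm' : (16 : ℤ) + (T.card - 3 * (T.filter fun g => (X 0).1 g = (-2 : ℤ)).card) = 27 * m := by
    exact_mod_cast hm
  have hn' : 45 + 3 * (T.filter fun g => (X 1).1 g = (3 : ℤ)).card = 27 * n := by exact_mod_cast hn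
  refine ⟨fun g hg hg1 => card_filter_eq_iff.1 (h5.antisymm (by omega)) g
    (mem_filter.2 ⟨mem_univ _, hg, hg1⟩), ?_⟩
  obtain ⟨g, hg⟩ := card_pos.1 (show 0 < (T.filter fun g => (X 1).1 g = (3 : ℤ)).card by omega)
  simp only [hT, mem_filter, mem_univ, true_and] at hg
  exact ⟨g, hg.1.1, hg.1.2, hg.2⟩

end Blk

end Cfsg.Agent.H5.MT
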