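import Cfsg.Agent.H5.MtH

/-!
# Groups whose order divides that of `M₁₂`, X: the element order statistics
-/

set_option autoImplicit false
set_option linter.unusedSectionVars false

namespace Cfsg.Agent.H5.MT

open Cfsg Cfsg.Agent.H3 Subgroup Finset H4.Nse H4.M12R Equiv
open scoped ComplexConjugate Classical

variable {G : Type*} [Group G] [Finite G]

theorem card_cent_sub {Y : Subgroup G} (w : Y) :
    Nat.card (centralizer {w} : Subgroup Y) ∣ Nat.card (centralizer {(w : G)}) := by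
  rw [← card_map_of_injective Y.subtype_injective]
  refine card_dvd_of_le ?_
  rintro _ ⟨a, ha, rfl⟩
  exact mem_centralizer_singleton_iff.2 (congrArg Subtype.val (mem_centralizer_singleton_iff.1 ha))

theorem pow_four_comm {g a : G} {k : ℕ} (hg : g ^ 2 ^ k = 1) {s : Finset G} (hs : s.card ≤ 4)
    (h : ∀ c ∈ zpowers g, c * a * c⁻¹ ∈ s) : Commute (g ^ 4) a := by
  have h1 := card_le_of_orbit (H := zpowers g) (x := a) (s := s) h
  have h2 := relIndex_mul_card_inf (centralizer {a}) (zpowers g)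
  have h3 : (centralizer {a}).relIndex (zpowers g) ≤ 4 := by
    rw [← h2, Set.ncard_coe_finset] at h1
    exact (Nat.le_of_mul_le_mul_right h1 Nat.card_pos).trans hs
  obtain ⟨i, -, hi⟩ := (Nat.dvd_prime_pow Nat.prime_two).1 ((Dvd.intro _ h2).trans
    (Nat.card_zpowers g ▸ orderOf_dvd_of_pow_eq_one hg))
  have h4 := ((centralizer {a}).subgroupOf (zpowers g)).pow_index_mem ⟨g, mem_zpowers g⟩
  rw [← relIndex, hi] at h4
  rw [hi] at h3
  have h5 : i ≤ 2 := (Nat.pow_le_pow_iff_right one_lt_two).1 h3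
  have h6 : Commute (g ^ 2 ^ i) a := mem_centralizer_singleton_iff.1 h4
  have := h6.pow_left (2 ^ (2 - i))
  rwa [← pow_mul, ← pow_add, Nat.add_sub_cancel' h5] at this

namespace Blk

variable {x : G} {X : Fin 5 → IrrCharacter G} {ψ : IrrCharacter G} {D : Fin 5 → ℕ}
  (h : Blk x X ψ D) (hN : Nat.card G = 95040)
include h hN

theorem typAB {g : G} {k : ℕ} (hg : g ^ 3 ^ k = 1) (h1 : g ≠ 1) :
    ((X 0).1 g = (-2 : ℤ) ∧ (X 1).1 g = (0 : ℤ) ∧ (X 3).1 g = (3 : ℤ) ∧
      (Nat.card (centralizer {g}) = 18 ∨ Nat.card (centralizer {g}) = 27 ∨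
        Nat.card (centralizer {g}) = 54)) ∨
    ((X 0).1 g = (1 : ℤ) ∧ (X 1).1 g = (3 : ℤ) ∧ (X 4).1 g = (-3 : ℤ) ∧
      Nat.card (centralizer {g}) = 36) := by
  refine (h.typ3 hN hg h1).resolve_left fun e => ?_
  obtain ⟨i, -, hi⟩ := (Nat.dvd_prime_pow Nat.prime_three).1 (orderOf_dvd_of_pow_eq_one hg)
  have h2 : i ≤ 3 := by
    by_contra h2
    exact absurd ((pow_dvd_pow 3 (show 4 ≤ i by omega)).trans (hi ▸ hN ▸ orderOf_dvd_natCard g))
      (by norm_num)
  obtain ⟨P, h3, -, hP⟩ := exists_between (m := 3) Nat.prime_three (le_top (a := zpowers g))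
    (by rw [Nat.card_zpowers, hi]) h2 (by rw [card_top, hN]; norm_num)
  have := (h.typP hN hP).1 g (h3 (mem_zpowers g)) h1
  simp only [e, Int.cast_inj] at this
  omega

theorem no9 {g : G} : orderOf g ≠ 9 := fun hg => by
  have h0 : g ^ 3 ^ 2 = 1 := orderOf_dvd_iff_pow_eq_one.1 hg.dvd
  have h1 := ne_of_ord hg (by norm_num)
  have h2 : ¬ 2 ∣ Nat.card (centralizer {g}) := fun e => by
    obtain ⟨r, hr, hc⟩ := exists_comm Nat.prime_two e
    exact h.o1 hN hr (hg ▸ ord_dvd_cent hc.symm)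
  have h3 : Nat.card (centralizer {g}) = 27 := by have := h.typAB hN h0 h1; omega
  obtain ⟨w, hw, hw1, h4⟩ := (h.typP hN h3).2
  have h5 : Nat.card (centralizer {w}) = 36 := by
    have := h.typAB hN (k := 3) (orderOf_dvd_iff_pow_eq_one.1
      ((orderOf_dvd_natCard _ hw).trans h3.dvd)) hw1
    simp only [h4, Int.cast_inj] at this
    omega
  have h6 : zpowers g ≤ centralizer {w} ⊓ centralizer {g} := zpowers_le_of_mem
    ⟨mem_centralizer_singleton_iff.2 (mem_centralizer_singleton_iff.1 hw).symm,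
      mem_centralizer_singleton_iff.2 rfl⟩
  obtain ⟨k, rfl⟩ := (eq_of_le_of_card_ge h6 (by
    rw [Nat.card_zpowers, hg]
    exact Nat.le_of_dvd (by norm_num) (Nat.dvd_gcd (h5 ▸ card_dvd_of_le inf_le_left)
      (h3 ▸ card_dvd_of_le inf_le_right)))).ge ⟨mem_centralizer_singleton_iff.2 rfl, hw⟩
  have := card_dvd_of_le (H := centralizer {g}) (K := centralizer {g ^ k}) fun c hc =>
    mem_centralizer_singleton_iff.2 (Commute.zpow_right (mem_centralizer_singleton_iff.1 hc) k)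
  rw [h3, h5] at this
  omega

theorem three : mo G 3 = 4400 ∧ ∀ w : G, orderOf w = 3 → (X 1).1 w = (0 : ℤ) →
    Nat.card (centralizer {w}) = 54 := by
  have := Fintype.ofFinite G
  have h0 := fun (g : G) (hg : orderOf g = 3) => h.typAB hN (pw hg) (ne_of_ord hg (by norm_num))
  have h1 := (h.sm hN).idx
  have h2 : ∀ (v : ℤ) (g x : G), orderOf x = 3 ∧ (X 1).1 x = v →
      orderOf (g * x * g⁻¹) = 3 ∧ (X 1).1 (g * x * g⁻¹) = v := fun v g x hx => by
    rwa [H4.Nse.orderOf_conj', val_conj]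
  have a1 := dvd_card_conj (d := 1760) _ (h2 0) fun b hb => by
    have c0 := h0 b hb.1
    have := h1 (centralizer {b})
    simp only [hb.2, Int.cast_inj] at c0
    rcases c0 with ⟨-, -, -, e | e | e⟩ | ⟨-, e, -⟩ <;> [skip; skip; skip; omega] <;>
      rw [e] at this <;> omega
  have b1 := dvd_card_conj (d := 2640) _ (h2 3) fun b hb => by
    have c0 := h0 b hb.1
    have := h1 (centralizer {b})
    simp only [hb.2, Int.cast_inj] at c0
    rcases c0 with e | ⟨-, -, -, e⟩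
    · omega
    · rw [e] at this
      omega
  have a2 := card_val_le (X 3) (S := univ.filter fun x => orderOf x = 3 ∧ (X 1).1 x = (0 : ℤ))
    (v := 3) fun g hg => by
      have := h0 g (mem_filter.1 hg).2.1
      simp only [(mem_filter.1 hg).2.2, Int.cast_inj] at this
      exact (this.resolve_right (by omega)).2.2.1
  have b2 := card_val_le (X 1) (S := univ.filter fun x => orderOf x = 3 ∧ (X 1).1 x = (3 : ℤ))
    (v := 3) fun g hg => (mem_filter.1 hg).2.2
  have h3 := card_union_of_disjoint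
    (s := univ.filter fun x => orderOf x = 3 ∧ (X 1).1 x = (0 : ℤ))
    (t := univ.filter fun x => orderOf x = 3 ∧ (X 1).1 x = (3 : ℤ))
    (disjoint_filter.2 fun g _ a b => by simpa [a.2] using b.2)
  rw [← filter_or, filter_congr (q := fun x => orderOf x = 3) fun g _ => ⟨fun e => e.elim And.left
    And.left, fun e => (h0 g e).imp (fun a => ⟨e, a.2.1⟩) fun a => ⟨e, a.2.1⟩⟩, ← mo_eq] at h3
  have h4 := frob (G := G) (d := 27) (by rw [hN]; norm_num)
  rw [show Nat.divisors 27 = {1, 3, 9, 27} by decide, sum_insert (by decide), sum_insert (by decide),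
    sum_pair (by decide), mo_one, mo_eq_zero (n := 9) fun _ => h.no9 hN,
    Nat.eq_zero_of_not_pos (n := mo G 27) fun e => (mo_pos_of_dvd' (d := 9) e (by norm_num)).ne'
      (mo_eq_zero fun _ => h.no9 hN)] at h4
  rw [hN] at a2 b2
  have key : ∀ a b : ℕ, 1760 ∣ a → 2640 ∣ b → (a : ℤ) * 3 ^ 2 ≤ (95040 : ℕ) →
      (b : ℤ) * 3 ^ 2 ≤ (95040 : ℕ) → 27 ∣ 1 + (a + b + (0 + 0)) → a = 1760 ∧ b = 2640 := by
    rintro _ _ ⟨a, rfl⟩ ⟨b, rfl⟩ c1 c2 c3
    have c4 : a ≤ 6 := by omega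
    have c5 : b ≤ 4 := by omega
    interval_cases a <;> interval_cases b <;> omega
  have h8 := key _ _ a1 b1 a2 b2 (h3 ▸ h4)
  refine ⟨by omega, fun w hw hw' => ?_⟩
  have h5 := card_le_card (s := univ.filter fun y => IsConj w y)
    (t := univ.filter fun x => orderOf x = 3 ∧ (X 1).1 x = (0 : ℤ)) fun y hy => by
      obtain ⟨k, rfl⟩ := isConj_iff.1 (mem_filter.1 hy).2
      exact mem_filter.2 ⟨mem_univ _, h2 0 k w ⟨hw, hw'⟩⟩
  rw [card_filter_isConj] at h5
  have h6 := h0 w hw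
  have h7 := h1 (centralizer {w})
  simp only [hw', Int.cast_inj] at h6
  rcases h6 with ⟨-, -, -, e | e | e⟩ | e <;> [skip; skip; exact e; omega] <;> rw [e] at h7 <;> omega

theorem typ54 {r w : G} (hr : orderOf r = 2) (hC : Nat.card (centralizer {r}) = 192)
    (hw : orderOf w = 3) (hc : Commute r w) : Nat.card (centralizer {w}) = 54 := by
  refine (h.three hN).2 w hw ((h.typAB hN (pw hw) (ne_of_ord hw (by norm_num))).elim (·.2.1)
    fun ⟨_, h1, h2, h3⟩ => ?_)
  have h4 := (h.val192 hN hr (by omega)).2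
  have h9 : orderOf (r * w) = 6 := by
    rw [hc.orderOf_mul_eq_mul_orderOf_of_coprime (by rw [hr, hw]; norm_num), hr, hw]
  have hg := reg_of (h9 ▸ pow_orderOf_eq_one _) (by norm_num)
  obtain ⟨c, hc'⟩ := h.int12 hN hg
  have h10 := h.nrm (fam1 hg (ne_of_ord h9 (by norm_num)) hc')
  have h11 := Nat.le_of_dvd (by norm_num) (Nat.dvd_gcd
    (hC ▸ card_dvd_of_le (cent_mul_le hc (by rw [hr, hw]; norm_num)))
    (h3 ▸ hc.eq ▸ card_dvd_of_le (cent_mul_le hc.symm (by rw [hr, hw]; norm_num))))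
  have a1 := cong_int Nat.prime_two (ch (X 1)) (pw hr) hc (hc' 1) h1
  have a2 := cong_int Nat.prime_three (ch (X 1)) (pw hw) hc.symm (hc.eq ▸ hc' 1) (h4 1)
  have a3 := cong_int Nat.prime_two (ch (X 4)) (pw hr) hc (hc' 4) h2
  have a4 := cong_int Nat.prime_three (ch (X 4)) (pw hw) hc.symm (hc.eq ▸ hc' 4) (h4 4)
  change _ ∣ _ - -3 at a2
  change _ ∣ _ - 0 at a4
  have b1 : 3 ^ 2 ≤ c 1 ^ 2 := sq_le_sq.2 (le_abs.2 (by norm_num; omega))
  have b4 : 3 ^ 2 ≤ c 4 ^ 2 := sq_le_sq.2 (le_abs.2 (by norm_num; omega))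
  have b0 := sq_nonneg (c 0)
  have b2 := sq_nonneg (c 2)
  have b3 := sq_nonneg (c 3)
  rw [Fin.sum_univ_five] at h10
  norm_num at h11
  omega

theorem no16 {g : G} : orderOf g ≠ 16 := fun hg => by
  have := Fact.mk Nat.prime_two
  obtain ⟨t, Ψ, m⟩ := h.exists_mod hN
  have s := h.sm hN
  obtain ⟨c, -, hc⟩ := exists_conj_le (p := 2) (H := ⊤) (T := normalizer (A0.map Ψ : Set G))
    (R := zpowers g) le_top (IsPGroup.of_card (n := 4) (by rw [Nat.card_zpowers, hg]; rfl)) (by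
      have h8 := s.idx (normalizer (A0.map Ψ : Set G))
      rw [s.card_M m] at h8
      rw [relIndex_top_right]
      omega)
  have h1 := hc g (mem_zpowers g)
  rw [← H4.Nse.orderOf_conj' c] at hg
  generalize c * g * c⁻¹ = g at hg h1
  have h2 : ∀ ρ ∈ V4, Commute (g ^ 4) (Ψ (-1, ρ)) := fun ρ hρ =>
    pow_four_comm (k := 4) (orderOf_dvd_iff_pow_eq_one.1 hg.dvd) (s := (V4.map fun ρ => Ψ (-1, ρ)).toFinset)
      (List.toFinset_card_le _) fun k hk => by
        obtain ⟨σ, hσ, e⟩ := s.conj_A m (zpowers_le_of_mem h1 hk) (-1) hρ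
        exact List.mem_toFinset.2 (List.mem_map.2 ⟨σ, hσ, e.symm⟩)
  obtain ⟨γ, hγ⟩ := m.mem _ (m.t_eq ▸ h2 1 List.mem_cons_self)
  have h3 := (v4_spec _ ((perm_spec γ.2).2.2.2 fun ρ hρ => congrArg Prod.snd (m.inj
    (show Ψ (γ * (-1, ρ)) = Ψ ((-1, ρ) * γ) by rw [map_mul, map_mul, hγ, (h2 ρ hρ).eq])))).1
  have h4 : g ^ 8 = 1 := by
    rw [show 8 = 4 + 4 from rfl, pow_add, ← hγ, ← map_mul, show γ * γ = 1 from
      Prod.ext (Int.units_mul_self _) h3, map_one]
  exact absurd (hg ▸ orderOf_dvd_of_pow_eq_one h4) (by norm_num)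

theorem no_twelve {g : G} : orderOf g ≠ 12 := fun hg => by
  obtain ⟨u, w, hu, hw, hc, -⟩ := exists_split (a := 4) (b := 3) (by norm_num) hg
  obtain ⟨t, Ψ, m⟩ := h.exists_mod hN
  have h1 : orderOf (u * u) = 2 := by rw [← pow_two, orderOf_pow, hu]; rfl
  obtain ⟨k, hk⟩ := isConj_iff.1 (((h.sm hN).two_classes m (sq_of_ord h1).1
    (sq_of_ord h1).2).resolve_left (m.not_sq u))
  have h2 := h.typ54 hN h1 (by rw [← hk, card_centralizer_conj, h.cardV hN m]) hw (hc.mul_left hc)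
  exact absurd (h2 ▸ hu ▸ ord_dvd_cent hc) (by norm_num)

theorem ord12 (g : G) : orderOf g ∈ [1, 2, 3, 4, 5, 6, 8, 10, 11] := by
  have key : ∀ p c, p.Prime → (∀ a : G, orderOf a = p → Nat.card (centralizer {a}) = c) →
      p ∣ orderOf g → orderOf g ∣ c := fun p c hp e hd => by
    obtain ⟨a, ha, ha'⟩ := exists_mem_orderOf hp (H := zpowers g) (Nat.card_zpowers g ▸ hd)
    obtain ⟨k, rfl⟩ := ha
    exact e _ ha' ▸ ord_dvd_cent ((Commute.refl g).zpow_right k)
  have no : ∀ n, (∀ {a : G}, orderOf a ≠ n) → ¬ n ∣ orderOf g := fun n e hd =>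
    (mo_pos_of_dvd hd).ne' (mo_eq_zero fun _ => e)
  exact (by decide +kernel : ∀ n ∈ H4.M12R.D, (11 ∣ n → n ∣ 11) → (5 ∣ n → n ∣ 10) → ¬ 9 ∣ n →
    ¬ 12 ∣ n → ¬ 16 ∣ n → n ∈ [1, 2, 3, 4, 5, 6, 8, 10, 11]) _
    (mem_D ((orderOf_dvd_natCard g).trans h.dvd)) (key 11 11 (by norm_num) fun a ha => by
      rw [card_cent_eq (by norm_num) h.ord ha h.nsq, card_cent h.ord h.cent])
    (key 5 10 Nat.prime_five fun a => h.ten hN) (no 9 (h.no9 hN)) (no 12 (h.no_twelve hN))
    (no 16 (h.no16 hN))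

theorem hyp12 : Hyp G := by
  have := Fintype.ofFinite G
  have := Fact.mk Nat.prime_three
  have := Fact.mk Nat.prime_five
  have := Fact.mk (show Nat.Prime 11 by norm_num)
  obtain ⟨t, Ψ, m⟩ := h.exists_mod hN
  have s := h.sm hN
  have ot := ord_two m.tt m.ne_one
  have ov : orderOf (Ψ (1, d1)) = 2 :=
    (orderOf_injective Ψ m.inj _).trans (ord_two (by decide) (by decide))
  have h4 := h.cardV hN m
  have h1 : ∀ F : G → ℕ, (∀ k r, F (k * r * k⁻¹) = F r) → ∑ x with orderOf x = 2, F x =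
      396 * F t + 495 * F (Ψ (1, d1)) := fun F hF => by
    have := s.idx (centralizer {Ψ (1, d1)})
    rw [h4] at this
    rw [← s.index_t m, show 495 = (centralizer {Ψ (1, d1)}).index by omega,
      ← sum_two ot ov m.not_v F hF]
    refine sum_congr (filter_congr fun x _ => ⟨fun hr =>
      s.two_classes m (sq_of_ord hr).1 (sq_of_ord hr).2, fun hx => ?_⟩) fun _ _ => rfl
    simp only [isConj_iff] at hx
    rcases hx with ⟨k, rfl⟩ | ⟨k, rfl⟩ <;> rwa [H4.Nse.orderOf_conj']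
  have h2 := h1 (fun _ => 1) fun _ _ => rfl
  rw [← card_eq_sum_ones, ← mo_eq] at h2
  have e : Ψ.range = centralizer {t} := Subgroup.ext fun x => by
    rw [mem_centralizer_singleton_iff]
    exact ⟨by rintro ⟨γ, rfl⟩; exact m.comm γ, m.mem x⟩
  have h5 : ∀ n, mo (centralizer {t}) n = mo Γ n := fun n =>
    (mo_congr ((MonoidHom.ofInjective m.inj).trans (MulEquiv.subgroupCongr e)) n).symm
  have h6 : mo Γ 1 + mo Γ 3 = _ := sum_divisors (G := Γ) (d := 3) (by norm_num)
  rw [mo_one, Nat.card_eq_fintype_card, show Fintype.card {x : Γ // x ^ 3 = 1} = 21 by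
    decide +kernel] at h6
  have h7 : mo Γ 1 + mo Γ 5 = _ := sum_divisors (G := Γ) (d := 5) (by norm_num)
  rw [mo_one, Nat.card_eq_fintype_card, show Fintype.card {x : Γ // x ^ 5 = 1} = 25 by
    decide +kernel] at h7
  have h8 := h1 (fun r => mo (centralizer {r}) 3) fun k r => mo_cent_conj k r 3
  have h9 := h1 (fun r => mo (centralizer {r}) 5) fun k r => mo_cent_conj k r 5
  rw [← mo_mul_sum (by norm_num), h5] at h8 h9
  norm_num at h8 h9
  have h10 : mo (centralizer {Ψ (1, d1)}) 5 = 0 := Nat.eq_zero_of_not_pos fun e => by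
    have := dvd_of_mo_pos e
    omega
  have h11 : mo (centralizer {Ψ (1, d1)}) 3 = 32 := by
    obtain ⟨w, -, hw⟩ := exists_mem_orderOf Nat.prime_three
      (H := (⊤ : Subgroup (centralizer {Ψ (1, d1)}))) (by rw [card_top, h4]; norm_num)
    have a1 := mo_prime hw (by rw [h4]; norm_num)
    obtain ⟨e, n, a2, a3, a4, a5, -⟩ := sylow_cyc Nat.prime_three hw (by rw [h4]; norm_num)
    have a6 := card_cent_sub w
    rw [h.typ54 hN ov h4 ((orderOf_coe w).trans hw) (mem_centralizer_singleton_iff.1 w.2).symm] at a6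
    have a7 := hw ▸ ord_dvd_cent (Commute.refl w)
    have a8 := ord_dvd_cent (g := w) (a := ⟨Ψ (1, d1), mem_centralizer_singleton_iff.2 rfl⟩)
      (Subtype.ext (mem_centralizer_singleton_iff.1 w.2).symm)
    rw [← orderOf_coe, ov] at a8
    rw [a4, h4] at a1
    rw [h4] at a5
    have a9 := Nat.le_of_dvd (by norm_num) (Nat.dvd_gcd a6 ((Dvd.intro_left _ rfl).trans
      (Dvd.intro_left _ a5)))
    have a10 := Nat.le_of_dvd (by norm_num) a2
    rw [show Nat.gcd 54 192 = 6 from rfl] at a9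
    have a11 := Nat.card_pos (α := centralizer {w})
    rw [show Nat.card (centralizer {w}) = 6 by omega] at a1 a5
    interval_cases e <;> omega
  obtain ⟨y, t', ht, -⟩ := h.exists_GT hN
  have h12 := mo_prime ht.og h.nsq5
  have h13 := mo_prime h.ord h.nsq
  obtain ⟨e, n, a2, a3, a4, a5, -⟩ := sylow_cyc (by norm_num) h.ord h.nsq
  rw [a4, card_cent h.ord h.cent, hN] at h13
  rw [card_cent h.ord h.cent, hN] at a5
  rw [ht.cardN, hN] at h12
  have a10 := Nat.le_of_dvd (by norm_num) a2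
  refine ⟨hN, h.ord12 hN, by omega, (h.three hN).1, by omega, by omega, by omega, ?_⟩
  interval_cases e <;> omega

end Blk

theorem E5.iso12 {x : G} (h : E5 x) (hN : Nat.card G = 95040) : Nonempty (G ≃* Spor.M12) :=
  let ⟨_, _, _, b⟩ := h.exists_blk
  (b.hyp12 hN).iso

end Cfsg.Agent.H5.MT
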