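import Cfsg.Agent.H5.MtI
import Cfsg.Agent.H6.DegChar

/-!
# Groups whose order divides that of `M₁₂`, XI: two character degrees of `M₁₂`
-/

set_option autoImplicit false
set_option linter.unusedSectionVars false

namespace Cfsg.Agent.H5.MT

open Cfsg Cfsg.Agent.H3 Subgroup Finset H4.Nse H4.M12R
open Cfsg.Agent.H9.FT (radI radI_mul radI_mul' dvd_of_mem_radI)
open scoped ComplexConjugate Classical

variable {G : Type*} [Group G] [Finite G]

theorem int_of_conj (χ : IrrCharacter G) {g : G}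
    (h : ∀ k, k.Coprime (orderOf g) → IsConj g (g ^ k)) : ∃ n : ℤ, χ.1 g = n :=
  H9.FT.int_of_pow_eq (H9.FT.irr_ZI (Ree.irr_top.2 χ.2)) fun k hk => (eq_of_conj χ (h k hk)).symm

theorem conj_all {y : G} (hy : orderOf y = 5) (hN : Nat.card (normalizer (zpowers y : Set G)) =
    4 * Nat.card (centralizer {y})) {k : ℕ} (hk : k % 5 ≠ 0) :
    ∃ n ∈ normalizer (zpowers y : Set G), n * y * n⁻¹ = y ^ k := by
  have h1 := H4.M12P.ncard_conj (normalizer (zpowers y : Set G)) y
  rw [relIndex_eq (cent_le_norm y) hN] at h1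
  have h2 := Set.eq_of_subset_of_ncard_le
    (s := {z | ∃ h ∈ normalizer (zpowers y : Set G), h * y * h⁻¹ = z})
    (t := (zpowers y : Set G) \ {1}) (by
      rintro _ ⟨n, hn, rfl⟩
      exact ⟨mem_normalizer_zpowers.1 hn, by simpa using ne_of_ord hy (by norm_num)⟩) (by
      rw [h1, Set.ncard_sdiff_singleton_of_mem (one_mem _),
        show (zpowers y : Set G).ncard = 5 from (Nat.card_zpowers y).trans hy])
  exact h2.ge ⟨npow_mem_zpowers y k, mt (pow_eq_one_iff' hy k).1 hk⟩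

theorem col {g g' : G} {e e' : IrrCharacter G → ℤ} (he : ∀ θ, θ.1 g = e θ) (he' : ∀ θ, θ.1 g' = e' θ) :
    ∑ θ, e θ * e' θ = if IsConj g' g then (Nat.card (centralizer {g'}) : ℤ) else 0 := by
  have := sum_irr_mul_conj g' g
  simp only [he, he', map_intCast] at this
  split_ifs at this ⊢ <;> exact_mod_cast this

theorem cent_one : Nat.card (centralizer ({1} : Set G)) = Nat.card G := by
  rw [show centralizer ({1} : Set G) = ⊤ from eq_top_iff.2 fun g _ =>
    mem_centralizer_singleton_iff.2 (Commute.one_right g), card_top]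

theorem not_conj_of_ord {a b : G} (h : orderOf a ≠ orderOf b) : ¬ IsConj a b := fun e =>
  h (orderOf_eq_of_isConj e)

theorem E5.of_card [hs : IsSimpleGroup G] (hG : ¬ IsMulCommutative G) (hd : Nat.card G ∣ 95040) {x : G}
    (hx : orderOf x = 11) (hC : Nat.card (centralizer {x}) = 11)
    (hN : Nat.card (normalizer (zpowers x : Set G)) = 55) : E5 x := by
  have hc : ∀ a, Commute a x → a ∈ zpowers x := fun a ha =>
    (eq_of_le_of_card_ge (zpowers_le_of_mem (mem_centralizer_singleton_iff.2 rfl))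
      (by rw [hC, Nat.card_zpowers, hx])).ge (mem_centralizer_singleton_iff.2 ha)
  refine ⟨hs, hG, hd, hx, hc, ?_, fun e => ?_⟩
  · obtain ⟨n, hn, hn'⟩ := exists_mem_orderOf Nat.prime_five
      (H := normalizer (zpowers x : Set G)) (by rw [hN]; norm_num)
    obtain ⟨k, hk, e⟩ := exists_pow hx (mem_normalizer_zpowers.1 hn)
    have h1 : ∀ j, n ^ j * x * (n ^ j)⁻¹ = x ^ k ^ j := fun j => by
      induction j with
      | zero => simp
      | succ j ih => rw [pow_succ k, pow_mul, ← ih, conj_pow, ← e]; group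
    have h2 := h1 5
    rw [← hn', pow_orderOf_eq_one, one_mul, inv_one, mul_one, hn'] at h2
    nth_rewrite 1 [← pow_one x] at h2
    rw [pow_eq_iff hx] at h2
    have h3 : k ≠ 1 := fun e' => by
      rw [e', pow_one, mul_inv_eq_iff_eq_mul] at e
      have := ord_dvd_cent e
      rw [hn', hC] at this
      omega
    obtain ⟨j, -, hj⟩ := (by decide : ∀ k < 11, k ≠ 1 → 1 % 11 = k ^ 5 % 11 →
      ∃ j < 5, k ^ j % 11 = 3 % 11) k hk h3 h2
    exact isConj_iff.2 ⟨_, (h1 j).trans ((pow_eq_iff hx _ _).2 hj)⟩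
  · obtain ⟨r, h1, h2⟩ := exists_invol hx hc e
    have h3 := orderOf_dvd_natCard (normalizer (zpowers x : Set G))
      (mem_normalizer_zpowers.2 (h2 ▸ inv_mem (mem_zpowers x)))
    rw [hN, ord_two h1 fun e => ?_] at h3
    · omega
    rw [e, one_mul, inv_one, mul_one, inv_eq hx] at h2
    nth_rewrite 1 [← pow_one x] at h2
    simpa using (pow_eq_iff hx _ _).1 h2

namespace Blk

variable {x : G} {X : Fin 5 → IrrCharacter G} {ψ : IrrCharacter G} {D : Fin 5 → ℕ}
  (h : Blk x X ψ D)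
include h

theorem rest {θ : IrrCharacter G} (hθ : θ.1 x = 0) {d : ℕ} (hd : θ.1 1 = d) : 11 ∣ d := by
  have := cong_int (p := 11) (by norm_num) (ch θ) (pw h.ord) (Commute.one_right x) (a := 0)
    (b := d) (by simpa using hθ) (by simpa using hd)
  omega

theorem rest_ne {θ : IrrCharacter G} (hθ : θ.1 x = 0) : θ ≠ o G := fun e => by simp [e] at hθ

theorem splitc {g g' : G} (hg : IsPReg 11 g) (hg' : IsPReg 11 g') {e e' : IrrCharacter G → ℤ}
    (he : ∀ θ, θ.1 g = e θ) (he' : ∀ θ, θ.1 g' = e' θ) :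
    1 + e (X 0) * e' (X 0) + ∑ j, e (X j) * e' (X j) + ∑ θ with θ.1 x = 0, e θ * e' θ =
      if IsConj g' g then (Nat.card (centralizer {g'}) : ℤ) else 0 := by
  rw [← col he he', h.split,
    show e (o G) = 1 by exact_mod_cast (he _).symm.trans (o_apply g),
    show e' (o G) = 1 by exact_mod_cast (he' _).symm.trans (o_apply g'),
    show e ψ = e (X 0) by exact_mod_cast (he _).symm.trans ((h.reg g hg).trans (he _)),
    show e' ψ = e' (X 0) by exact_mod_cast (he' _).symm.trans ((h.reg g' hg').trans (he' _)), one_mul]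

end Blk

/-- The contributions if there is no degree divisible by `55`. -/
def tab55 : List (ℕ × ℤ × ℤ × ℤ) :=
  [(1, 11, 121, 0), (4, 44, 484, 0), (4, -66, 1089, 0), (1, -44, 1936, 0), (1, 66, 4356, 0),
  (4, -176, 7744, 0), (1, -99, 9801, 0), (4, 264, 17424, 0), (1, 176, 30976, 0),
  (4, -396, 39204, 0)]

theorem mem_tab55 : ∀ d ∈ H4.M12R.D, d ≤ 233 → 11 ∣ d → ¬ 55 ∣ d → ∀ e ∈ ([-2, -1, 0, 1, 2] : List ℤ),
    5 ∣ e - d → ((e * e).toNat, e * d, (d : ℤ) * d, 0) ∈ tab55 := by decide +kernel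

/-- The contributions if there is no degree divisible by `33`. -/
def tab33 : List (ℕ × ℤ × ℤ × ℤ) :=
  [(1, -44, -4, 1), (1, -44, 4, 1), (1, 11, -9, 1), (1, 11, -1, 1), (1, 176, -4, 1), (1, 176, 4, 1),
  (4, -176, -24, 4), (4, -176, -16, 4), (4, -176, 0, 0), (4, -176, 16, 4), (4, -176, 24, 4),
  (4, 44, -20, 0), (4, 44, -4, 4), (4, 44, 4, 4), (4, 44, 20, 0), (4, 44, 28, 4), (4, 44, -28, 4)]

theorem mem_tab33 : ∀ d ∈ H4.M12R.D, d ≤ 233 → 11 ∣ d → ¬ 33 ∣ d → ∀ e ∈ ([-2, -1, 1, 2] : List ℤ),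
    5 ∣ e - d → ∀ f ∈ ([-2, -1, 0, 1, 2] : List ℤ), 2 ∣ f - e →
    ∀ v ∈ (List.range 31).map (fun i : ℕ => (i : ℤ) - 15), 4 ∣ d - v → 5 ∣ f - v → |v| < d →
    ((e * e).toNat, e * d, e * v, f * f) ∈ tab33 := by decide +kernel

theorem small {a : ℤ} (h : a * a ≤ 5) : a ∈ ([-2, -1, 0, 1, 2] : List ℤ) := by
  have : -3 < a ∧ a < 3 := abs_lt.1 (abs_lt_of_sq_lt_sq (by linarith) (by norm_num))
  simp only [List.mem_cons, List.not_mem_nil, or_false]
  omega

theorem Blk.degs {x : G} {X : Fin 5 → IrrCharacter G} {ψ : IrrCharacter G} {D : Fin 5 → ℕ}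
    (h : Blk x X ψ D) (hN : Nat.card G = 95040) :
    (∃ d ∈ charDegrees G, 55 ∣ d) ∧ ∃ d ∈ charDegrees G, 33 ∣ d := by
  have := h.simple
  have := Fintype.ofFinite G
  obtain ⟨y, t, ht, hC⟩ := h.exists_GT hN
  have hy := ht.og
  have h9 : orderOf (t * y) = 10 := by
    rw [ht.comm.orderOf_mul_eq_mul_orderOf_of_coprime (by rw [ht.ot, hy]; norm_num), ht.ot, hy]
  have c0 := fun k => conj_all hy (by rw [ht.cardN, ht.cardC]) (k := k)
  choose d d0 hd using fun χ : IrrCharacter G => irr_one_pos χ.2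
  have hd' : ∀ χ : IrrCharacter G, χ.1 1 = ((d χ : ℤ) : ℂ) := fun χ => by simp [hd]
  choose e he using fun θ => int_of_conj θ (g := y) fun k hk => by
    obtain ⟨n, -, hn⟩ := c0 k fun e => by
      simpa [hy] using hk.symm.eq_one_of_dvd (hy ▸ Nat.dvd_of_mod_eq_zero e)
    exact isConj_iff.2 ⟨n, hn⟩
  choose f hf using fun θ => int_of_conj θ (g := t * y) fun k hk => by
    rw [h9] at hk
    obtain ⟨n, h1, hn⟩ := c0 k fun e => by
      simpa using (hk.coprime_dvd_right (by norm_num : 5 ∣ 10)).symm.eq_one_of_dvd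
        (Nat.dvd_of_mod_eq_zero e)
    refine isConj_iff.2 ⟨n, ?_⟩
    rw [ht.comm.mul_pow, (pow_eq_iff ht.ot k 1).2 (Nat.odd_iff.1 (Nat.coprime_two_right.1
      (hk.coprime_dvd_right (by norm_num)))), pow_one, ← hn, ← conj_mul,
      (mem_centralizer_singleton_iff.1 (ht.le h1) : n * t = t * n), mul_inv_cancel_right]
  choose v hv using fun θ : IrrCharacter G => L0.SC3.exists_int_invol (ch θ) ht.tt
  have ry := reg_of (pw hy) (by norm_num)
  have rt := reg_of (pw ht.ot) (by norm_num)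
  have rty := reg_of (h9 ▸ pow_orderOf_eq_one _) (by norm_num)
  have r1 : IsPReg 11 (1 : G) := IsPReg.one 11
  obtain ⟨a, -, ha, h1, -⟩ := h.five hN hy
  obtain ⟨b, -, hb, -, -, h2⟩ := h.inv12 hN ht.ot
  replace h2 := h2 (h.pat12 hN)
  simp only [T12, List.mem_cons, Prod.mk.injEq, List.not_mem_nil, or_false, hC] at h1 h2
  have ea : ∀ j, e (X j) = a j := fun j => by exact_mod_cast (he _).symm.trans (ha j)
  have vb : ∀ j, v (X j) = b j := fun j => by exact_mod_cast (hv _).symm.trans (hb j)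
  have dD : ∀ j, d (X j) = tv P12 j := fun j => by
    rw [← h.D12 hN]; exact_mod_cast (hd _).symm.trans (h.deg j)
  have m1 : ∀ θ, 5 ∣ e θ - d θ := fun θ => cong_int Nat.prime_five (ch θ) (pw hy)
    (Commute.one_right y) (by rw [mul_one, he]) (hd' θ)
  have m2 : ∀ θ, 2 ∣ f θ - e θ := fun θ => cong_int Nat.prime_two (ch θ) (pw ht.ot) ht.comm (hf θ) (he θ)
  have m3 : ∀ θ, 5 ∣ f θ - v θ := fun θ => cong_int Nat.prime_five (ch θ) (pw hy) ht.comm.symm
    (ht.comm.eq ▸ hf θ) (hv θ)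
  have s1 := h.splitc ry ry he he
  have s2 := h.splitc ry r1 he hd'
  have s3 := h.splitc r1 r1 hd' hd'
  have s4 := h.splitc ry rt he hv
  have s5 := h.splitc rty rty hf hf
  have s6 := fun θ => single_le_sum (f := fun θ => v θ * v θ) (fun _ _ => mul_self_nonneg _)
    (mem_univ θ)
  rw [if_neg (not_conj_of_ord (by rw [hy, orderOf_one]; norm_num))] at s2
  rw [if_neg (not_conj_of_ord (by rw [hy, ht.ot]; norm_num))] at s4
  have s7 := card_le_of_le (cent_mul_le ht.comm.symm (by rw [ht.ot, hy]; norm_num))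
  rw [← ht.comm.eq] at s7
  simp only [col hv hv, Fin.sum_univ_five, IsConj.refl, if_true, ea, vb, dD, h1, hC, ht.cardC,
    cent_one, hN] at s1 s2 s3 s4 s5 s6 s7
  change 1 + 1 * 16 + (1 * 16 + 0 * 45 + -1 * 54 + 0 * 120 + -1 * 144) + _ = _ at s2
  change 1 + 16 * 16 + (16 * 16 + 45 * 45 + 54 * 54 + 120 * 120 + 144 * 144) + _ = _ at s3
  set R := univ.filter fun θ : IrrCharacter G => θ.1 x = 0
  have odd : ∀ j, a j % 2 = 1 → 1 ≤ f (X j) * f (X j) := fun j e => by
    have := m2 (X j)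
    rw [ea] at this
    exact mul_self_pos.2 (show f (X j) ≠ 0 by omega)
  have o0 := odd 0 (by omega)
  have o2 := odd 2 (by omega)
  have o4 := odd 4 (by omega)
  have o1 := mul_self_nonneg (f (X 1))
  have o3 := mul_self_nonneg (f (X 3))
  have b1 : ∀ θ ∈ R, e θ * e θ ≤ 5 := fun θ hθ => (single_le_sum (f := fun θ => e θ * e θ)
    (fun _ _ => mul_self_nonneg _) hθ).trans (by omega)
  have b2 : ∀ θ ∈ R, f θ * f θ ≤ 5 := fun θ hθ => (single_le_sum (f := fun θ => f θ * f θ)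
    (fun _ _ => mul_self_nonneg _) hθ).trans (by omega)
  have b3 : ∀ θ ∈ R, d θ ≤ 233 := fun θ hθ => by
    have := single_le_sum (f := fun θ => (d θ : ℤ) * d θ) (fun _ _ => mul_self_nonneg _) hθ
    exact Nat.lt_succ_iff.1 (Nat.mul_self_lt_mul_self_iff.1 (by zify; omega))
  have b4 : ∀ θ, d θ ∈ H4.M12R.D := fun θ => mem_D ((irr_degree_dvd_card θ.2 (hd θ)).trans h.dvd)
  have b5 : ∀ θ ∈ R, 11 ∣ d θ := fun θ hθ => h.rest (mem_filter.1 hθ).2 (hd θ)
  have b6 : ∀ θ, d θ ∈ charDegrees G := fun θ => H6.mem_charDegrees.2 ⟨_, θ.2, hd θ⟩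
  have w : ∀ S : Finset (IrrCharacter G), ∑ θ ∈ S, e θ * e θ = 5 →
      ∑ θ ∈ S, (e θ * e θ).toNat = 5 := fun S hS => by
    zify
    rwa [sum_congr rfl fun θ _ => Int.toNat_of_nonneg (mul_self_nonneg _)]
  constructor <;> by_contra hc <;> push Not at hc
  · have := G22.srch_sound (fun v => v.1 == 165 && v.2.1 == 54450)
      (fun θ => ((e θ * e θ).toNat, e θ * d θ, (d θ : ℤ) * d θ, 0)) tab55 (by decide) R 0
      (fun θ hθ => mem_tab55 _ (b4 θ) (b3 θ hθ) (b5 θ hθ) (hc _ (b6 θ)) _ (small (b1 θ hθ)) (m1 θ))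
      (by simp [Prod.fst_sum, Prod.snd_sum]; omega)
    rw [w R (by omega)] at this
    exact absurd this (by decide +kernel)
  · have p : ∀ F : IrrCharacter G → ℤ, ∑ θ ∈ R with e θ ≠ 0, e θ * F θ = ∑ θ ∈ R, e θ * F θ :=
      fun F => sum_filter_of_ne fun θ _ => left_ne_zero_of_mul
    have p' := sum_le_sum_of_subset_of_nonneg (filter_subset (fun θ => e θ ≠ 0) R)
      (f := fun θ => f θ * f θ) fun _ _ _ => mul_self_nonneg _
    have := G22.srch_sound (fun v => v.1 == 165 && (v.2.1 == 1 || v.2.1 == 9) && decide (v.2.2 ≤ 5))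
      (fun θ => ((e θ * e θ).toNat, e θ * d θ, e θ * v θ, f θ * f θ)) tab33 (by decide)
      (R.filter fun θ => e θ ≠ 0) 0 (fun θ hθ => by
        obtain ⟨hθ, q⟩ := mem_filter.1 hθ
        have q1 := small (b1 θ hθ)
        have q2 : -16 < v θ ∧ v θ < 16 :=
          abs_lt.1 (abs_lt_of_sq_lt_sq (by have := s6 θ; push_cast at this; linarith) (by norm_num))
        have q3 := norm_lt h.nc (h.rest_ne (mem_filter.1 hθ).2) ht.ne_one (hd θ)
        rw [hv, Complex.norm_intCast] at q3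
        exact mem_tab33 _ (b4 θ) (b3 θ hθ) (b5 θ hθ) (hc _ (b6 θ)) _ (by simpa [q] using q1) (m1 θ) _
          (small (b2 θ hθ)) (m2 θ) _ (List.mem_map.2 ⟨(v θ + 15).toNat, List.mem_range.2 (by omega),
            by omega⟩) (four_dvd h.nc (ch θ) ht.tt (hd θ) (hv θ)) (m3 θ) (by exact_mod_cast q3))
      (by simp [Prod.fst_sum, Prod.snd_sum, -ne_eq, p]; omega)
    rw [w _ (by rw [p]; omega)] at this
    exact absurd this (by decide +kernel)

theorem degs_M12 : (∃ d ∈ charDegrees Spor.M12, 55 ∣ d) ∧ ∃ d ∈ charDegrees Spor.M12, 33 ∣ d := by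
  have hc := H4.Golay.card_M12
  have : Finite Spor.M12 := Nat.finite_of_card_ne_zero (by rw [hc]; norm_num)
  have h := hyp_of_nse hc mo_M12_mem fun c h => (exists_mo_M12 c h).2
  have := h.simple
  have := Fact.mk (show Nat.Prime 11 by norm_num)
  obtain ⟨x, hx⟩ := mo_pos_iff.1 (show 0 < mo Spor.M12 11 by rw [h.m11]; norm_num)
  have h1 := mo_prime hx (by rw [hc]; norm_num)
  rw [h.m11, hc] at h1
  have h2 : Nat.card (normalizer (zpowers x : Set Spor.M12)) = 55 := by omega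
  have h3 := h2 ▸ card_dvd_of_le (cent_le_norm x)
  have h4 := h.o.not_dvd_cent hx Nat.prime_five (by norm_num) (by decide)
  have h5 := hx ▸ ord_dvd_cent (Commute.refl x)
  have h6 := Nat.le_of_dvd (by norm_num) h3
  obtain ⟨_, _, _, b⟩ := (E5.of_card (fun e => by
    rw [normalizer_eq_top, card_top, hc] at h2
    omega) hc.dvd hx (by
      generalize Nat.card (centralizer {x}) = n at *
      interval_cases n <;> omega) h2).exists_blk
  exact b.degs hc

end Cfsg.Agent.H5.MT
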