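import Cfsg.Agent.H5.MtJ

/-!
# Groups whose order divides that of `M₁₂`, XII: the characters of simple groups of order `7920`
-/

set_option autoImplicit false
set_option linter.unusedSectionVars false

namespace Cfsg.Agent.H5.MT

open Cfsg Cfsg.Agent.H3 Subgroup Finset H4.Nse H4.M12R
open Cfsg.Agent.H9.FT (radI radI_mul radI_mul' dvd_of_mem_radI)
open scoped ComplexConjugate Classical

variable {G : Type*} [Group G] [Finite G]

/-- The degrees in `M₁₁`. -/
def PB : ℕ × ℕ × ℕ × ℕ × ℕ := (16, 10, 10, 10, 45)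

/-- The characters of a simple group of order `7920`. -/
structure B11 (x y : G) (X : Fin 5 → IrrCharacter G) (ψ α β γ : IrrCharacter G) : Prop
    extends Blk x X ψ (tv PB) where
  card : Nat.card G = 7920
  oy : orderOf y = 5
  cy : Nat.card (centralizer {y}) = 5
  ny : Nat.card (normalizer (zpowers y : Set G)) = 20
  da : α.1 1 = (11 : ℕ)
  db : β.1 1 = (44 : ℕ)
  dc : γ.1 1 = (55 : ℕ)
  rs : (univ.filter fun θ : IrrCharacter G => θ.1 x = 0) = {α, β, γ}
  vy : ψ.1 y = 1 ∧ (∀ j, (X j).1 y = ![1, 0, 0, 0, 0] j) ∧ α.1 y = 1 ∧ β.1 y = -1 ∧ γ.1 y = 0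

namespace Blk

variable {x : G} {X : Fin 5 → IrrCharacter G} {ψ : IrrCharacter G} {D : Fin 5 → ℕ}
  (h : Blk x X ψ D) (hN : Nat.card G = 7920)
include h hN

theorem inv11 {t : G} (ht : orderOf t = 2) : ∃ a : Fin 5 → ℤ, (∀ j, (X j).1 t = a j) ∧
    ¬ 5 ∣ Nat.card (centralizer {t}) ∧ ((D 0, D 1, D 2, D 3, D 4) = (5, 10, 10, 12, 12) ∨
      (D 0, D 1, D 2, D 3, D 4) = PB ∧ (a 0, a 1, a 2, a 3, a 4) ∈
        [(0, -2, -2, 2, -3), (0, -2, 2, -2, -3), (0, 2, -2, -2, -3)]) := by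
  obtain ⟨a, f, h1, h2⟩ := h.famI ht
  have hr := f.reg 0 one_pos
  have h3 := f.ne 0 one_pos
  have h7 : ∀ n, n.Coprime 11 → n ∣ Nat.card G → 720 % n = 0 := fun n a b =>
    Nat.mod_eq_zero_of_dvd (a.dvd_of_dvd_mul_left (b.trans hN.dvd))
  have h8 := fun j => h7 _ (h.cop j) (irr_degree_dvd_card (X j).2 (h.deg j))
  choose d d0 hd using fun χ : IrrCharacter G => irr_one_pos χ.2
  have h9 := deg_sq_le {X 4} hd
  rw [sum_singleton, show d (X 4) = D 4 by exact_mod_cast (hd _).symm.trans (h.deg 4), hN] at h9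
  have h4 := S7 _ h.pat (h8 0) (h8 1) (h8 2) (h8 3) (h8 4) (show D 4 ≤ 88 by nlinarith) _
    (h.cD (centralizer {t})) (Nat.mod_eq_zero_of_dvd (ht ▸ ord_dvd_cent (Commute.refl t)))
    (h7 _ ((Nat.Prime.coprime_iff_not_dvd (by norm_num)).2 fun e =>
      h.not11 hr h3 (Nat.mod_eq_zero_of_dvd e)).symm (card_subgroup_dvd_card _))
  rw [tv_eq] at h4
  have h5 := h.search f h4 one_ne_zero (hKK hN _) (by have := h.le t hr h3; omega) h2
  have h6 := h.z0 f f (M := 720) hN (fun _ _ => (sq_of_ord ht).1) fun _ _ => (sq_of_ord ht).1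
  simp only [h6, bne_self_eq_false, Bool.false_or, Bool.and_eq_true, Bool.or_eq_true, bne_iff_ne,
    beq_iff_eq, List.contains_iff_mem] at h5
  exact ⟨a, h1, by omega, h5.imp And.left fun e => ⟨e.1.1, e.2⟩⟩

theorem five11 {y : G} (hy : orderOf y = 5) : Nat.card (centralizer {y}) = 5 ∧
    Nat.card (normalizer (zpowers y : Set G)) = 20 := by
  obtain ⟨e, n, h1, h2, h3, h4, h5⟩ := sylow_cyc Nat.prime_five hy h.nsq5
  have h6 := h5 h.simple h.nc
  have h7 := Nat.le_of_dvd (by norm_num) h1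
  have h8 := (by decide +kernel : ∀ C ∈ H4.M12R.D, ¬ 2 ∣ C → C % 11 ≠ 0 → 5 ∣ C → C ∣ 7920 →
    C = 5 ∨ C = 15 ∨ C = 45) _ (h.cD (centralizer {y})) (fun e => by
      obtain ⟨t, ht, hc⟩ := exists_comm Nat.prime_two e
      obtain ⟨-, -, h, -⟩ := h.inv11 hN ht
      exact h (hy ▸ ord_dvd_cent hc.symm))
    (h.not11 (reg_of (pw hy) (by norm_num)) (ne_of_ord hy (by norm_num)))
    (hy ▸ ord_dvd_cent (Commute.refl y)) (hN ▸ card_subgroup_dvd_card _)
  rw [hN] at h4
  rcases h8 with a | a | a <;> rw [a] at h3 h4 ⊢ <;> interval_cases e <;> omega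

theorem exists_b11 : ∃ y α β γ, B11 x y X ψ α β γ := by
  obtain ⟨y, -, hy⟩ := exists_mem_orderOf Nat.prime_five (H := (⊤ : Subgroup G))
    (by rw [card_top, hN]; norm_num)
  obtain ⟨t, -, ht⟩ := exists_mem_orderOf Nat.prime_two (H := (⊤ : Subgroup G))
    (by rw [card_top, hN]; norm_num)
  obtain ⟨c1, c2⟩ := h.five11 hN hy
  choose d d0 hd using fun χ : IrrCharacter G => irr_one_pos χ.2
  have hd' : ∀ χ : IrrCharacter G, χ.1 1 = ((d χ : ℤ) : ℂ) := fun χ => by simp [hd]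
  choose e he using fun θ => int_of_conj θ (g := y) fun k hk => by
    obtain ⟨n, -, hn⟩ := conj_all hy (by rw [c1, c2]) (k := k) fun e => by
      simpa [hy] using hk.symm.eq_one_of_dvd (hy ▸ Nat.dvd_of_mod_eq_zero e)
    exact isConj_iff.2 ⟨n, hn⟩
  have ry := reg_of (pw hy) (by norm_num)
  have r1 : IsPReg 11 (1 : G) := IsPReg.one 11
  have dD : ∀ j, d (X j) = D j := fun j => by exact_mod_cast (hd _).symm.trans (h.deg j)
  have m1 : ∀ θ, 5 ∣ e θ - d θ := fun θ => cong_int Nat.prime_five (ch θ) (pw hy)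
    (Commute.one_right y) (by rw [mul_one, he]) (hd' θ)
  have s1 := h.splitc ry ry he he
  have s2 := h.splitc ry r1 he hd'
  have s3 := h.splitc r1 r1 hd' hd'
  rw [if_neg (not_conj_of_ord (by rw [hy, orderOf_one]; norm_num))] at s2
  simp only [Fin.sum_univ_five, IsConj.refl, if_true, dD, c1, cent_one, hN] at s1 s2 s3
  set R := univ.filter fun θ : IrrCharacter G => θ.1 x = 0 with hR
  have p0 := mul_self_nonneg (e (X 0))
  have p1 := mul_self_nonneg (e (X 1))
  have p2 := mul_self_nonneg (e (X 2))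
  have p3 := mul_self_nonneg (e (X 3))
  have p4 := mul_self_nonneg (e (X 4))
  have p5 := sum_nonneg (s := R) fun θ _ => mul_self_nonneg (e θ)
  have q0 := small (a := e (X 0)) (by omega)
  have q1 := small (a := e (X 1)) (by omega)
  have q2 := small (a := e (X 2)) (by omega)
  have q3 := small (a := e (X 3)) (by omega)
  have q4 := small (a := e (X 4)) (by omega)
  have n0 := m1 (X 0)
  have n1 := m1 (X 1)
  have n2 := m1 (X 2)
  have n3 := m1 (X 3)
  have n4 := m1 (X 4)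
  simp only [List.mem_cons, List.not_mem_nil, or_false, dD] at q0 q1 q2 q3 q4 n0 n1 n2 n3 n4
  obtain ⟨-, -, -, hP | ⟨hP, -⟩⟩ := h.inv11 hN ht
  · simp only [Prod.mk.injEq] at hP
    rw [show e (X 3) = 2 by omega, show e (X 4) = 2 by omega] at s1
    omega
  have hD : D = tv PB := by rw [← tv_eq D, hP]
  simp only [PB, Prod.mk.injEq] at hP
  have e0 : e (X 0) = 1 := by omega
  have e1 : e (X 1) = 0 := by omega
  have e2 : e (X 2) = 0 := by omega
  have e3 : e (X 3) = 0 := by omega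
  have e4 : e (X 4) = 0 := by omega
  simp only [e0, e1, e2, e3, e4, hP] at s1 s2 s3
  have b : ∀ θ ∈ R, d θ ∈ ({11, 44, 55, 66} : Finset ℕ) ∧
      e θ = if d θ = 44 then -1 else if d θ = 55 then 0 else 1 := fun θ hθ => by
    have a1 := single_le_sum (f := fun θ => e θ * e θ) (fun _ _ => mul_self_nonneg _) hθ
    have a2 := single_le_sum (f := fun θ => (d θ : ℤ) * d θ) (fun _ _ => mul_self_nonneg _) hθ
    have a3 : d θ < 72 := Nat.mul_self_lt_mul_self_iff.1 (by zify; omega)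
    have a4 : -2 < e θ ∧ e θ < 2 := abs_lt.1 (abs_lt_of_sq_lt_sq (by rw [sq]; omega) (by norm_num))
    have a5 := h.rest (mem_filter.1 hθ).2 (hd θ)
    have a6 := m1 θ
    have a7 := d0 θ
    obtain ⟨k, hk⟩ := a5
    have a8 : k < 7 := by omega
    simp only [mem_insert, mem_singleton]
    interval_cases k <;> exact ⟨by omega, by split_ifs <;> omega⟩
  have c : ∀ F : ℕ → ℤ, ∑ θ ∈ R, F (d θ) = ∑ k ∈ ({11, 44, 55, 66} : Finset ℕ),
      (R.filter fun θ => d θ = k).card * F k := fun F => by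
    rw [← sum_fiberwise_of_maps_to fun θ hθ => (b θ hθ).1]
    exact sum_congr rfl fun k _ => by
      rw [sum_congr rfl fun θ hθ => by rw [(mem_filter.1 hθ).2], sum_const, nsmul_eq_mul]
  rw [sum_congr rfl fun θ hθ => by rw [(b θ hθ).2]] at s1 s2
  rw [c fun k => (if k = 44 then -1 else if k = 55 then 0 else 1) *
    if k = 44 then -1 else if k = 55 then 0 else 1] at s1
  rw [c fun k => (if k = 44 then -1 else if k = 55 then 0 else 1) * k] at s2
  rw [c fun k => k * k] at s3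
  norm_num at s1 s2 s3
  obtain ⟨α, hα⟩ := card_eq_one.1 (show (R.filter fun θ => d θ = 11).card = 1 by omega)
  obtain ⟨β, hβ⟩ := card_eq_one.1 (show (R.filter fun θ => d θ = 44).card = 1 by omega)
  obtain ⟨γ, hγ⟩ := card_eq_one.1 (show (R.filter fun θ => d θ = 55).card = 1 by omega)
  have hδ := card_eq_zero.1 (show (R.filter fun θ => d θ = 66).card = 0 by omega)
  have a1 := mem_filter.1 (hα.ge (mem_singleton_self α))
  have a2 := mem_filter.1 (hβ.ge (mem_singleton_self β))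
  have a3 := mem_filter.1 (hγ.ge (mem_singleton_self γ))
  refine ⟨y, α, β, γ, hD ▸ h, hN, hy, c1, c2, a1.2 ▸ hd α, a2.2 ▸ hd β, a3.2 ▸ hd γ,
    Finset.ext fun θ => ⟨fun hθ => ?_, fun hθ => ?_⟩, ?_, fun j => ?_, ?_, ?_, ?_⟩
  · have := (b θ hθ).1
    simp only [mem_insert, mem_singleton] at this ⊢
    rcases this with e | e | e | e
    · exact Or.inl (mem_singleton.1 (hα.le (mem_filter.2 ⟨hθ, e⟩)))
    · exact Or.inr (Or.inl (mem_singleton.1 (hβ.le (mem_filter.2 ⟨hθ, e⟩))))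
    · exact Or.inr (Or.inr (mem_singleton.1 (hγ.le (mem_filter.2 ⟨hθ, e⟩))))
    · exact absurd (hδ.le (mem_filter.2 ⟨hθ, e⟩)) (notMem_empty θ)
  · simp only [mem_insert, mem_singleton] at hθ
    rcases hθ with rfl | rfl | rfl
    exacts [a1.1, a2.1, a3.1]
  · rw [h.reg y ry, he, e0, Int.cast_one]
  · rw [he]
    fin_cases j <;> simp [e0, e1, e2, e3, e4]
  · simp [he, (b α a1.1).2, a1.2]
  · simp [he, (b β a2.1).2, a2.2]
  · simp [he, (b γ a3.1).2, a3.2]

end Blk

end Cfsg.Agent.H5.MT
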