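import Cfsg.Agent.H4.M12Cnt

/-!
# Groups whose order divides that of `M₁₂`, XIV: a search for the order `15840`
-/

set_option autoImplicit false

namespace Cfsg.Agent.H5.MT

open Finset H4.M12R

/-- A search over multisets with budgets. -/
def ps (k : ℕ × ℕ × ℕ × ℕ → ℤ × ℤ × ℤ → Bool) :
    List ((ℕ × ℕ × ℕ × ℕ) × ℤ × ℤ × ℤ) → ℕ × ℕ × ℕ × ℕ → ℤ × ℤ × ℤ → Bool
  | [], b, v => k b v
  | τ :: T, b, v => if b.1 = 0 then k b v else (List.range (b.1 / τ.1.1 + 1)).any fun n =>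
      decide (n * τ.1.2.1 ≤ b.2.1) && decide (n * τ.1.2.2.1 ≤ b.2.2.1) &&
      decide (n * τ.1.2.2.2 ≤ b.2.2.2) &&
      ps k T (b.1 - n * τ.1.1, b.2.1 - n * τ.1.2.1, b.2.2.1 - n * τ.1.2.2.1, b.2.2.2 - n * τ.1.2.2.2)
        (v.1 + n * τ.2.1, v.2.1 + n * τ.2.2.1, v.2.2 + n * τ.2.2.2)

theorem ps_sound {ι : Type*} (k : ℕ × ℕ × ℕ × ℕ → ℤ × ℤ × ℤ → Bool)
    (f : ι → (ℕ × ℕ × ℕ × ℕ) × ℤ × ℤ × ℤ) (T : List ((ℕ × ℕ × ℕ × ℕ) × ℤ × ℤ × ℤ))
    (hT : ∀ τ ∈ T, 0 < τ.1.1) (b : ℕ × ℕ × ℕ × ℕ) :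
    ∀ (S : Finset ι) (v : ℤ × ℤ × ℤ), (∀ i ∈ S, f i ∈ T) → k b (v + ∑ i ∈ S, (f i).2) = true →
      ps k T (b + ∑ i ∈ S, (f i).1) v = true := by
  classical
  induction T with
  | nil =>
    intro S v h1 h2
    have : S = ∅ := Finset.eq_empty_of_forall_notMem fun i hi => by simpa using h1 i hi
    subst this
    simpa [ps] using h2
  | cons τ T ih =>
    intro S v h1 h2
    rw [ps]
    split_ifs with h
    · have : S = ∅ := Finset.eq_empty_of_forall_notMem fun i hi => by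
        have h3 := hT _ (h1 i hi)
        have h4 := single_le_sum (f := fun i => (f i).1.1) (fun _ _ => Nat.zero_le _) hi
        rw [Prod.fst_add, Prod.fst_sum] at h
        omega
      subst this
      simpa using h2
    have e1 : ∀ {M : Type} [AddCommMonoid M] (g : (ℕ × ℕ × ℕ × ℕ) × ℤ × ℤ × ℤ → M),
        ∑ i ∈ S, g (f i) = (S.filter (fun i => f i = τ)).card • g τ +
          ∑ i ∈ S.filter (fun i => ¬ f i = τ), g (f i) := by
      intro M _ g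
      rw [← sum_filter_add_sum_filter_not S (fun i => f i = τ), ← sum_const]
      congr 1
      exact sum_congr rfl fun i hi => by rw [(mem_filter.mp hi).2]
    set n := (S.filter (fun i => f i = τ)).card
    have h0 := hT τ List.mem_cons_self
    have := ih (fun τ' h => hT τ' (List.mem_cons_of_mem _ h)) (S.filter (fun i => ¬ f i = τ))
      (v.1 + n * τ.2.1, v.2.1 + n * τ.2.2.1, v.2.2 + n * τ.2.2.2)
      (fun i hi => (List.mem_cons.mp (h1 i (mem_filter.mp hi).1)).resolve_left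
        (mem_filter.mp hi).2) (by
        rw [← h2, e1 Prod.snd, ← add_assoc]
        congr 2)
    rw [List.any_eq_true, e1 Prod.fst, add_comm (n • _), ← add_assoc]
    refine ⟨n, ?_, ?_⟩
    · rw [List.mem_range, Nat.lt_succ_iff, Nat.le_div_iff_mul_le h0]
      simp
    · simpa [Prod.add_def] using this

/-- The characters with negative value. -/
def T1 : List ((ℕ × ℕ × ℕ × ℕ) × ℤ × ℤ × ℤ) :=
  [((1, 14400, 0, 0), -10, 10, -1200), ((1, 14400, 0, 0), -10, 8, -768), ((1, 14400, 0, 0), -10,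
  6, -432), ((1, 14400, 0, 0), -10, 4, -192), ((1, 14400, 0, 0), -10, 2, -48), ((1, 14400, 0, 0),
  -10, 0, 0), ((1, 14400, 0, 0), -10, -2, -48), ((1, 14400, 0, 0), -10, -4, -192), ((1, 14400, 0,
  0), -10, -6, -432), ((1, 14400, 0, 0), -10, -8, -768), ((1, 14400, 0, 0), -10, -10, -1200), ((9,
  9216, 0, 0), -18, 0, 0), ((1, 1024, 0, 0), -2, 0, 0)]

/-- The characters with positive value. -/
def T2 : List ((ℕ × ℕ × ℕ × ℕ) × ℤ × ℤ × ℤ) :=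
  [((20, 8100, 0, 4), 0, -20, 3200), ((20, 8100, 0, 4), 0, -16, 2048), ((20, 8100, 0, 4), 0, -12,
  1152), ((20, 8100, 0, 4), 0, -8, 512), ((20, 8100, 0, 4), 0, -4, 128), ((20, 8100, 0, 4), 0, 0,
  0), ((20, 8100, 0, 4), 0, 4, 128), ((20, 8100, 0, 4), 0, 8, 512), ((20, 8100, 0, 4), 0, 12,
  1152), ((20, 8100, 0, 4), 0, 16, 2048), ((20, 8100, 0, 4), 0, 20, 3200), ((30, 6400, 0, 9), 0,
  -30, 5400), ((30, 6400, 0, 9), 0, -24, 3456), ((30, 6400, 0, 9), 0, -18, 1944), ((30, 6400, 0,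
  9), 0, -12, 864), ((30, 6400, 0, 9), 0, -6, 216), ((30, 6400, 0, 9), 0, 0, 0), ((30, 6400, 0,
  9), 0, 6, 216), ((30, 6400, 0, 9), 0, 12, 864), ((30, 6400, 0, 9), 0, 18, 1944), ((30, 6400, 0,
  9), 0, 24, 3456), ((30, 6400, 0, 9), 0, 30, 5400), ((5, 2025, 0, 1), 0, -5, 800), ((5, 2025, 0,
  1), 0, -3, 288), ((5, 2025, 0, 1), 0, -1, 32), ((5, 2025, 0, 1), 0, 1, 32), ((5, 2025, 0, 1), 0,
  3, 288), ((5, 2025, 0, 1), 0, 5, 800), ((18, 1296, 0, 9), 0, -18, 4320), ((18, 1296, 0, 9), 0,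
  -12, 1920), ((18, 1296, 0, 9), 0, -6, 480), ((18, 1296, 0, 9), 0, 0, 0), ((18, 1296, 0, 9), 0,
  6, 480), ((18, 1296, 0, 9), 0, 12, 1920), ((18, 1296, 0, 9), 0, 18, 4320), ((8, 576, 0, 4), 0,
  -8, 1920), ((8, 576, 0, 4), 0, -4, 480), ((8, 576, 0, 4), 0, 0, 0), ((8, 576, 0, 4), 0, 4, 480),
  ((8, 576, 0, 4), 0, 8, 1920), ((1, 1, 1, 1), 0, -1, 1440), ((1, 1, 1, 1), 0, 1, 1440), ((2, 144,
  0, 1), 0, -2, 480), ((2, 144, 0, 1), 0, 0, 0), ((2, 144, 0, 1), 0, 2, 480)]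

set_option synthInstance.maxSize 2000 in
theorem mem_T : ∀ d ∈ D, d ≤ 125 → d ∣ 15840 → ∀ e ∈ ([-3, -2, -1, 1, 2, 3] : List ℤ),
    ∀ m ∈ List.range 15, d + 10 * e = 11 * (m : ℕ) → d ∣ 1440 ∧ (m ≠ 0 → (e = d → d = 1) →
      ∀ k ∈ List.range (m + 1), (32 ∣ d → m = 2 * k) →
      (e < 0 → (((e * e).toNat, d * d, 0, 0), e * m, e * (m - 2 * k),
        e * (m - 2 * k) * (m - 2 * k) * (1440 / d : ℕ)) ∈ T1) ∧
      (0 < e → (((e * m).toNat, d * d, if e = d then d * d else 0, (e * e).toNat), 0, e * (m - 2 * k),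
        e * (m - 2 * k) * (m - 2 * k) * (1440 / d : ℕ)) ∈ T2)) := by decide +kernel

/-- The final test. -/
def k2 (b : ℕ × ℕ × ℕ × ℕ) (v : ℤ × ℤ × ℤ) : Bool :=
  b.1 == 0 && v.2.1 == 0 && D.any fun c => v.2.2 == (c * c : ℕ)

theorem srch10 : ps (fun b v => ps k2 T2 ((9 - v.1).toNat, b.2.1, 1, b.1) v) T1 (10, 15839, 0, 0)
    (0, 1, 1440) = false := by decide +kernel

end Cfsg.Agent.H5.MT
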