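import Cfsg.Agent.H5.MtL
import Cfsg.Agent.H5.MtM

/-!
# Groups whose order divides that of `M₁₂`, XV: the order `15840`
-/

set_option autoImplicit false
set_option linter.unusedSectionVars false

namespace Cfsg.Agent.H5.MT

open Cfsg Cfsg.Agent.H3 Subgroup Finset H4.Nse H4.M12R
open scoped ComplexConjugate Classical

variable {G : Type*} [Group G] [Finite G]

theorem conj_all' {y : G} {p : ℕ} (hy : orderOf y = p + 1) (hp : p ≠ 0)
    (hN : Nat.card (normalizer (zpowers y : Set G)) = p * Nat.card (centralizer {y})) {k : ℕ}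
    (hk : k % (p + 1) ≠ 0) : IsConj y (y ^ k) := by
  have h1 := H4.M12P.ncard_conj (normalizer (zpowers y : Set G)) y
  rw [relIndex_eq (cent_le_norm y) hN] at h1
  have h2 := Set.eq_of_subset_of_ncard_le
    (s := {z | ∃ h ∈ normalizer (zpowers y : Set G), h * y * h⁻¹ = z})
    (t := (zpowers y : Set G) \ {1}) (by
      rintro _ ⟨n, hn, rfl⟩
      exact ⟨mem_normalizer_zpowers.1 hn, by simpa using ne_of_ord hy (by omega)⟩) (by
      rw [h1, Set.ncard_sdiff_singleton_of_mem (one_mem _),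
        show (zpowers y : Set G).ncard = p + 1 from (Nat.card_zpowers y).trans hy]
      exact le_rfl)
  obtain ⟨n, -, e⟩ := h2.ge ⟨npow_mem_zpowers y k, mt (pow_eq_one_iff' hy k).1 hk⟩
  exact isConj_iff.2 ⟨n, e⟩

theorem cent_of_card {x : G} {n : ℕ} (hx : orderOf x = n) (hC : Nat.card (centralizer {x}) = n) (a : G)
    (ha : Commute a x) : a ∈ zpowers x :=
  (eq_of_le_of_card_ge (zpowers_le_of_mem (mem_centralizer_singleton_iff.2 rfl))
    (by rw [hC, Nat.card_zpowers, hx])).ge (mem_centralizer_singleton_iff.2 ha)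

theorem ncard_pairs {x r : G} (hx : orderOf x = 11) (hc : ∀ a, Commute a x → a ∈ zpowers x)
    (hr : r * r = 1) (hrx : r * x * r⁻¹ = x⁻¹) :
    {a | IsConj r a ∧ IsConj r (a⁻¹ * x⁻¹)}.ncard = 11 := by
  have key : ∀ a, IsConj r a → a⁻¹ = a := fun a ha => by
    obtain ⟨c, rfl⟩ := isConj_iff.mp ha
    refine inv_eq_of_mul_eq_one_right ?_
    rw [conj_mul, hr, mul_one, mul_inv_cancel]
  have hm : ∀ y ∈ zpowers x, IsConj r (y * r) := fun y hy => by
    obtain ⟨i, -, rfl⟩ := exists_pow hx hy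
    exact conj_mul_invol hx hrx i
  have : {a | IsConj r a ∧ IsConj r (a⁻¹ * x⁻¹)} = (fun y => y * r) '' (zpowers x : Set G) := by
    ext a
    constructor
    · rintro ⟨h1, h2⟩
      refine ⟨a * r⁻¹, hc _ ?_, by simp⟩
      have e1 := key _ h2
      rw [mul_inv_rev, inv_inv, inv_inv, key _ h1] at e1
      have e2 : r⁻¹ * x = x⁻¹ * r⁻¹ := by
        rw [inv_eq_of_mul_eq_one_right hr, ← hrx, ← inv_eq_of_mul_eq_one_right hr]; group
      change _ = _
      rw [mul_assoc, e2, ← mul_assoc, ← e1, mul_assoc]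
    · rintro ⟨y, hy, rfl⟩
      refine ⟨hm y hy, ?_⟩
      have e : (y * r)⁻¹ * x⁻¹ = y * x * r := by
        rw [key _ (hm y hy), ← hrx, ← mul_assoc, ← mul_assoc, mul_assoc y, hr, mul_one,
          inv_eq_of_mul_eq_one_right hr]
      exact e ▸ hm _ (mul_mem hy (mem_zpowers x))
  rw [this, Set.ncard_image_of_injective _ (mul_left_injective _)]
  exact (Nat.card_zpowers x).trans hx

theorem vals10 {x r : G} (hx : orderOf x = 11) (ha : ∀ k, k % 11 ≠ 0 → IsConj x (x ^ k))
    (hr : r * r = 1) (hrx : r * x * r⁻¹ = x⁻¹) (χ : IrrCharacter G) : ∃ (d m k : ℕ) (e : ℤ),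
    χ.1 1 = d ∧ χ.1 x = e ∧ χ.1 r = (m - 2 * k : ℤ) ∧ d + 10 * e = 11 * m ∧ k ≤ m := by
  obtain ⟨d, hd⟩ := char_one_nat (ch χ)
  have hrN : r ∈ normalizer (zpowers x : Set G) :=
    mem_normalizer_zpowers.2 (hrx ▸ inv_mem (mem_zpowers x))
  obtain ⟨ψ, h1, h2⟩ := G22.exists_avg' (isCharacter_res (normalizer (zpowers x : Set G)) (ch χ)) hx
    (le_normalizer (mem_zpowers x)) fun g hg => mem_normalizer_zpowers.1 hg
  obtain ⟨m, hm⟩ := char_one_nat h1
  obtain ⟨f, hf⟩ := G22.exists_det h1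
  obtain ⟨k, hk, -⟩ := hf ⟨r, hrN⟩ (Subtype.ext hr)
  have h3 := h2 1
  have h4 := h2 ⟨r, hrN⟩
  rw [sum_congr rfl fun i _ => (eq_of_conj χ (conj_mul_invol hx hrx i)).symm] at h4
  rw [sum_range_succ', sum_congr rfl fun i hi => (by
    simpa using (eq_of_conj χ (ha (i + 1) (by simp at hi; omega))).symm :
      χ.1 (x ^ (i + 1) * (1 : normalizer (zpowers x : Set G))) = χ.1 x), hm] at h3
  simp only [sum_const, card_range, nsmul_eq_mul, pow_zero, one_mul, OneMemClass.coe_one,
    hd] at h3 h4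
  obtain ⟨e, he⟩ := int_of_mul (char_isIntegral (ch χ) x) (m := 11 * m - d) (k := 10) (by norm_num)
    (by push_cast at h3 ⊢; linear_combination -h3)
  have h6 := norm_char_le h1 ⟨r, hrN⟩
  rw [hk, hm, show (m : ℂ) - 2 * k = (m - 2 * k : ℤ) by push_cast; rfl, Complex.norm_intCast,
    Complex.natCast_re] at h6
  have h7 : |(m - 2 * k : ℤ)| ≤ m := by exact_mod_cast h6
  refine ⟨d, m, k, e, hd, he, ?_, ?_, by have := abs_le.1 h7; omega⟩
  · rw [← mul_left_cancel₀ (by norm_num) h4, hk, hm]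
    push_cast
    rfl
  · rw [he] at h3
    have : ((d + 10 * e : ℤ) : ℂ) = (11 * m : ℤ) := by push_cast at h3 ⊢; linear_combination -h3
    exact_mod_cast this

theorem sum_ker_le [Fintype G] (S : Subgroup G) {d : IrrCharacter G → ℕ} (hd : ∀ χ, χ.1 1 = d χ)
    (T : Finset (IrrCharacter G)) (hT : ∀ χ ∈ T, ∀ s ∈ S, χ.1 s = χ.1 1) :
    ∑ χ ∈ T, d χ * d χ ≤ S.index := by
  choose m hm using fun χ : IrrCharacter G => G22.exists_sum_sub (K := ⊤)
    (isCharacter_res ⊤ (ch χ)) (le_top (a := S))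
  have h0 : (Nat.card S : ℂ) ≠ 0 := Nat.cast_ne_zero.2 Nat.card_pos.ne'
  have h1 : ∑ χ, d χ * m χ = S.index := by
    have : (Nat.card S : ℂ) * ∑ χ, (d χ * m χ : ℕ) = Nat.card S * S.index := by
      rw [← Nat.cast_mul _ S.index, card_mul_index, Nat.cast_sum, mul_sum, sum_congr rfl fun χ _ => by
        rw [Nat.cast_mul, mul_left_comm, ← hm, ← hd, mul_sum], sum_comm,
        sum_congr rfl fun s _ => sum_irr_one_mul s.1]
      simp
    exact_mod_cast mul_left_cancel₀ h0 this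
  rw [← h1]
  refine le_trans (le_of_eq (sum_congr rfl fun χ hχ => ?_)) (sum_le_sum_of_subset (subset_univ T))
  have := hm χ
  rw [sum_congr rfl fun (s : S) _ => hT χ hχ s s.2, sum_const, card_univ, ← Nat.card_eq_fintype_card,
    nsmul_eq_mul, hd] at this
  rw [show d χ = m χ by exact_mod_cast mul_left_cancel₀ h0 this]

theorem no_e10 {x : G} (hN : Nat.card G = 15840) (hx : orderOf x = 11)
    (hC : Nat.card (centralizer {x}) = 11)
    (h5 : ∀ N : Subgroup G, N.Normal → x ∈ N → 5 ∣ Nat.card N) : False := by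
  have := Fintype.ofFinite G
  have hn : ¬ 11 ^ 2 ∣ Nat.card G := by rw [hN]; norm_num
  obtain ⟨e0, n, h1, h2, h3, h4, -⟩ := sylow_cyc (by norm_num) hx hn
  rw [hC, hN] at h4
  obtain rfl : e0 = 10 := by
    have := Nat.le_of_dvd (by norm_num) h1
    interval_cases e0 <;> omega
  have ha : ∀ k, k % 11 ≠ 0 → IsConj x (x ^ k) := fun k => conj_all' hx (by norm_num) h3
  have hc := cent_of_card hx hC
  obtain ⟨r, hr, hrx⟩ := exists_invol hx hc (inv_eq hx ▸ ha 10 (by norm_num))
  have hx1 := ne_of_ord hx (by norm_num)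
  have hr2 : orderOf r = 2 := ord_two hr fun e => by
    rw [e, one_mul, inv_one, mul_one, inv_eq hx] at hrx
    nth_rewrite 1 [← pow_one x] at hrx
    simpa using (pow_eq_iff hx _ _).1 hrx
  have hS : (normalClosure {x}).index ≤ 2 := by
    have a1 := subset_normalClosure (Set.mem_singleton x)
    have a2 := hx ▸ orderOf_dvd_natCard _ a1
    have a3 := index_dvd_frattini (by norm_num) hx hn a2
    have a4 := index_mul_card' (normalClosure {x}) hN
    obtain ⟨c, a5⟩ := Nat.Coprime.mul_dvd_of_dvd_of_dvd (by norm_num) a2 (h5 _ inferInstance a1)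
    rw [h3, hC] at a3
    rw [a5, mul_left_comm] at a4
    have a6 : (normalClosure {x}).index ∣ 288 := ⟨c, by omega⟩
    exact Nat.le_of_dvd two_pos (Nat.dvd_gcd a3 a6)
  choose d m k e hd he hv hm hk using vals10 hx ha hr hrx
  have s1 := col he he
  have s2 := col he (g' := 1) (e' := fun χ => d χ) hd
  have s3 := col he hv
  rw [if_pos (IsConj.refl _), hC] at s1
  rw [if_neg (by simpa using hx1.symm)] at s2
  rw [if_neg (not_conj_of_ord (by omega))] at s3
  have s4 := deg_sq_le univ hd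
  have o1 : d (o G) = 1 := by exact_mod_cast (hd _).symm.trans (o_apply 1)
  have o2 : e (o G) = 1 := by exact_mod_cast (he _).symm.trans (o_apply x)
  have o3 : (m (o G) : ℤ) - 2 * k (o G) = 1 := by exact_mod_cast (hv _).symm.trans (o_apply r)
  have o4 : m (o G) = 1 := by have := hm (o G); omega
  have s5 := sum_ker_le (normalClosure {x}) hd (univ.filter fun χ => e χ = d χ) fun χ hχ s hs =>
    (normalClosure_le_normal (N := charKer (ch χ)) (Set.singleton_subset_iff.2 (by
      change χ.1 x = χ.1 1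
      rw [he, hd, (mem_filter.1 hχ).2, Int.cast_natCast])) hs :)
  rw [sum_filter] at s5
  have key := fun χ (h : e χ ≠ 0) => by
    have a1 := single_le_sum (f := fun χ => e χ * e χ) (fun _ _ => mul_self_nonneg _) (mem_univ χ)
    have a2 := deg_sq_le {χ} hd
    have a3 := hN ▸ irr_degree_dvd_card χ.2 (hd χ)
    rw [s1] at a1
    rw [sum_singleton, hN] at a2
    have a4 : d χ ≤ 125 := by nlinarith
    have a5 : -4 < e χ ∧ e χ < 4 := abs_lt.1 (abs_lt_of_sq_lt_sq (by push_cast at a1; nlinarith) (by norm_num))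
    exact mem_T (d χ) (mem_D (a3.trans (by norm_num))) a4 a3 (e χ) (by simp; omega) (m χ)
      (List.mem_range.2 (by have := hm χ; omega)) (hm χ)
  have s6 : ∑ χ, e χ * ((m χ - 2 * k χ) * (m χ - 2 * k χ) * (1440 / d χ : ℕ)) =
      (Nat.card (centralizer {r}) * Nat.card (centralizer {r}) : ℕ) := by
    have := L0.SC3.triple_count r r x
    rw [ncard_pairs hx hc hr hrx, hN] at this
    have h2 : ∀ χ : IrrCharacter G,
        ((e χ * ((m χ - 2 * k χ) * (m χ - 2 * k χ) * (1440 / d χ : ℕ)) : ℤ) : ℂ) = 1440 *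
        (χ.1 r * χ.1 r / χ.1 1 * χ.1 x) := fun χ => by
      have h0 := irr_one_ne_zero χ.2
      rw [hd] at h0
      rw [hv, he, hd]
      by_cases e0 : e χ = 0
      · simp [e0]
      · rw [Int.cast_mul, Int.cast_mul, Int.cast_natCast, Nat.cast_div (key χ e0).1 h0]
        push_cast
        ring
    refine Int.cast_injective (α := ℂ) ?_
    rw [Int.cast_sum, sum_congr rfl fun χ _ => h2 χ, ← mul_sum]
    push_cast at this ⊢
    linear_combination this / 11
  have s7 : ∑ χ, e χ * m χ = 10 := by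
    have : 11 * ∑ χ, e χ * m χ = ∑ χ, e χ * d χ + 10 * ∑ χ, e χ * e χ := by
      rw [mul_sum, mul_sum, ← sum_add_distrib]
      exact sum_congr rfl fun χ _ => by linear_combination (-e χ) * hm χ
    rw [s1, s2] at this
    omega
  set S1 := univ.filter fun χ => e χ < 0 ∧ m χ ≠ 0
  set S2 := (univ.erase (o G)).filter fun χ => 0 < e χ
  have dj : Disjoint S1 S2 := disjoint_left.2 fun χ a b => by
    have := (mem_filter.1 a).2.1
    have := (mem_filter.1 b).2
    omega
  have ho : o G ∉ S1 ∪ S2 := by simp [S1, S2, o2]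
  have le : ∀ F : IrrCharacter G → ℕ, ∑ χ ∈ S1, F χ + ∑ χ ∈ S2, F χ + F (o G) ≤ ∑ χ, F χ := fun F => by
    rw [← sum_union dj, add_comm, ← sum_insert ho]
    exact sum_le_sum_of_subset (subset_univ _)
  have eq : ∀ F : IrrCharacter G → ℤ, (∀ χ, m χ = 0 → F χ = 0) →
      ∑ χ ∈ S1, e χ * F χ + ∑ χ ∈ S2, e χ * F χ + F (o G) = ∑ χ, e χ * F χ := fun F hF => by
    rw [← sum_union dj, add_comm, ← one_mul (F _), ← o2, ← sum_insert (f := fun χ => e χ * F χ) ho]
    refine sum_subset (subset_univ _) fun χ _ h => ?_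
    simp only [S1, S2, mem_insert, mem_union, mem_filter, mem_erase, mem_univ] at h
    by_cases e0 : e χ = 0
    · rw [e0, zero_mul]
    · rw [hF χ (by by_contra; exact h (by by_cases χ = o G <;> simp [*])), mul_zero]
  have key2 := fun χ (h : e χ ≠ 0) (h' : m χ ≠ 0) (h1 : χ ≠ o G) => (key χ h).2 h' (fun a => by
    have a1 := sum_le_sum_of_subset (f := fun χ => if e χ = d χ then d χ * d χ else 0)
      (subset_univ {χ, o G})
    rw [sum_pair h1, if_pos a, o1, o2, if_pos Nat.cast_one.symm] at a1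
    have : d χ ≠ 0 := by omega
    nlinarith [Nat.pos_of_ne_zero this]) (k χ) (List.mem_range.2 (Nat.lt_succ_of_le (hk χ))) fun a => by
      have a1 := defz Nat.prime_two (hd χ) (fun b => by
        obtain ⟨c, a⟩ := a
        obtain ⟨c', a'⟩ := irr_degree_dvd_card χ.2 (hd χ)
        rw [a', Nat.mul_div_cancel_left _ (Nat.pos_of_mul_pos_right (a' ▸ Nat.card_pos))] at b
        obtain ⟨c'', rfl⟩ := Nat.dvd_of_mod_eq_zero b
        rw [hN, a] at a'
        have : 64 * (c * c'') = 15840 := by rw [a']; ring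
        omega) hr2.symm.dvd
      rw [hv] at a1
      have : (m χ : ℤ) - 2 * k χ = 0 := by exact_mod_cast a1
      omega
  have nn : ∀ (S : Finset (IrrCharacter G)) (F : IrrCharacter G → ℤ), (∀ χ ∈ S, 0 ≤ F χ) →
      ((∑ χ ∈ S, (F χ).toNat : ℕ) : ℤ) = ∑ χ ∈ S, F χ := fun S F hF => by
    push_cast
    exact sum_congr rfl fun χ hχ => Int.toNat_of_nonneg (hF χ hχ)
  have t1 := le fun χ => (e χ * e χ).toNat
  have t2 := le fun χ => d χ * d χ
  have t3 := le fun χ => if e χ = d χ then d χ * d χ else 0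
  have t4 := eq (fun χ => m χ) fun χ h => by simp [h]
  have t5 := eq (fun χ => m χ - 2 * k χ) fun χ h => by have := hk χ; omega
  have t6 := eq (fun χ => (m χ - 2 * k χ) * (m χ - 2 * k χ) * (1440 / d χ : ℕ)) fun χ h => by
    rw [show (m χ : ℤ) - 2 * k χ = 0 by have := hk χ; omega, zero_mul, zero_mul]
  have t7 := nn univ (fun χ => e χ * e χ) fun χ _ => mul_self_nonneg _
  have t8 := nn S2 (fun χ => e χ * m χ) fun χ h => by have := (mem_filter.1 h).2; positivity
  simp only [o3] at t5 t6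
  simp only [o1, o2, o4, s1, s3, s6, s7, ← sq (d _)] at t1 t2 t3 t4 t5 t6 t7
  obtain ⟨b1, u1⟩ := Nat.exists_eq_add_of_le (show _ ≤ 10 by omega : ∑ χ ∈ S1, (e χ * e χ).toNat +
    ∑ χ ∈ S2, (e χ * e χ).toNat ≤ 10)
  obtain ⟨b2, u2⟩ := Nat.exists_eq_add_of_le (show _ ≤ 15839 by omega : ∑ χ ∈ S1, d χ ^ 2 +
    ∑ χ ∈ S2, d χ ^ 2 ≤ 15839)
  obtain ⟨b3, u3⟩ := Nat.exists_eq_add_of_le (show _ ≤ 1 by simp only [sq, Nat.cast_one, if_true] at t3; omega :
    (∑ χ ∈ S2, if e χ = d χ then d χ * d χ else 0) ≤ 1)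
  have v2 := ps_sound k2 _ T2 (by decide) (0, b2, b3, b1) S2
    (∑ χ ∈ S1, e χ * m χ, 1 + ∑ χ ∈ S1, e χ * (m χ - 2 * k χ),
      1440 + ∑ χ ∈ S1, e χ * (m χ - 2 * k χ) * (m χ - 2 * k χ) * (1440 / d χ : ℕ))
    (fun χ h => by
      have a := mem_filter.1 h
      exact (key2 χ a.2.ne' (by have := hm χ; omega) (mem_erase.1 a.1).1).2 a.2) (by
      simp only [k2, Prod.fst_add, Prod.snd_add, Prod.fst_sum, Prod.snd_sum, Bool.and_eq_true,
        beq_iff_eq, List.any_eq_true, mul_assoc] at t6 ⊢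
      refine ⟨⟨trivial, by omega⟩, _, mem_D ((card_subgroup_dvd_card (centralizer {r})).trans
        (hN ▸ by norm_num)), ?_⟩
      rw [← t6]
      norm_num
      ring)
  have v1 := ps_sound (fun b v => ps k2 T2 ((9 - v.1).toNat, b.2.1, 1, b.1) v) _ T1 (by decide)
    (b1 + ∑ χ ∈ S2, (e χ * e χ).toNat, b2 + ∑ χ ∈ S2, d χ * d χ, 0, 0) S1 (0, 1, 1440)
    (fun χ h => by
      have a := (mem_filter.1 h).2
      exact (key2 χ a.1.ne a.2 fun b => by rw [b, o2] at a; omega).1 a.1) (by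
      rw [← v2]
      congr 1
      · simp only [Prod.ext_iff, Prod.fst_add, Prod.snd_add, Prod.fst_sum, Prod.snd_sum, true_and,
          and_true]
        omega
      · simp [Prod.ext_iff, Prod.fst_sum, Prod.snd_sum])
  rw [show _ + _ = (10, 15839, 0, 0) by
    simp only [Prod.ext_iff, Prod.fst_add, Prod.snd_add, Prod.fst_sum, Prod.snd_sum, ← sq (d _)]
    simp
    omega, srch10] at v1
  exact absurd v1 (by simp)

end Cfsg.Agent.H5.MT
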