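import Cfsg.Agent.H5.MtO
import Cfsg.Agent.H3.ClassSize2
import Cfsg.Agent.H7.SmallRec
import Cfsg.Agent.H9.FT.CF6
import Cfsg.Agent.H4.M11Nse

/-!
# Groups whose order divides that of `M₁₂`, XVII: the order and the degree graph of `M₁₂`
-/

set_option autoImplicit false
set_option linter.unusedSectionVars false

namespace Cfsg.Agent.H5.MT

open Cfsg Cfsg.Agent.H3 Subgroup Finset H4.Nse H4.M12R
open scoped Classical commutatorElement

variable {G : Type*} [Group G] [Finite G]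

theorem comm_central {a b y z : G} (hy : y ∈ center G) (hz : z ∈ center G) :
    ⁅a * y, b * z⁆ = ⁅a, b⁆ := by
  calc _ = a * (y * (b * z) * y⁻¹) * a⁻¹ * (b * z)⁻¹ := by rw [commutatorElement_def]; group
    _ = a * b * (z * a⁻¹ * z⁻¹) * b⁻¹ := by rw [← mem_center_iff.1 hy]; group
    _ = _ := by rw [← mem_center_iff.1 hz, commutatorElement_def]; group

theorem split {H : Type*} [Group H] [Finite H] (h : H4.M11R.Hyp H) (π : G →* H)
    (hs : Function.Surjective π) (hk : ∀ z, π z = 1 → z ∈ center G ∧ z ^ 12 = 1) {z : G}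
    (h1 : π z = 1) (h2 : z ∈ commutator G) : z = 1 := by
  have := Fact.mk Nat.prime_three
  obtain ⟨P⟩ : Nonempty (Sylow 3 H) := inferInstance
  obtain ⟨a, r, g, ha, hr, hrT, hra, hg, hg1, hT, e1, e2, -⟩ := h.exists_base P
  have haP := hT (h.T_spec ha).2.1
  have lift : ∀ s t, π s = π t → ∃ y ∈ center G, s = t * y := fun s t e =>
    ⟨t⁻¹ * s, (hk _ (by simp [e])).1, by group⟩
  obtain ⟨a, rfl⟩ := hs a
  obtain ⟨r, rfl⟩ := hs r
  obtain ⟨g, rfl⟩ := hs g
  have r2 := (sq_of_ord hr).1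
  have e3 : π r * π a * (π r)⁻¹ = π a ^ 3 := by rw [inv_eq_of_mul_eq_one_right r2, e2]
  have i4 := h.four_inverts ha P haP hg
  have z1 : z ^ 880 = 1 := by
    have b1 : π (a ^ 2 * g * (a ^ 2)⁻¹) ∈ (P : Subgroup H) := by
      simpa using (mem_normalizer_iff.1 (pow_mem haP 2) _).1 hg
    have b2 := h.conj_notMem ha (h.P_ord P hg hg1) (.inr rfl) fun _ => i4
    set k := a ^ 2 * g * (a ^ 2)⁻¹ with hk'
    have hw := mem_center_iff.1 (hk ⁅g, k⁆ (by
      rw [map_commutatorElement, commutatorElement_eq_one_iff_commute]; exact h.P_comm P hg b1)).1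
    obtain ⟨y, hy, c1⟩ := lift (r * g * r⁻¹) g (by simp [e1])
    obtain ⟨y', hy', c2⟩ := lift (r * k * r⁻¹) k⁻¹ (by
      simp only [hk', map_mul, map_inv, map_pow]
      calc _ = (π r * π a * (π r)⁻¹) ^ 2 * (π r * π g * (π r)⁻¹) * ((π r * π a * (π r)⁻¹) ^ 2)⁻¹ := by
            rw [conj_pow]; group
        _ = π a ^ 2 * (π a ^ 4 * π g * (π a ^ 4)⁻¹) * (π a ^ 2)⁻¹ := by rw [e3, e1]; group
        _ = _ := by rw [i4]; group)
    have c3 : ⁅g, k⁆ = ⁅g, k⁆⁻¹ := by
      calc _ = r * ⁅g, k⁆ * r⁻¹ := by rw [hw, mul_inv_cancel_right]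
        _ = (k⁻¹ * ⁅g, k⁆ * k)⁻¹ := by
          rw [conjugate_commutatorElement, c1, c2, comm_central hy hy']
          simp only [commutatorElement_def]
          group
        _ = _ := by rw [hw, inv_mul_cancel_right]
    have c4 : g * k * g⁻¹ = ⁅g, k⁆ * k := by rw [commutatorElement_def]; group
    have c5 := mem_center_iff.1 (hk (g ^ 3) (by rw [map_pow, ← h.P_ord P hg hg1, pow_orderOf_eq_one])).1
    have c6 : ∀ n : ℕ, g ^ n * k * (g ^ n)⁻¹ = ⁅g, k⁆ ^ n * k := fun n => by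
      induction n with
      | zero => simp
      | succ n ih =>
        calc _ = g ^ n * (g * k * g⁻¹) * (g ^ n)⁻¹ := by group
          _ = ⁅g, k⁆ * (g ^ n * k * (g ^ n)⁻¹) := by rw [c4, ← mul_assoc, hw]; group
          _ = _ := by rw [ih]; group
    have c7 : Commute g k := by
      have := c6 3
      rw [← c5, mul_inv_cancel_right, right_eq_mul, pow_succ, sq] at this
      nth_rewrite 1 [c3] at this
      rwa [inv_mul_cancel, one_mul, commutatorElement_eq_one_iff_commute] at this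
    have c8 : ∀ s ∈ P.1.comap π, ∃ i j : ℕ, ∃ y ∈ center G, s = g ^ i * k ^ j * y := fun s hs => by
      obtain ⟨i, -, j, -, e⟩ := h.mem_P_iff P hg b1 hg1 (by simpa [hk'] using b2) hs
      exact ⟨i, j, lift _ _ (by simpa using e)⟩
    have := pow_index_eq_one_of_comm (H := P.1.comap π) (fun s hs t ht => by
      obtain ⟨i, j, y, hy, rfl⟩ := c8 s hs
      obtain ⟨i', j', y', hy', rfl⟩ := c8 t ht
      rw [← commutatorElement_eq_one_iff_mul_comm, comm_central hy hy',
        commutatorElement_eq_one_iff_commute]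
      exact (((Commute.refl g).pow_pow _ _).mul_right (c7.pow_pow _ _)).mul_left
        ((c7.symm.pow_pow _ _).mul_right ((Commute.refl k).pow_pow _ _))) (hk z h1).1 h2
    have c9 := index_mul_card' P.1 h.card
    rw [h.P_card] at c9
    rwa [index_comap_of_surjective _ hs, show P.1.index = 880 by omega] at this
  have z2 : z ^ 495 = 1 := by
    have c8 : ∀ s ∈ (zpowers (π a)).comap π, ∃ i : ℕ, ∃ y ∈ center G, s = a ^ i * y := fun s hs => by
      obtain ⟨i, -, e⟩ := exists_pow ha hs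
      exact ⟨i, lift _ _ (by simpa using e)⟩
    have c9 := index_mul_card' (H4.M11R.T (π a)) h.card
    rw [(h.T_spec ha).1] at c9
    have b1 := pow_index_mem_commutator (H := (H4.M11R.T (π a)).comap π) (hk z h1).1 h2
    rw [index_comap_of_surjective _ hs, show (H4.M11R.T (π a)).index = 495 by omega] at b1
    obtain ⟨s, b2, b3⟩ := exists_eq_commutator_of_index_two (A := (zpowers (π a)).comap π)
      (fun s hs t ht => by
        obtain ⟨i, y, hy, rfl⟩ := c8 s hs
        obtain ⟨i', y', hy', rfl⟩ := c8 t ht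
        rw [← commutatorElement_eq_one_iff_mul_comm, comm_central hy hy',
          commutatorElement_eq_one_iff_commute]
        exact (Commute.refl a).pow_pow _ _) (comap_mono (h.zp_le ha)) (by
        change relIndex _ _ = 2
        rw [relIndex_comap, map_comap_eq_self_of_surjective hs, relIndex_eq (h.zp_le ha) (h.card_T ha)])
      (y := r) hrT hra b1
    obtain ⟨i, y, hy, rfl⟩ := c8 s b2
    obtain ⟨y', hy', c1⟩ := lift (r * a * r⁻¹) (a ^ 3) (by simpa using e3)
    have c2 : ∀ n : ℕ, r * a ^ n * r⁻¹ = a ^ (3 * n) * y' ^ n := fun n => by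
      rw [← conj_pow, c1, Commute.mul_pow (mem_center_iff.1 hy' _), pow_mul]
    have c3 : a ^ 8 * y' ^ 4 = 1 := by
      have d1 := mem_center_iff.1 (hk (r * r) (by rw [map_mul, r2])).1
      refine mul_left_cancel (a := a) ?_
      calc _ = (r * a ^ 3 * r⁻¹) * (r * y' * r⁻¹) := by
            rw [c2, mem_center_iff.1 hy' r]; group
        _ = r * (r * a * r⁻¹) * r⁻¹ := by rw [c1]; group
        _ = r * r * a * (r * r)⁻¹ := by group
        _ = _ := by rw [← d1]; group
    have c4 : z ^ 495 = ((a ^ 2 * y') ^ i)⁻¹ := by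
      rw [b3, ← commutatorElement_def, ← mul_one r, comm_central hy (one_mem _), ← commutatorElement_inv,
        commutatorElement_def, c2, Commute.mul_pow (mem_center_iff.1 hy' _), mul_assoc,
        ← mem_center_iff.1 (pow_mem hy' i)]
      group
    have c5 := congrArg π c4
    have c6 : π y' = 1 := by simpa [e3] using congrArg π c1
    rw [map_pow, h1, one_pow, map_inv, map_pow, map_mul, c6, mul_one, map_pow, ← pow_mul, eq_comm,
      inv_eq_one, pow_eq_one_iff' ha] at c5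
    obtain ⟨j, rfl⟩ : 4 ∣ i := by omega
    rw [c4, pow_mul, Commute.mul_pow (mem_center_iff.1 hy' _), ← pow_mul, c3, one_pow, inv_one]
  exact orderOf_eq_one_iff.1 (Nat.dvd_one.1 (Nat.dvd_gcd (orderOf_dvd_of_pow_eq_one (hk z h1).2)
    (Nat.dvd_gcd (orderOf_dvd_of_pow_eq_one z1) (orderOf_dvd_of_pow_eq_one z2))))

theorem cent_R {x : G} (hx : orderOf x = 11) {R : Subgroup G} [R.Normal] (h1 : ¬ 11 ∣ Nat.card R)
    (h2 : Nat.card R ∣ 95040) : R ≤ centralizer {x} := by
  have := Fact.mk (show Nat.Prime 11 by norm_num)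
  by_contra h
  obtain ⟨p, hp, h3⟩ := Nat.exists_prime_and_dvd (mt relIndex_eq_one.1 h)
  have := Fact.mk hp
  obtain ⟨Q, hQ⟩ := H3.exists_sylow_normalized (A := zpowers x) (K := R)
    (IsPGroup.of_card (n := 1) (by rw [Nat.card_zpowers, hx, pow_one])) (by simp [normalizer_eq_top]) h1 p
  obtain ⟨k, hk⟩ := Q.2.exists_card_eq
  have h5 := card_modEq_conj (by norm_num) (hx ▸ pow_orderOf_eq_one x) (K := Q.1.map R.subtype)
    fun y hy => (mem_set_normalizer_iff.mp (hQ (mem_zpowers x)) y).mp hy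
  have h6 : Nat.card (Q.1.map R.subtype) = p ^ k := by
    rw [card_map_of_injective R.subtype_injective, hk]
  obtain ⟨j, hj, h7⟩ := (Nat.dvd_prime_pow hp).1
    (h6 ▸ card_dvd_of_le (inf_le_left (b := centralizer {x})))
  rw [h6, h7] at h5
  have h8 := hk ▸ Q.1.card_subgroup_dvd_card
  have h9 : k ≤ j := by
    by_contra h9
    have a1 := (dvd_pow_self p (by omega)).trans h8
    have a2 : p ∈ Nat.primeFactors 95040 := Nat.mem_primeFactors.2 ⟨hp, a1.trans h2, by norm_num⟩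
    rw [show Nat.primeFactors 95040 = {2, 3, 5, 11} by decide +kernel] at a2
    have key : ∀ p ∈ ({2, 3, 5, 11} : Finset ℕ), p ≠ 11 → ¬ p ^ 7 ∣ 95040 ∧ ∀ k < 7, ∀ j < k,
      p ^ k ∣ 95040 → p ^ k % 11 ≠ p ^ j % 11 := by decide +kernel
    obtain ⟨a3, a4⟩ := key p a2 fun e => h1 (e ▸ a1)
    exact a4 k (not_le.1 fun e => a3 ((pow_dvd_pow p e).trans (h8.trans h2))) j (not_le.1 h9)
      (h8.trans h2) h5
  refine Q.not_dvd_index (h3.trans (index_dvd_of_le fun y hy => ?_))
  exact ((eq_of_le_of_card_ge (inf_le_left (a := Q.1.map R.subtype) (b := centralizer {x})) (by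
    rw [h6, h7]; exact Nat.pow_le_pow_right hp.pos h9)).ge ⟨y, hy, rfl⟩).2

theorem res_norm (θ : IrrCharacter G) (R : Subgroup G) [Fintype R] : ∃ n : ℕ, n ≠ 0 ∧ n ≤ R.index ∧
    classInner (fun r : R => θ.1 r) (fun r : R => θ.1 r) = n := by
  have := Fintype.ofFinite G
  obtain ⟨n, hn⟩ := classInner_char_nat (isCharacter_res R (ch θ)) (isCharacter_res R (ch θ))
  refine ⟨n, fun e => irr_one_ne_zero θ.2 (congrFun (eq_zero_of_classInner_self
    (hn.trans (by simp [e]))) 1), ?_, hn⟩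
  have h1 := sum_normSq_eq fun r : R => θ.1 r
  have h2 := sum_normSq_eq θ.1
  rw [classInner_irr_self θ.2, Complex.one_re, mul_one, ← R.card_mul_index] at h2
  rw [hn, Complex.natCast_re, ← sum_subtype (univ.filter (· ∈ R)) (by simp) fun g => ‖θ.1 g‖ ^ 2] at h1
  have h3 := sum_le_sum_of_subset_of_nonneg (f := fun g => ‖θ.1 g‖ ^ 2)
    (subset_univ (univ.filter (· ∈ R))) fun _ _ _ => by positivity
  rw [h1, h2] at h3
  exact Nat.le_of_mul_le_mul_left (by exact_mod_cast h3) (Nat.card_pos (α := R))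

theorem sq_dvd {θ : IrrCharacter G} {R : Subgroup G} [Fintype R] {x : G} {p d n : ℕ} (hp : p.Prime)
    (hx : orderOf x = p) (hR : R ≤ centralizer {x}) (h1 : ¬ p ∣ Nat.card R)
    (h2 : ¬ p ^ 2 ∣ Nat.card G) (hd : θ.1 1 = d) (h3 : p ∣ d)
    (hn : classInner (fun r : R => θ.1 r) (fun r : R => θ.1 r) = n) : p ^ 2 ∣ n := by
  obtain ⟨ψ, h4, h5⟩ := G22.exists_avg' (isCharacter_res (centralizer {x}) (ch θ)) hx
    (mem_centralizer_singleton_iff.2 rfl) fun g hg => mem_normalizer_zpowers.1 (cent_le_norm x hg)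
  have h6 := isCharacter_comp (inclusion hR) h4
  obtain ⟨a, ha⟩ := classInner_char_nat h6 h6
  have h7 : (fun r : R => θ.1 r) = (p : ℂ) • fun r => ψ (inclusion hR r) := funext fun r => by
    rw [Pi.smul_apply, smul_eq_mul, h5, sum_eq_single_of_mem 0 (mem_range.2 hp.pos), pow_zero, one_mul,
      coe_inclusion]
    refine fun i hi i0 => irr_eq_zero_of_defect_zero hp θ.2 hd (fun k hk e => h2 (by
      rw [hk, sq]; exact Nat.mul_dvd_mul h3 e)) ?_
    have a1 : orderOf (x ^ i) = p := (Nat.Coprime.orderOf_pow (hx ▸ Nat.coprime_of_lt_prime i0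
      (mem_range.1 hi) hp)).trans hx
    rw [coe_inclusion, Commute.orderOf_mul_eq_mul_orderOf_of_coprime
      (Commute.pow_left (mem_centralizer_singleton_iff.1 (hR r.2)).symm i)
      (a1 ▸ (hp.coprime_iff_not_dvd.2 h1).coprime_dvd_right (orderOf_dvd_natCard _ r.2)), a1]
    exact Dvd.intro _ rfl
  rw [h7, classInner_smul_left, classInner_smul_right, ha, map_natCast] at hn
  exact ⟨a, by rw [sq, mul_assoc]; exact_mod_cast hn.symm⟩

open H9.FT in
theorem step {K T : Subgroup G} (h : H7.NormalIn K T) (hK : ⁅T, T⁆ ≤ K) {χ : G → ℂ} (hχ : χ ∈ irr T) :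
    ∃ θ ∈ irr K, ∃ e c, deg χ = e * ((inertia T θ).relIndex T * deg θ) ∧
      c * e ^ 2 = K.relIndex (inertia T θ) := by
  obtain ⟨θ, hθ, h1⟩ := exists_irr_under h.1 (irr_Ch hχ) (irr_ne_zero hχ)
  obtain ⟨e, -, h2, -, h3⟩ := ind_eq_smul_sum_over h hK hθ
  refine ⟨θ, hθ, e, _, deg_eq_of ?_, h3⟩
  rw [apply_one_eq_of_over h hχ hθ h1, h2 χ (mem_over.2 ⟨hχ, h1⟩), deg_eq (irr_Ch hθ)]
  push_cast
  rfl

open H9.FT in
theorem dvd_deg {Q L : Subgroup G} [Q.Normal] [L.Normal] (hQ : Nat.card Q = 3) (hL : L.index = 12)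
    (hc : Q ≤ centralizer L) (hd : Disjoint Q L) {d : ℕ} (h : d ∈ charDegrees G) (h33 : 33 ∣ d) :
    ∃ d ∈ charDegrees L, 33 ∣ d := by
  have := Fact.mk Nat.prime_two
  have := Fact.mk Nat.prime_three
  obtain ⟨χ, hχ, e⟩ := H6.mem_charDegrees.1 h
  have h1 : L.relIndex (Q ⊔ L) = 3 := by
    rw [relIndex_sup_right, ← inf_relIndex_right, hd.symm.eq_bot, relIndex_bot_left, hQ]
  have h2 : (Q ⊔ L).index = 2 ^ 2 := by
    have := relIndex_mul_index (le_sup_right : L ≤ Q ⊔ L)
    rw [h1, hL] at this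
    omega
  obtain ⟨θ, hθ, a, b, a1, a2⟩ := step (K := Q ⊔ L) ⟨le_top, (normalizer_eq_top _).ge⟩
    (Normal.quotient_commutative_iff_commutator_le.1
      (IsPGroup.isMulCommutative_of_card_eq_prime_sq h2)) (Ree.irr_top.2 hχ)
  obtain ⟨ψ, hψ, a', b', a3, a4⟩ := step (K := L) ⟨le_sup_right, le_top.trans (normalizer_eq_top _).ge⟩
    (commutator_le.2 fun s hs t ht => by
      obtain ⟨q, hq, l, hl, rfl⟩ := mem_sup_of_normal_right.1 hs
      obtain ⟨q', hq', l', hl', rfl⟩ := mem_sup_of_normal_right.1 ht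
      have c1 : Commute q q' := congrArg Subtype.val
        ((isCyclic_of_prime_card hQ).commGroup.mul_comm (⟨q, hq⟩ : Q) ⟨q', hq'⟩)
      rw [← QuotientGroup.eq_one_iff, ← QuotientGroup.mk'_apply, map_commutatorElement, map_mul, map_mul,
        show QuotientGroup.mk' L l = 1 from (QuotientGroup.eq_one_iff l).2 hl,
        show QuotientGroup.mk' L l' = 1 from (QuotientGroup.eq_one_iff l').2 hl', mul_one, mul_one,
        commutatorElement_eq_one_iff_commute]
      exact c1.map _) hθ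
  have a5 : inertia (Q ⊔ L) ψ = Q ⊔ L := (inertia_le _ _).antisymm (sup_le (fun q hq =>
    ⟨mem_sup_left hq, cj_of_centralizes (CF_supp (irr_CF hψ)) (hc hq)⟩)
    (le_inertia le_sup_right (irr_CF hψ)))
  rw [a5, h1] at a4
  rw [a5, relIndex_self, one_mul, show a' = 1 by
    have := Nat.le_of_dvd (by norm_num) ((dvd_pow_self a' two_ne_zero).trans (Dvd.intro_left _ a4))
    interval_cases a' <;> omega, one_mul] at a3
  have a6 := relIndex_mul_relIndex _ _ _ (le_inertia le_top (irr_CF hθ)) (inertia_le ⊤ θ)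
  rw [← a2, relIndex_top_right (H := Q ⊔ L), h2] at a6
  rw [deg_eq_of e, a3, ← mul_assoc] at a1
  refine ⟨deg ψ, H6.mem_charDegrees.2 ⟨_, (mem_irr.1 hψ).2, deg_eq (irr_Ch hψ)⟩,
    Nat.Coprime.dvd_of_dvd_mul_left (Nat.Coprime.coprime_dvd_right (m := 2 ^ 2) ⟨b * a, ?_⟩
      (by norm_num)) (a1 ▸ h33)⟩
  rw [← a6]
  ring

theorem final (hN : Nat.card G = 95040) (h55 : ∃ d ∈ charDegrees G, 55 ∣ d)
    (h33 : ∃ d ∈ charDegrees G, 33 ∣ d) :
    Nonempty (G ≃* Spor.M12) ∨ Nonempty (G ≃* alternatingGroup (Fin 4) × Spor.M11) := by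
  have := Fact.mk (show Nat.Prime 11 by norm_num)
  obtain ⟨x, hx⟩ := exists_prime_orderOf_dvd_card' (G := G) 11 (by rw [hN]; norm_num)
  obtain ⟨R, ⟨hR, h1⟩, hm⟩ := Set.exists_max_image {R : Subgroup G | R.Normal ∧ ¬ 11 ∣ Nat.card R}
    (fun R => Nat.card R) (Set.toFinite _) ⟨⊥, inferInstance, by simp⟩
  have h2 := cent_R hx h1 ((card_subgroup_dvd_card R).trans hN.dvd)
  have h3 : x ∈ centralizer (R : Set G) := fun r hr => mem_centralizer_singleton_iff.1 (h2 hr)
  obtain ⟨d, hd, hd'⟩ := h55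
  obtain ⟨θ, hθ, hd⟩ := H6.mem_charDegrees.1 hd
  have := Fintype.ofFinite R
  obtain ⟨n, n0, n1, hn⟩ := res_norm ⟨θ, hθ⟩ R
  have h4 := sq_dvd (by norm_num) hx h2 h1 (by rw [hN]; norm_num) hd (Dvd.dvd.trans (by norm_num) hd') hn
  set π := QuotientGroup.mk' R
  have hs : Function.Surjective π := QuotientGroup.mk'_surjective R
  have hk : ∀ g, π g = 1 ↔ g ∈ R := QuotientGroup.eq_one_iff
  have hi := index_mul_card' R hN
  have h : Red (π x) := ⟨Dvd.intro _ hi, orderOf_eq_prime (by rw [← map_pow, ← hx, pow_orderOf_eq_one,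
    map_one]) fun e => h1 (hx ▸ orderOf_dvd_natCard _ ((hk x).1 e)), fun N hN' e => by
      refine mem_of_coprime_index (K := N.comap π) ?_
      rw [hx, Nat.Prime.coprime_iff_not_dvd (by norm_num)]
      intro a
      have a1 := index_mul_card' (N.comap π) hN
      by_cases a2 : 11 ∣ Nat.card (N.comap π)
      · have := a1 ▸ Nat.mul_dvd_mul a a2
        omega
      refine e (eq_bot_iff.2 fun g hg => ?_)
      obtain ⟨g, rfl⟩ := hs g
      exact (hk g).2 ((eq_of_le_of_card_ge (fun r hr => by simp [(hk r).2 hr])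
        (hm _ ⟨inferInstance, a2⟩)).ge hg), lt_of_lt_of_le (by norm_num)
      ((Nat.le_of_dvd (Nat.pos_of_ne_zero n0) h4).trans n1)⟩
  obtain ⟨y, hy, hy'⟩ := exists_mem_orderOf Nat.prime_five ((h.five ((normalClosure {x}).map π)
    (Normal.map inferInstance _ hs) ⟨x, subset_normalClosure rfl, rfl⟩).trans (card_map_dvd _ _))
  have h5 := sq_dvd Nat.prime_five hy' (fun r hr => mem_centralizer_singleton_iff.2
    (normalClosure_le_normal (Set.singleton_subset_iff.2 h3) hy r hr)) (fun e => by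
      have := hi ▸ Nat.mul_dvd_mul ((h.five ⊤ inferInstance trivial).trans card_top.dvd :
        5 ∣ R.index) e
      omega) (by rw [hN]; norm_num) hd (Dvd.dvd.trans (by norm_num) hd') hn
  obtain ⟨hE, h6 | h6⟩ := h.main (lt_of_lt_of_le (by norm_num) ((Nat.le_of_dvd (Nat.pos_of_ne_zero n0)
    (Nat.Coprime.mul_dvd_of_dvd_of_dvd (by norm_num) h4 h5)).trans n1))
  swap
  · obtain ⟨ψ⟩ := hE.iso12 h6
    exact .inl ⟨(MulEquiv.ofBijective π (hs.bijective_of_nat_card_le (by omega))).trans ψ⟩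
  obtain ⟨hH, no33⟩ := hE.hyp11 h6
  have := hE.simple
  have h7 : Nat.card R = 12 := by rw [show R.index = 7920 from h6] at hi; omega
  set C := centralizer (R : Set G)
  have h8 : C.map π = ⊤ := (Normal.map inferInstance _ hs).eq_bot_or_eq_top.resolve_left fun e =>
    hE.ne_one (mem_bot.1 (e ▸ mem_map_of_mem π h3))
  have h9 : ⁅C, C⁆.map π = ⊤ := by
    rw [map_commutator, h8]
    exact (inferInstance : (commutator _).Normal).eq_bot_or_eq_top.resolve_left fun e =>
      hE.nc ((commutator_eq_bot_iff _).1 e)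
  have h10 : Disjoint R ⁅C, C⁆ := disjoint_def.2 fun {z} a1 a2 => by
    rw [← map_subtype_commutator] at a2
    obtain ⟨z, a2, rfl⟩ := a2
    refine congrArg Subtype.val (split hH (π.comp C.subtype) (fun g => ?_) (fun w hw => ⟨mem_center_iff.2
      fun c => Subtype.ext (c.2 w ((hk _).1 hw)).symm, Subtype.ext ?_⟩) ((hk _).2 a1) a2)
    · obtain ⟨c, hc, e⟩ := h8.ge (mem_top g)
      exact ⟨⟨c, hc⟩, e⟩
    · exact orderOf_dvd_iff_pow_eq_one.1 ((orderOf_dvd_natCard _ ((hk _).1 hw)).trans h7.dvd)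
  set L := ⁅C, C⁆
  have hLC : L ≤ C := commutator_le_left _ _
  let φ : L ≃* G ⧸ R := MulEquiv.ofBijective (π.comp L.subtype) ⟨(injective_iff_map_eq_one _).2
    fun l hl => Subtype.ext (disjoint_def.1 h10 ((hk _).1 hl) l.2), fun g => by
      obtain ⟨c, hc, e⟩ := h9.ge (mem_top g)
      exact ⟨⟨c, hc⟩, e⟩⟩
  have h11 : Nat.card L = 7920 := (Nat.card_congr φ.toEquiv).trans h6
  obtain ⟨Q, hQ, e | ⟨-, ⟨α⟩⟩⟩ := twelve h7
  · have a1 := index_mul_card' Q h7
    have a2 := index_mul_card' L hN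
    rw [e] at a1
    rw [h11] at a2
    have : (Q.map R.subtype).Normal := normalizer_eq_top_iff.1 (top_le_iff.1 ((normalizer_eq_top _).ge.trans
      (norm_le (by rw [e, show Q.index = 4 by omega]; norm_num))))
    obtain ⟨d, a3, a4⟩ := h33
    obtain ⟨d, a3, a4⟩ := dvd_deg ((card_map_of_injective R.subtype_injective).trans e) (L := L)
      (by omega) (fun q hq l hl => (hLC hl q (map_subtype_le _ hq)).symm)
      (h10.mono_left (map_subtype_le _)) a3 a4
    exact absurd a4 (no33 d (H6.charDegrees_subset φ.symm.toMonoidHom φ.symm.surjective a3))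
  obtain ⟨β⟩ := hH.nonempty_mulEquiv H4.M11R.hyp_M11
  obtain ⟨γ⟩ := H7.nonempty_mulEquiv_prod (X := ⊤) (M := R) (Z := L) (fun r hr l hl => hLC hl r hr)
    (by rw [← QuotientGroup.ker_mk' R, sup_comm, ← comap_map_eq, h9, comap_top])
    (by rw [h7, h11, card_top, hN])
  exact .inr ⟨topEquiv.symm.trans (γ.trans (α.prodCongr (φ.trans β)))⟩

end Cfsg.Agent.H5.MT
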