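import Cfsg.Agent.H5.MtE

/-!
# Groups whose order divides that of `M₁₂`, VI: searches
-/

set_option autoImplicit false
set_option linter.unusedSectionVars false

namespace Cfsg.Agent.H5.MT

open Cfsg Cfsg.Agent.H3 Subgroup Finset
open Cfsg.Agent.H9.FT (radI radI_mul radI_mul' dvd_of_mem_radI)
open scoped ComplexConjugate Classical

/-- The degrees in `M₁₂`. -/
def P12 : ℕ × ℕ × ℕ × ℕ × ℕ := (16, 45, 54, 120, 144)

/-- The degrees compatible with a central involution. -/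
def P11 : List (ℕ × ℕ × ℕ × ℕ × ℕ) :=
  [(5, 10, 10, 12, 12), (5, 12, 32, 120, 144), (5, 32, 45, 45, 54), (5, 10, 10, 120, 144),
  (16, 45, 54, 120, 144), (16, 10, 10, 10, 45), (27, 10, 45, 45, 54), (60, 10, 12, 12, 45),
  (60, 10, 45, 120, 144), (72, 10, 12, 45, 120), (160, 32, 45, 54, 120)]

/-- The values on involutions. -/
def T12 : List (ℕ × ℤ × ℤ × ℤ × ℤ × ℤ) :=
  [(120, -4, 5, 6, 0, -4), (120, 4, 5, 6, 0, 4), (192, 0, -3, 6, -8, 0), (240, -4, 5, 6, 0, -4),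
  (240, 4, 5, 6, 0, 4), (1440, -8, -15, 18, 0, 24)]

theorem S1 : ∀ P ∈ PATS, ∀ C ∈ H4.M12R.D, C % 2 = 0 → C % 11 ≠ 0 →
    srch5 1 (95040 / C) C (fun d a => ((d : ℤ) - a) % 4 == 0) (tv P) (fun a =>
      Zf 8640 (tv P) 1 1 a a != 0 || ((C % 64 != 0 || P11.contains P) &&
      (C % 10 != 0 || P == (6, 12, 32, 32, 45) || P == P12) &&
      (P != P12 || T12.contains (C, a 0, a 1, a 2, a 3, a 4)))) = true := by
  decide +kernel

theorem S2 : ∀ P ∈ P11, ∀ C ∈ [45, 135],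
    srch5 4 (95040 / C) C (okT 5 (95040 / C) 95040) (tv P) (fun a =>
      !zok (Zf 8640 (tv P) 4 4 a a) (C * C) ||
      [(5, 12, 32, 120, 144), (16, 10, 10, 10, 45), P12].contains P) = true := by
  decide +kernel

theorem S3 : ∀ P ∈ [(5, 12, 32, 120, 144), (16, 10, 10, 10, 45)], ∀ C ∈ H4.M12R.D, C % 45 = 0 →
    C % 11 ≠ 0 → srch5 2 (95040 / C) C (okT 3 (95040 / C) 95040) (tv P) (fun a =>
      !zok (Zf 8640 (tv P) 2 2 a a) (C * C)) = true := by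
  decide +kernel

/-- The conditions on a rational value. -/
def okR (p N : ℕ) (d : ℕ) (a : ℤ) : Bool := (a - d) % p == 0 && (N / d % p == 0 || a == 0)

theorem S4 : ∀ C ∈ H4.M12R.D, C % 5 = 0 → C % 11 ≠ 0 →
    srch5 1 (95040 / C) C (okR 5 95040) (tv P12) (fun a =>
      !zok (Zf 8640 (tv P12) 1 1 a a) (C * C) || C == 5 || C == 180 || ((C == 10 || C == 20) &&
      (a 0, a 1, a 2, a 3, a 4) == (1, 0, -1, 0, -1))) = true := by
  decide +kernel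

theorem S6 : ∀ C ∈ H4.M12R.D, C % 3 = 0 → C % 5 ≠ 0 → C % 11 ≠ 0 →
    srch5 1 (95040 / C) C (okR 3 95040) (tv P12) (fun a =>
      !zok (Zf 8640 (tv P12) 1 1 a a) (C * C) ||
      !zok (Zf 8640 (tv P12) 1 1 a ![0, -3, 6, -8, 0]) (C * 192) ||
      (a 0, a 1, a 2, a 3, a 4) == (1, 0, 0, 0, 0) ||
      ((a 0, a 1, a 2, a 3, a 4) == (-2, 0, 0, 3, 0) && (C == 18 || C == 27 || C == 54)) ||
      ((a 0, a 1, a 2, a 3, a 4) == (1, 3, 0, 0, -3) && C == 36)) = true := by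
  decide +kernel

theorem S7 : ∀ P ∈ PATS, 720 % P.1 = 0 → 720 % P.2.1 = 0 → 720 % P.2.2.1 = 0 → 720 % P.2.2.2.1 = 0 →
    720 % P.2.2.2.2 = 0 → P.2.2.2.2 ≤ 88 → ∀ C ∈ H4.M12R.D, C % 2 = 0 → 720 % C = 0 →
    srch5 1 (7920 / C) C (fun d a => ((d : ℤ) - a) % 4 == 0) (tv P) (fun a =>
      Zf 720 (tv P) 1 1 a a != 0 || (P == (5, 10, 10, 12, 12) && C % 5 != 0) ||
      (P == (16, 10, 10, 10, 45) && C % 5 != 0 && [(0, -2, -2, 2, -3), (0, -2, 2, -2, -3),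
        (0, 2, -2, -2, -3)].contains (a 0, a 1, a 2, a 3, a 4))) = true := by
  decide +kernel

end Cfsg.Agent.H5.MT
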