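import Cfsg.Agent.H5.MwS
import Cfsg.Agent.H5.MtB
import Cfsg.Agent.H2.D1Non2

/-! The intersection of two principal blocks of prime defect. -/

set_option autoImplicit false

namespace Cfsg.Agent.H5.MW

open Cfsg Cfsg.Agent.H3 Cfsg.Agent.H2.D1 Finset Subgroup
open scoped ComplexConjugate

variable {G : Type*} [Group G] [Finite G] {p r : ℕ} [hp : Fact p.Prime] [hr : Fact r.Prime]
  {x y : G}

open Classical in
/-- Stanton's relation. -/
theorem inter (h : Ctx p x) (h' : Ctx r y) (hpr : p ≠ r) (hK : ¬ r ∣ Nat.card h.K) (u : ZMod p)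
    (v : ZMod r) : ∑ χ ∈ B0 p G ∩ B0 r G, h.co u χ * h'.co v χ = 0 := by
  have := Fintype.ofFinite G
  have h1 : classInner (∑ χ ∈ B0 p G, (h.co u χ : ℂ) • (χ : G → ℂ))
      (∑ χ ∈ B0 r G, (h'.co v χ : ℂ) • (χ : G → ℂ)) = 0 := by
    rw [classInner, sum_eq_zero fun g _ => ?_, mul_zero]
    simp only [Finset.sum_apply, Pi.smul_apply, smul_eq_mul]
    by_cases e : IsPReg p g
    · rw [h.beta_reg u e, zero_mul]
    rw [h'.beta_reg v (g := g) ?_, map_zero, mul_zero]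
    by_contra e'
    have e1 : p ∣ orderOf g := by_contra fun e1 => e ((hp.out.coprime_iff_not_dvd.2 e1).symm)
    have e2 : r ∣ orderOf g := by_contra fun e1 => e' ((hr.out.coprime_iff_not_dvd.2 e1).symm)
    have e3 : orderOf (g ^ (orderOf g / r)) = r := orderOf_pow_orderOf_div (orderOf_pos g).ne' e2
    refine hK (e3 ▸ h.dvd_K ?_ (e1.trans (orderOf_dvd_natCard _
      (mem_centralizer_singleton_iff.2 (Commute.self_pow g _).eq))))
    rw [IsPReg, e3]
    exact (Nat.coprime_primes hr.out hp.out).2 hpr.symm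
  simp only [classInner_sum_left, classInner_sum_right, classInner_smul_left,
    classInner_smul_right, classInner_irr, map_intCast, mul_ite, mul_one, mul_zero, sum_ite_eq'] at h1
  refine Int.cast_injective (α := ℂ) ?_
  push_cast
  rw [← h1, ← sum_filter]
  exact sum_congr (by ext; simp [and_comm]) fun _ _ => mul_comm _ _

theorem hlo [NS G] (h : Ctx p x) {χ : IrrCharacter G} (hχ : χ ∈ B0 p G) (h1 : χ ≠ triv)
    (j : ZMod p) : (bif Nat.card h.K == 1 then 0 else 2) ≤ h.mu χ j := by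
  by_cases e : Nat.card h.K = 1
  · simp [e]
  rw [beq_eq_false_iff_ne.2 e, cond_false]
  obtain ⟨a, ha, a1⟩ := h.K.bot_or_exists_ne_one.resolve_left fun e' => e (by simp [e'])
  refine two_le_mult hom_triv (irr_isCharacter χ.2) hp.out h.ord (h.mem_K.1 ha).2 (h.mem_K.1 ha).1
    (fun i i0 i1 k => h.const hχ (pow_mem (mem_zpowers x) i) (pow_ne_one_of_lt_orderOf i0.ne'
      (h.ord ▸ i1)) (pow_mem ha k)) (fun e => a1 (faithful h1 e)) (ψ_pow j) ?_
  rw [← h.mu_spec, ← H2.D1.sum_val fun k => (χ : G → ℂ) (x ^ k) * (ψ j)⁻¹ ^ k]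
  simp only [ψ_neg_mul]

open Classical in
/-- A unit outside `H`, if there is one. -/
noncomputable def gen (h : Ctx p x) : (ZMod p)ˣ := if e : ∃ u, u ∉ h.H then e.choose else 1

omit [Finite G] in
theorem gen_not_mem (h : Ctx p x) (hH : h.H ≠ ⊤) : gen h ∉ h.H := by
  have e : ∃ u, u ∉ h.H := by
    by_contra! e
    exact hH (eq_top_iff.2 fun u _ => e u)
  rw [gen, dif_pos e]
  exact e.choose_spec

open Classical in
theorem sum_co_sq (h : Ctx p x) (u : (ZMod p)ˣ) :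
    ∑ χ ∈ (B0 p G).erase triv, h.co u χ ^ 2 = Nat.card h.H := by
  have := h.gram u u
  rw [← add_sum_erase _ _ one_mem_B0, h.co_one, if_pos (by simp)] at this
  simp only [sq]
  linarith

theorem sum_sub_sq (h : Ctx p x) (u v : (ZMod p)ˣ) :
    ∑ χ ∈ B0 p G, (h.co u χ - h.co v χ) ^ 2 ≤ 2 := by
  classical
  have h1 := h.gram u u
  have h2 := h.gram v v
  have h3 := h.gram u v
  rw [if_pos (by simp)] at h1 h2
  have : ∑ χ ∈ B0 p G, (h.co u χ - h.co v χ) ^ 2 = ∑ χ ∈ B0 p G, h.co u χ * h.co u χ +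
      ∑ χ ∈ B0 p G, h.co v χ * h.co v χ - 2 * ∑ χ ∈ B0 p G, h.co u χ * h.co v χ := by
    rw [mul_sum, ← sum_add_distrib, ← sum_sub_distrib]
    exact sum_congr rfl fun _ _ => by ring
  rw [this, h1, h2, h3]
  split_ifs <;> omega

theorem sum_co_dg (h : Ctx p x) (u : ZMod p) : ∑ χ ∈ B0 p G, h.co u χ * dg χ = 0 := by
  have := h.beta_reg u (IsPReg.one p)
  simp only [dg_eq] at this
  exact_mod_cast this

theorem typ_sound [NS G] (h : Ctx p x) {lo M : ℕ}
    (hl : lo ≤ bif Nat.card h.K == 1 then 0 else 2) (hM : (centralizer {x}).index ∣ M)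
    {χ : IrrCharacter G} (hχ : χ ∈ B0 p G) (h1 : χ ≠ triv) :
    typ p (Nat.card h.H) lo M (dg χ) (h.co (1 : (ZMod p)ˣ) χ) (h.co (gen h) χ) = true := by
  classical
  have hlo' : ∀ χ ∈ B0 p G, χ ≠ triv → ∀ j, lo ≤ h.mu χ j := fun χ a b j => hl.trans (hlo h a b j)
  have A : (∀ u : (ZMod p)ˣ, h.co u χ = h.co (1 : (ZMod p)ˣ) χ) →
      typ p (Nat.card h.H) lo M (dg χ) (h.co (1 : (ZMod p)ˣ) χ) (h.co (gen h) χ) = true := by
    intro ha
    obtain ⟨-, m, h2, h3, h4⟩ := h.opt_of hlo' hχ h1 ha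
    have hv := h.val_const ha (mem_zpowers x) h.ne_one
    have h5 := MT.dvd_of_central χ {()} (fun _ => x) (fun _ _ => rfl) (dg_eq χ)
      (a := -h.co (1 : (ZMod p)ˣ) χ) (by simpa using hv)
    have h6 := norm_char_le (irr_isCharacter χ.2) x
    have h7 : ‖(χ : G → ℂ) x‖ ≠ ‖(χ : G → ℂ) 1‖ := fun e => h.ne_one (norm_lt h1 e)
    rw [hv, dg_eq, norm_neg, Complex.norm_intCast, ← Int.cast_abs] at h6 h7
    have h8 : (h.co (1 : (ZMod p)ˣ) χ).natAbs < dg χ := by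
      zify
      exact lt_of_le_of_ne (by exact_mod_cast h6) fun e => h7 (by
        rw [Complex.norm_natCast]; exact_mod_cast e)
    have h9 : dg χ ∣ M * (h.co (1 : (ZMod p)ˣ) χ).natAbs := by
      refine Dvd.dvd.trans ?_ (Nat.mul_dvd_mul_right hM _)
      have := Int.natAbs_dvd_natAbs.2 h5
      simpa [Int.natAbs_mul] using this
    simp only [typ, ha (gen h), beq_self_eq_true, Bool.true_and, okm_sound h2 h3 h4 h4,
      Nat.mod_eq_zero_of_dvd h9, h8, decide_true, Bool.true_or]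
  by_cases hH : h.H = ⊤
  · exact A fun u => h.co_mul χ (hH ▸ mem_top _)
  obtain ⟨ε, b, θ, hε, hθ, hB, -, hc, ha⟩ := h.exists_exc hH
  by_cases e : ∀ τ, θ τ ≠ χ
  · exact A (ha χ hχ e)
  push Not at e
  obtain ⟨τ, rfl⟩ := e
  have ht : Fintype.card ((ZMod p)ˣ ⧸ h.H) = h.H.index := by
    rw [index_eq_card, Nat.card_eq_fintype_card]
  have t2 : 2 ≤ h.H.index := by
    have := h.H.index_ne_zero_of_finite
    have := index_eq_one.not.2 hH
    omega
  have tp := h.card_H_mul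
  have e0 := Nat.card_pos (α := h.H)
  have t1 : (p - 1) / Nat.card h.H = h.H.index := by
    rw [show p - 1 = Nat.card h.H * h.H.index by omega, Nat.mul_div_cancel_left _ e0]
  have s1 : ∑ u : (ZMod p)ˣ, h.co u (θ τ) = Nat.card h.H * (ε + h.H.index * b) := by
    simp only [hc, sum_add_distrib, sum_const, card_univ, ZMod.card_units, nsmul_eq_mul,
      ← sum_filter]
    have : #{u : (ZMod p)ˣ | (u : (ZMod p)ˣ ⧸ h.H) = τ} = Nat.card h.H := by
      have := Nat.card_congr ((QuotientGroup.mk' h.H).fiberEquivKerOfSurjective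
        (QuotientGroup.mk'_surjective _) τ)
      rw [QuotientGroup.ker_mk'] at this
      rw [← this, Nat.card_eq_fintype_card, Fintype.card_subtype]
      congr 1
      ext u
      simp
    rw [this, show p - 1 = Nat.card h.H * h.H.index by omega]
    push_cast
    ring
  have k1 : exc p (Nat.card h.H) lo M (dg (θ τ)) h.H.index b ε = true := by
    have d1 : (dg (θ τ) : ℤ) = p * h.mu (θ τ) 0 + Nat.card h.H * (ε + h.H.index * b) := by
      have := h.deg_eq (θ τ)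
      rw [dg_eq, ← Int.cast_sum, s1] at this
      exact_mod_cast this
    have l1 : ∀ u : (ZMod p)ˣ, (lo : ℤ) ≤ h.mu (θ τ) 0 + h.co u (θ τ) := fun u => by
      rw [Ctx.co, add_sub_cancel]
      exact_mod_cast hlo' _ hχ h1 _
    obtain ⟨σ, hσ⟩ := Fintype.exists_ne_of_one_lt_card (by omega) τ
    have l2 := l1 σ.out
    have l3 := l1 τ.out
    rw [hc, QuotientGroup.out_eq'] at l2 l3
    rw [if_neg hσ, add_zero] at l2
    rw [if_pos rfl] at l3
    have q1 : (b + ε) ^ 2 + (h.H.index - 1) * b ^ 2 ≤ (Nat.card h.H : ℤ) := by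
      rw [← sum_co_sq h 1]
      refine le_trans (le_of_eq ?_) (sum_le_sum_of_subset_of_nonneg (s := univ.image θ)
        (fun χ hχ => ?_) fun _ _ _ => sq_nonneg _)
      · rw [sum_image fun _ _ _ _ e => hθ e, ← add_sum_erase _ _ (mem_univ 1), hc,
          QuotientGroup.mk_one, if_pos rfl, sum_congr rfl fun σ hσ => by
            rw [hc, QuotientGroup.mk_one, if_neg (mem_erase.1 hσ).1.symm, add_zero],
          sum_const, card_erase_of_mem (mem_univ _), card_univ, ht, nsmul_eq_mul,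
          Nat.cast_pred (by omega)]
      · obtain ⟨σ, -, rfl⟩ := mem_image.1 hχ
        exact mem_erase.2 (hB σ).symm
    have q2 := MT.dvd_of_central (θ τ) univ (fun u : (ZMod p)ˣ => x ^ (u : ZMod p).val)
      (fun u _ => by rw [h.cent_eq (pow_mem (mem_zpowers x) _) (h.pw_ne u)]) (dg_eq _)
      (a := -(Nat.card h.H * (ε + h.H.index * b))) (by
        have := congrArg conj (h.sig_eq (θ τ))
        rw [← Int.cast_sum, s1] at this
        simpa using this)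
    have q3 : dg (θ τ) ∣ M * Nat.card h.H * (ε + h.H.index * b).natAbs := by
      rw [mul_assoc]
      refine Dvd.dvd.trans ?_ (Nat.mul_dvd_mul_right hM _)
      have := Int.natAbs_dvd_natAbs.2 q2
      simpa [Int.natAbs_mul] using this
    simp only [exc, okm_sound d1 (by exact_mod_cast hlo' _ hχ h1 0) l2 l3, q1, decide_true,
      Nat.mod_eq_zero_of_dvd q3, beq_self_eq_true, Bool.and_self]
  have g1 : ((gen h : (ZMod p)ˣ) : (ZMod p)ˣ ⧸ h.H) ≠ 1 := fun e =>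
    gen_not_mem h hH ((QuotientGroup.eq_one_iff _).1 e)
  have ε0 : ε ≠ 0 := by omega
  simp only [typ, t1, t2, decide_true, Bool.true_and, hc, QuotientGroup.mk_one, Bool.or_eq_true]
  right
  by_cases c1 : 1 = τ
  · rw [if_pos c1, if_neg (c1 ▸ g1), add_zero, beq_eq_false_iff_ne.2 (by omega), cond_false,
      add_sub_cancel_left, k1, Bool.or_true]
  by_cases c2 : ((gen h : (ZMod p)ˣ) : (ZMod p)ˣ ⧸ h.H) = τ
  · rw [if_neg c1, if_pos c2, add_zero, beq_eq_false_iff_ne.2 (by omega), cond_false,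
      add_sub_cancel_left, k1, Bool.true_or]
  have t3 : 2 < h.H.index := by
    rw [← ht, ← card_univ]
    exact two_lt_card_iff.2 ⟨1, _, τ, mem_univ _, mem_univ _, mem_univ _, g1.symm, c1, c2⟩
  rw [if_neg c1, if_neg c2, add_zero, beq_self_eq_true, cond_true, decide_eq_true t3, Bool.true_and]
  rcases hε with rfl | rfl
  · rw [k1, Bool.true_or]
  · rw [k1, Bool.or_true]

/-- The data of a character lying in both blocks. -/
noncomputable def it (h : Ctx p x) (h' : Ctx r y) (χ : IrrCharacter G) : It :=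
  (dg χ, h.co (1 : (ZMod p)ˣ) χ, h.co (gen h) χ, h'.co (1 : (ZMod r)ˣ) χ, h'.co (gen h') χ)

open Classical in
/-- The characters that count. -/
noncomputable def II (h : Ctx p x) (h' : Ctx r y) : Finset (IrrCharacter G) :=
  {χ ∈ (B0 p G ∩ B0 r G).erase triv | (h.co (1 : (ZMod p)ˣ) χ ≠ 0 ∨ h.co (gen h) χ ≠ 0) ∧
    (h'.co (1 : (ZMod r)ˣ) χ ≠ 0 ∨ h'.co (gen h') χ ≠ 0)}

theorem mem_II {h : Ctx p x} {h' : Ctx r y} {χ : IrrCharacter G} : χ ∈ II h h' ↔
    (χ ≠ triv ∧ χ ∈ B0 p G ∧ χ ∈ B0 r G) ∧ (h.co (1 : (ZMod p)ˣ) χ ≠ 0 ∨ h.co (gen h) χ ≠ 0) ∧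
    (h'.co (1 : (ZMod r)ˣ) χ ≠ 0 ∨ h'.co (gen h') χ ≠ 0) := by
  simp only [II, mem_filter, mem_erase, mem_inter]

theorem sq_le (h : Ctx p x) {I : Finset (IrrCharacter G)} (hI : ∀ χ ∈ I, χ ≠ triv ∧ χ ∈ B0 p G)
    (u : (ZMod p)ˣ) : ∑ χ ∈ I, h.co u χ ^ 2 ≤ Nat.card h.H := by
  classical
  rw [← sum_co_sq h u]
  exact sum_le_sum_of_subset_of_nonneg (fun χ hχ => mem_erase.2 (hI χ hχ)) fun _ _ _ => sq_nonneg _

theorem sub_le (h : Ctx p x) {I : Finset (IrrCharacter G)} (hI : ∀ χ ∈ I, χ ∈ B0 p G)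
    (u v : (ZMod p)ˣ) : ∑ χ ∈ I, (h.co u χ - h.co v χ) ^ 2 ≤ 2 :=
  (sum_le_sum_of_subset_of_nonneg hI fun _ _ _ => sq_nonneg _).trans (sum_sub_sq h u v)

theorem sub_eq (h : Ctx p x) {I : Finset (IrrCharacter G)} (hI : ∀ χ ∈ I, χ ∈ B0 p G)
    (u v : (ZMod p)ˣ) : ∑ χ ∈ I, (h.co u χ - h.co v χ) ^ 2 < 2 ∨
      ∑ χ ∈ I, (h.co u χ - h.co v χ) * dg χ = 0 := by
  classical
  refine or_iff_not_imp_left.2 fun e => ?_
  have h1 := sum_sub_sq h u v
  rw [← sum_sdiff hI] at h1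
  have h2 : ∑ χ ∈ B0 p G \ I, (h.co u χ - h.co v χ) ^ 2 = 0 :=
    le_antisymm (by omega) (sum_nonneg fun _ _ => sq_nonneg _)
  rw [sum_eq_zero_iff_of_nonneg fun _ _ => sq_nonneg _] at h2
  rw [sum_subset hI fun χ h3 h4 => by
    rw [pow_eq_zero_iff two_ne_zero |>.1 (h2 χ (mem_sdiff.2 ⟨h3, h4⟩)), zero_mul]]
  simp only [sub_mul, sum_sub_distrib, sum_co_dg, sub_zero]

theorem inter' (h : Ctx p x) (h' : Ctx r y) (hpr : p ≠ r) (hK : ¬ r ∣ Nat.card h.K)
    {u : (ZMod p)ˣ} (hu : u = 1 ∨ u = gen h) {v : (ZMod r)ˣ} (hv : v = 1 ∨ v = gen h') :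
    ∑ χ ∈ II h h', h.co u χ * h'.co v χ = -1 := by
  classical
  have := inter h h' hpr hK u v
  rw [← add_sum_erase _ _ (mem_inter.2 ⟨one_mem_B0, one_mem_B0⟩), h.co_one, h'.co_one] at this
  rw [II, sum_filter_of_ne fun χ _ e => ?_]
  · convert (show _ = -1 by linarith)
  · rw [mul_ne_zero_iff] at e
    rcases hu with rfl | rfl <;> rcases hv with rfl | rfl
    exacts [⟨.inl e.1, .inl e.2⟩, ⟨.inl e.1, .inr e.2⟩, ⟨.inr e.1, .inl e.2⟩, ⟨.inr e.1, .inr e.2⟩]

theorem srch_sound [NS G] (h : Ctx p x) (h' : Ctx r y) (hpr : p ≠ r) (hK : ¬ r ∣ Nat.card h.K)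
    {n e e' lo lo' M M' : ℕ} (hn : n ∣ 244823040) (hG : Nat.card G ∣ n) (he : Nat.card h.H = e)
    (he' : Nat.card h'.H = e') (hl : lo ≤ bif Nat.card h.K == 1 then 0 else 2)
    (hl' : lo' ≤ bif Nat.card h'.K == 1 then 0 else 2) (hM : (centralizer {x}).index ∣ M)
    (hM' : (centralizer {y}).index ∣ M') {flt : It → Bool} {ex : List It → Bool}
    (hf : ∀ χ ∈ II h h', flt (it h h' χ) = true)
    (hx : ∀ l : List _, l.Perm ((II h h').toList.map (it h h')) → ex l = true) :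
    srch (side p e lo M (dg' n)) e r e' lo' M' flt ex = true := by
  subst he he'
  have hs : ∀ f : It → ℤ, sm f ((II h h').toList.map (it h h')) = ∑ χ ∈ II h h', f (it h h' χ) :=
    fun f => by rw [sm, List.map_map, sum_map_toList]; rfl
  have a1 := fun χ (hχ : χ ∈ II h h') => (mem_II.1 hχ).1.2.1
  have a2 := fun χ (hχ : χ ∈ II h h') => (mem_II.1 hχ).1.2.2
  have a3 := fun χ (hχ : χ ∈ II h h') => (mem_II.1 hχ).1.1
  refine ms_sound _ _ ((II h h').toList.map (it h h')) [] (fun a ha => ?_)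
    (fun l hl => ok_mono hl ?_) fun l hl => ?_
  · obtain ⟨χ, hχ, rfl⟩ := List.mem_map.1 ha
    rw [mem_toList] at hχ
    have b1 := sq_le h (I := {χ}) (by simpa using ⟨a3 χ hχ, a1 χ hχ⟩) 1
    have b2 := sq_le h' (I := {χ}) (by simpa using ⟨a3 χ hχ, a2 χ hχ⟩) 1
    have b3 := sub_le h (I := {χ}) (by simpa using a1 χ hχ) 1 (gen h)
    have b4 := sub_le h' (I := {χ}) (by simpa using a2 χ hχ) 1 (gen h')
    rw [sum_singleton] at b1 b2 b3 b4
    simp only [items, side, List.mem_flatMap, List.mem_map, List.mem_filter, Bool.and_eq_true]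
    refine ⟨(dg χ, h.co (1 : (ZMod p)ˣ) χ, h.co (gen h) χ), ⟨dg χ, mem_dg' hn ((dg_dvd χ).trans hG)
      (two_le_deg (a3 χ hχ) (dg_eq χ)) ?_, _, ⟨mem_prs b1 b3 (mem_II.1 hχ).2.1,
      typ_sound h hl hM (a1 χ hχ) (a3 χ hχ)⟩, rfl⟩, _, ⟨mem_prs b2 b4 (mem_II.1 hχ).2.2,
      typ_sound h' hl' hM' (a2 χ hχ) (a3 χ hχ), hf χ hχ⟩, rfl⟩
    rw [← sq]
    exact (dg_sq_le χ).trans (Nat.le_of_dvd (Nat.pos_of_dvd_of_pos hn (by norm_num)) hG)
  · simp only [ok, List.append_nil, hs, Bool.and_eq_true, decide_eq_true_eq]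
    exact ⟨sq_le h (fun χ hχ => ⟨a3 χ hχ, a1 χ hχ⟩) _, sq_le h (fun χ hχ => ⟨a3 χ hχ, a1 χ hχ⟩) _,
      sub_le h a1 _ _, sq_le h' (fun χ hχ => ⟨a3 χ hχ, a2 χ hχ⟩) _,
      sq_le h' (fun χ hχ => ⟨a3 χ hχ, a2 χ hχ⟩) _, sub_le h' a2 _ _⟩
  · rw [List.append_nil] at hl
    refine fin_perm hl ?_ (hx l hl)
    simp only [fin, hs, Bool.and_eq_true, Bool.or_eq_true, decide_eq_true_eq, beq_iff_eq]
    exact ⟨inter' h h' hpr hK (Or.inl rfl) (Or.inl rfl), inter' h h' hpr hK (Or.inl rfl) (Or.inr rfl),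
      inter' h h' hpr hK (Or.inr rfl) (Or.inl rfl), inter' h h' hpr hK (Or.inr rfl) (Or.inr rfl),
      sub_eq h a1 _ _, sub_eq h' a2 _ _, trivial⟩

end Cfsg.Agent.H5.MW
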