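import Cfsg.Agent.H5.MwA
import Cfsg.Agent.H2.D1Util

/-! Eigenvalue multiplicities of elements centralizing a Sylow subgroup of prime order. -/

set_option autoImplicit false

namespace Cfsg.Agent.H5.MW

open Cfsg Cfsg.Agent.H3 Cfsg.Agent.H2.D1 Finset Subgroup
open scoped ComplexConjugate

variable {G : Type*} [Group G] [Finite G] {p r : ℕ} [hp : Fact p.Prime] [hr : Fact r.Prime]
  {x y : G}

open Classical in
theorem count_eq {n : ℕ} (hn : 0 < n) {s : Multiset ℂ} (hs : ∀ z ∈ s, z ^ n = 1) {w : ℂ}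
    (hw : w ^ n = 1) : ∑ k ∈ range n, (s.map (· ^ k)).sum * w⁻¹ ^ k = n * s.count w := by
  have := sum_psum_mul hn s id (fun _ => 1) hs hw
  simp only [id, mul_one] at this
  rw [this, Multiset.count_eq_card_filter_eq]
  simp

open Classical in
theorem dvd_cnt (h : Ctx p x) {χ : IrrCharacter G} (hχ : χ ∈ B0 p G) {a : G} (ha : a ∈ h.K)
    {s : Multiset ℂ} (hs1 : ∀ z ∈ s, z ^ orderOf a = 1)
    (hs2 : ∀ k : ℕ, (χ : G → ℂ) (a ^ k) = (s.map (· ^ k)).sum) {w : ℂ} (hw : w ≠ 1) :
    p ∣ s.count w := by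
  have hc := (h.mem_K.1 ha).1
  obtain ⟨ψ, h1, h2⟩ := G22.exists_avg' (χ := (χ : G → ℂ)) (K := centralizer {x})
    (isCharacter_res _ (irr_isCharacter χ.2)) h.ord (mem_centralizer_singleton_iff.2 rfl) fun g hg => by
      rw [mem_centralizer_singleton_iff.1 hg, mul_inv_cancel_right]
      exact mem_zpowers x
  let a' : centralizer ({x} : Set G) := ⟨a, mem_centralizer_singleton_iff.2 hc.eq.symm⟩
  obtain ⟨F, -, f1, f2⟩ := char_eigenvalues h1 a'
  have key : ∀ k : ℕ, p * ψ (a' ^ k) = χ.1 (a ^ k) - χ.1 1 + p * ψ 1 := fun k => by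
    rw [h2, h2, show ((a' ^ k : centralizer ({x} : Set G)) : G) = a ^ k from rfl]
    obtain ⟨q, hq⟩ : ∃ q, p = q + 1 := ⟨p - 1, by have := hp.out.pos; omega⟩
    have e : range p = range (q + 1) := by rw [hq]
    rw [e, sum_range_succ', sum_range_succ', sum_congr rfl fun i hi => h.const hχ
      (pow_mem (mem_zpowers x) (i + 1)) (pow_ne_one_of_lt_orderOf i.succ_ne_zero
        (by rw [h.ord, hq]; simpa using hi)) (pow_mem ha k)]
    simp
    ring
  have e0 := f2 0
  have e1 := hs2 0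
  simp only [pow_zero, Multiset.map_const', Multiset.sum_replicate, nsmul_eq_mul, mul_one] at e0 e1
  have h3 : s + Multiset.replicate (p * F.card) 1 = p • F + Multiset.replicate s.card 1 := by
    refine multiset_eq_of_psum (orderOf_pos a) (fun z hz => ?_) (fun z hz => ?_) fun k => ?_
    · rcases Multiset.mem_add.1 hz with hz | hz
      · exact hs1 z hz
      · rw [Multiset.eq_of_mem_replicate hz, one_pow]
    · rcases Multiset.mem_add.1 hz with hz | hz
      · exact orderOf_coe a' ▸ f1 z (Multiset.mem_of_mem_nsmul hz)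
      · rw [Multiset.eq_of_mem_replicate hz, one_pow]
    · simp only [Multiset.map_add, Multiset.sum_add, ← hs2, Multiset.map_replicate,
        Multiset.sum_replicate, nsmul_eq_mul, one_pow, mul_one, Multiset.map_nsmul,
        Multiset.sum_nsmul, ← f2, key, e0, e1]
      push_cast
      ring
  have := congrArg (Multiset.count w) h3
  simp only [Multiset.count_add, Multiset.count_replicate, if_neg hw.symm, add_zero,
    Multiset.count_nsmul] at this
  exact ⟨_, this⟩

theorem card_eq_dg {χ : IrrCharacter G} {a : G} {s : Multiset ℂ}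
    (hs2 : ∀ k : ℕ, (χ : G → ℂ) (a ^ k) = (s.map (· ^ k)).sum) : s.card = dg χ := by
  have e1 := hs2 0
  simp only [pow_zero, Multiset.map_const', Multiset.sum_replicate, nsmul_eq_mul, mul_one,
    dg_eq] at e1
  exact_mod_cast e1.symm

theorem low [NS G] (h : Ctx p x) (h' : Ctx r y) (hpr : p ≠ r) {χ : IrrCharacter G}
    (hχ : χ ∈ B0 p G) (hχ' : χ ∈ B0 r G) (h1 : χ ≠ triv) {a : G} (ha : a ∈ h.K) (ha' : a ∈ h'.K)
    (a1 : a ≠ 1) : 2 * (p * r) ≤ dg χ := by
  classical
  obtain ⟨f, hf⟩ := exists_det_eig (irr_isCharacter χ.2)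
  obtain ⟨s, s1, s2, s3⟩ := hf a
  have hd : ∀ w, w ≠ 1 → p * r ∣ s.count w := fun w hw =>
    ((Nat.coprime_primes hp.out hr.out).2 hpr).mul_dvd_of_dvd_of_dvd (dvd_cnt h hχ ha s1 s2 hw)
      (dvd_cnt h' hχ' ha' s1 s2 hw)
  obtain ⟨w, w1, w2⟩ : ∃ w ∈ s, w ≠ 1 := by
    by_contra! e
    refine a1 (faithful h1 ?_)
    have := s2 1
    rw [pow_one, Multiset.eq_replicate_card.2 e, card_eq_dg s2] at this
    simpa [dg_eq] using this
  by_contra! lt
  rw [← card_eq_dg s2] at lt
  have c1 := Nat.le_of_dvd (Multiset.count_pos.2 w1) (hd w w2)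
  have c2 : s.count w = p * r := by
    obtain ⟨k, hk⟩ := hd w w2
    have := Multiset.count_le_card w s
    rw [hk] at this c1 ⊢
    have k1 : k < 2 := by by_contra! e; nlinarith
    have k2 : k ≠ 0 := by rintro rfl; have := Nat.mul_pos hp.out.pos hr.out.pos; omega
    rw [show k = 1 by omega, mul_one]
  have c3 : ∀ z ∈ s.filter (w ≠ ·), z = 1 := fun z hz => by
    by_contra e
    obtain ⟨z1, z2⟩ := Multiset.mem_filter.1 hz
    have c4 := Nat.le_of_dvd (Multiset.count_pos.2 z1) (hd z e)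
    have c5 := Multiset.count_le_card z (s.filter (w ≠ ·))
    rw [Multiset.count_filter_of_pos z2] at c5
    have c6 := congrArg Multiset.card (Multiset.filter_add_not (w = ·) s)
    rw [Multiset.card_add, ← Multiset.count_eq_card_filter_eq] at c6
    simp only [ne_eq] at c5
    omega
  rw [hom_triv f, ← Multiset.filter_add_not (w = ·) s, Multiset.prod_add, Multiset.filter_eq, c2,
    Multiset.prod_replicate, Multiset.prod_eq_one c3, mul_one] at s3
  have := pow_gcd_eq_one.2 ⟨s1 w w1, s3.symm⟩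
  rw [Nat.Coprime.mul_right (h.mem_K.1 ha).2 (h'.mem_K.1 ha').2, pow_one] at this
  exact w2 this

theorem four_p [NS G] (h : Ctx p x) {χ : IrrCharacter G} (hχ : χ ∈ B0 p G) {t : G} (ht : t * t = 1)
    (hK : t ∈ h.K) {v : ℤ} (hv : (χ : G → ℂ) t = v) : (4 * p : ℤ) ∣ dg χ - v := by
  classical
  obtain ⟨s, -, s1, s2⟩ := char_eigenvalues (irr_isCharacter χ.2) t
  obtain ⟨k, hk⟩ := dvd_cnt h hχ hK s1 s2 (w := -1) (by norm_num)
  have h1 := count_eq (n := 2) (by norm_num) (s := s) (fun z hz => by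
    obtain ⟨m, hm⟩ := orderOf_dvd_of_pow_eq_one (n := 2) ((sq t).trans ht)
    rw [hm, pow_mul, s1 z hz, one_pow]) (w := -1) (by norm_num)
  simp only [← s2] at h1
  rw [sum_range_succ, sum_range_one, pow_zero, pow_one, dg_eq, hv, hk] at h1
  have h2 : (dg χ : ℤ) - v = 2 * (p * k) := by
    have : ((dg χ : ℤ) - v : ℂ) = 2 * (p * k) := by push_cast at h1 ⊢; linear_combination h1
    exact_mod_cast this
  obtain ⟨a, b, hab⟩ := NS.nc (G := G)
  have h3 := MT.four_dvd (G := G) (fun e => hab (e.is_comm.comm a b)) (irr_isCharacter χ.2) ht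
    (dg_eq χ) hv
  rw [h2] at h3 ⊢
  obtain ⟨q, hq⟩ := hp.out.odd_of_ne_two h.odd
  obtain ⟨m, hm⟩ : (2 : ℤ) ∣ k := by
    rw [hq] at h3
    push_cast at h3
    have : (2 : ℤ) * ((2 * q + 1) * k) = 4 * (q * k) + 2 * k := by ring
    omega
  exact ⟨m, by rw [hm]; ring⟩

theorem rat7 [NS G] (h : Ctx p x) {χ : IrrCharacter G} (hχ : χ ∈ B0 p G) (h1 : χ ≠ triv) {a : G}
    (ha : a ∈ h.K) (a7 : orderOf a = 7)
    (hk : ∀ k, 0 < k → k < 7 → (χ : G → ℂ) (a ^ k) = (χ : G → ℂ) a) : 6 * p ≤ dg χ := by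
  classical
  obtain ⟨s, -, s1, s2⟩ := char_eigenvalues (irr_isCharacter χ.2) a
  have hw := Complex.isPrimitiveRoot_exp 7 (by norm_num)
  generalize Complex.exp _ = w at hw
  have c1 := dvd_cnt h hχ ha s1 s2 (hw.ne_one (by norm_num))
  rw [a7] at s1
  have e1 := count_eq (by norm_num) s1 hw.pow_eq_one
  have e2 := count_eq (by norm_num) s1 (one_pow 7)
  have e3 := hw.inv.geom_sum_eq_zero (by norm_num)
  simp only [← s2] at e1 e2
  rw [sum_range_succ', sum_congr rfl fun k hk' => by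
    rw [hk (k + 1) k.succ_pos (by have := mem_range.1 hk'; omega)]] at e1 e2
  rw [sum_range_succ'] at e3
  simp only [← mul_sum, pow_zero, mul_one, inv_one, one_pow, sum_const, card_range, dg_eq] at e1 e2 e3
  have e4 : dg χ = s.count 1 + 6 * s.count w := by
    have : (dg χ : ℂ) = s.count 1 + 6 * s.count w := by
      simp only [nsmul_eq_mul] at e2
      push_cast at e1 e2
      linear_combination (6 / 7) * e1 + (1 / 7) * e2 - (6 / 7) * χ.1 a * e3
    exact_mod_cast this
  have e5 : s.count w ≠ 0 := fun e => by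
    have : a = 1 := faithful h1 (by
      rw [e] at e1
      rw [dg_eq]
      push_cast at e1
      linear_combination χ.1 a * e3 - e1)
    simp [this] at a7
  have := Nat.le_of_dvd (Nat.pos_of_ne_zero e5) c1
  omega

theorem abs_le_mu (h : Ctx p x) (χ : IrrCharacter G) {t : G} (ht : t * x * t⁻¹ = x⁻¹) {v : ℤ}
    (hv : (χ : G → ℂ) t = v) : |v| ≤ h.mu χ 0 := by
  have := Fintype.ofFinite (zpowers x)
  have p0 : (p : ℂ) ≠ 0 := by exact_mod_cast hp.out.ne_zero
  have hN : t ∈ normalizer (zpowers x : Set G) := by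
    refine mem_normalizer_fintype ?_
    rintro _ ⟨k, rfl⟩
    exact ⟨-k, by simp only [← conj_zpow, ht, inv_zpow, zpow_neg]⟩
  obtain ⟨ψ, h1, h2⟩ := G22.exists_avg' (χ := (χ : G → ℂ)) (K := normalizer (zpowers x : Set G))
    (isCharacter_res _ (irr_isCharacter χ.2)) h.ord (le_normalizer (mem_zpowers x)) fun g hg =>
      (mem_normalizer_iff.1 hg x).1 (mem_zpowers x)
  have e1 : ψ 1 = h.mu χ 0 := mul_left_cancel₀ p0 (by
    rw [h2, ← h.mu_spec, ← H2.D1.sum_val fun k => (χ : G → ℂ) (x ^ k * (1 : normalizer (zpowers x : Set G)))]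
    simp)
  have e2 : ψ ⟨t, hN⟩ = v := mul_left_cancel₀ p0 (by
    rw [h2, ← hv, ← h.card_zp, ← sum_fpf (char_isClassFunction (irr_isCharacter χ.2)) hN
      fun a ha c => ?_, sum_zpowers fun g => (χ : G → ℂ) (g * t), h.card_zp, h.ord]
    by_contra e
    have := ((h.comm_iff ha e).1 c).eq
    rw [← this, mul_inv_cancel_right, eq_inv_iff_mul_eq_one, ← sq, ← orderOf_dvd_iff_pow_eq_one,
      h.ord] at ht
    exact h.odd ((Nat.prime_dvd_prime_iff_eq hp.out Nat.prime_two).1 ht))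
  have := norm_char_le h1 ⟨t, hN⟩
  rw [e1, e2, Complex.norm_intCast, ← Int.cast_abs] at this
  exact_mod_cast this

end Cfsg.Agent.H5.MW
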