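import Cfsg.Agent.H5.MwS

/-! The kernel checks for simple sections of groups of the order of a Mathieu group. -/

set_option autoImplicit false

namespace Cfsg.Agent.H5.MW

open Cfsg.Agent.H2.D1

/-! ### The checks for `p = 23` -/

theorem chk23a : (dv 10644480).all (fun N => N % 23 != 1 || (N == 1 ||
    ((N == 990 || !e2b 244823040 23 N 0) && !e2b 244823040 23 N 2))) = true := by
  decide +kernel

theorem chk23b : (dv 967680).all (fun N => N % 23 != 1 || (N == 1 || (N == 967680 ||
    [11, 22].all fun e => (fun S => [2, 5, 10].all fun e' =>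
      !srch S e 11 e' 2 (23 * N) (fun i => decide (506 ≤ i.1)) fun _ => true)
      (side 23 e 2 (N * e) (dg' 244823040))))) = true := by
  decide +kernel

def f44 (five : Bool) (i : It) : Bool :=
  (irange ((i.1 - 22 * i.2.1) / 23).toNat).any fun v => (i.1 - v) % 44 == 0 &&
    (!five || (i.1 % 5 != 0 || v % 5 == 0))

def c23 (N e : ℕ) : Bool := (fun S => (dv (23 * N * e / 11)).any fun N' => N' % 11 == 1 &&
  [2, 5, 10].any fun e' => 23 * N * e % (11 * N' * e') == 0 && (fun c' : ℕ => c' % 23 != 0 &&
    ((e == 11 || c' % 2 == 0) && ((e' != 2 || e2 244823040 11 N' c') &&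
      srch S e 11 e' (bif c' == 1 then 0 else 2) (N' * e')
        (fun i => e == 11 || f44 (e' % 5 == 0 && c' % 16 != 0) i)
        (fun l => c' % 7 != 0 || ex7 66 l)))) (23 * N * e / (11 * N' * e')))
  (side 23 e 0 (N * e) (dg' 244823040))

theorem chk23c : (dv 967680).all (fun N => N % 23 != 1 || (N == 1 || (N == 967680 ||
    ((N == 24 || (N == 13824 || (N == 40320 || !c23 N 11))) && !c23 N 22)))) = true := by
  decide +kernel

/-! ### The checks for `p = 11` -/

theorem chk11a : (dv 40320).all (fun N => N % 11 != 1 || (N == 1 ||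
    ((N == 210 || !e2b 443520 11 N 0) && !e2b 443520 11 N 2))) = true := by
  decide +kernel

theorem chk11b : [12, 56, 672].all (fun N => [5, 10].all fun e => (fun S => [2, 4].all fun e' =>
      !srch S e 5 e' 2 (11 * N) (fun i => decide (110 ≤ i.1)) fun _ => true)
      (side 11 e 2 (N * e) (dg' 443520))) = true := by
  decide +kernel

theorem chk11b' : [(12, 5), (12, 10), (56, 5)].all (fun a : ℕ × ℕ => (fun S => [2, 4].all fun e' =>
      !srch S a.2 5 e' 0 88704 (fun _ => true) fun _ => true)
      (side 11 a.2 2 (a.1 * a.2) (dg' 443520))) = true := by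
  decide +kernel

def c11 (N e : ℕ) : Bool := (fun S => (dv (11 * N * e / 7)).any fun N' => N' % 7 == 1 &&
  [2, 3, 6].any fun e' => 11 * N * e % (7 * N' * e') == 0 && (fun c' : ℕ => c' % 11 != 0 &&
    ((e' != 2 || e2b 443520 7 N' (bif c' == 1 then 0 else 2)) &&
      srch S e 7 e' (bif c' == 1 then 0 else 2) (N' * e') (fun _ => true) fun _ => true))
      (11 * N * e / (7 * N' * e')))
  (side 11 e 0 (N * e) (dg' 443520))

theorem chk11c : (!c11 56 10 && (!c11 672 5 && !c11 672 10)) = true := by
  decide +kernel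

end Cfsg.Agent.H5.MW
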