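import Cfsg.Agent.H5.MwB
import Cfsg.Agent.H5.MwC

/-! Elements of prime order normalizing a Sylow subgroup of prime order; filters. -/

set_option autoImplicit false

namespace Cfsg.Agent.H5.MW

open Cfsg Cfsg.Agent.H3 Cfsg.Agent.H2.D1 Finset Subgroup
open scoped ComplexConjugate

variable {G : Type*} [Group G] [Finite G] {p r : ℕ} [hp : Fact p.Prime] [hr : Fact r.Prime]
  {x y : G}

theorem not_dvd_K (h : Ctx p x) (he : r ∣ Nat.card h.H) (hn : ¬ r ^ 2 ∣ Nat.card G) :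
    ¬ r ∣ Nat.card h.K := fun e => hn (by
  rw [← h.card_eq, sq]
  exact Nat.mul_dvd_mul (he.mul_left _) e)

omit [Finite G] in
theorem comm_of_norm {n y : G} (hn : n ∈ normalizer (zpowers x : Set G))
    (hy : y ∈ normalizer (zpowers x : Set G)) : Commute x (n * y * n⁻¹ * y⁻¹) := by
  obtain ⟨i, hi⟩ := (mem_normalizer_iff.1 hn x).1 (mem_zpowers x)
  obtain ⟨j, hj⟩ := (mem_normalizer_iff.1 hy x).1 (mem_zpowers x)
  obtain ⟨k, hk⟩ := (mem_normalizer_iff.1 (inv_mem (mul_mem hy hn)) x).1 (mem_zpowers x)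
  simp only at hi hj hk
  have e1 : n * y * x * (n * y)⁻¹ = y * n * x * (y * n)⁻¹ := by
    have a : n * y * x * (n * y)⁻¹ = n * (y * x * y⁻¹) * n⁻¹ := by group
    have b : y * n * x * (y * n)⁻¹ = y * (n * x * n⁻¹) * y⁻¹ := by group
    rw [a, b, ← hi, ← hj, ← conj_zpow, ← conj_zpow, ← hi, ← hj, ← zpow_mul, ← zpow_mul, mul_comm i]
  have e2 := congrArg (· ^ k) e1
  simp only [conj_zpow, hk] at e2
  have e3 : n * y * n⁻¹ * y⁻¹ * x * (n * y * n⁻¹ * y⁻¹)⁻¹ = x := by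
    calc _ = n * y * ((y * n)⁻¹ * x * (y * n)⁻¹⁻¹) * (n * y)⁻¹ := by group
      _ = x := by rw [e2]; group
  exact (mul_inv_eq_iff_eq_mul.1 e3).symm

theorem cent_K (h : Ctx p x) (hr2 : r ≠ 2) (he : r ∣ Nat.card h.H) (hn : ¬ r ^ 2 ∣ Nat.card G)
    (hj : ∀ d, IsPrimePow d → d ∣ Nat.card h.K → d % r ≠ 1) :
    ∃ y, ∃ h' : Ctx r y, h.K ≤ h'.K ∧ Nat.card h.H * Nat.card h.K ∣ r * Nat.card h'.K := by
  classical
  have rc := not_dvd_K h he hn
  have pr : r.Coprime p := by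
    have : (Nat.card h.H).Coprime (Nat.card h.H * h.H.index + 1) :=
      (Nat.coprime_mul_left_add_right _ _ _).2 (Nat.coprime_one_right _)
    rw [h.card_H_mul] at this
    exact this.coprime_dvd_left he
  set N := normalizer (zpowers x : Set G) with hN
  have cN : Nat.card N = Nat.card h.H * (p * Nat.card h.K) := by rw [h.card_N, h.card_C]
  obtain ⟨y, hy⟩ := exists_prime_orderOf_dvd_card' (G := N) r (cN ▸ he.mul_right _)
  have c1 : Ctx r y := ⟨hr2, hy, fun e => hn (e.trans (card_subgroup_dvd_card N))⟩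
  have c2 : Ctx r (y : G) := ⟨hr2, by rw [orderOf_coe, hy], hn⟩
  have KN : h.K ≤ N := fun k hk => mem_normalizer_fintype (by
    rintro _ ⟨i, rfl⟩
    exact ⟨i, by simp only [← ((h.mem_K.1 hk).1.zpow_left i).eq, mul_inv_cancel_right]⟩)
  have : (h.K.subgroupOf N).Normal := ⟨fun k hk n => by
    rw [mem_subgroupOf, h.mem_K] at hk ⊢
    refine ⟨?_, hk.2.conj n⟩
    obtain ⟨i, hi⟩ := (mem_normalizer_iff.1 (inv_mem n.2) x).1 (mem_zpowers x)
    have := (hk.1.zpow_left i).eq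
    simp only [Subgroup.coe_inv] at hi
    rw [hi] at this
    change x * (n * k * (n : G)⁻¹) = (n * k * (n : G)⁻¹) * x
    calc _ = n * ((n : G)⁻¹ * x * (n : G)⁻¹⁻¹ * k) * (n : G)⁻¹ := by group
      _ = _ := by rw [this]; group⟩
  have cM : Nat.card (h.K.subgroupOf N) = Nat.card h.K :=
    Nat.card_congr (subgroupOfEquivOfLe KN).toEquiv
  have h1 := c1.le_cent (M := h.K.subgroupOf N) (cM ▸ rc) (cM ▸ hj)
  have h2 : ∀ k ∈ h.K, Commute (y : G) k := fun k hk =>
    (congrArg Subtype.val (mem_centralizer_singleton_iff.1 (h1 (x := ⟨k, KN hk⟩) hk))).symm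
  have h3 : ∀ k ∈ h.K, IsPReg r k := fun k hk =>
    (hr.out.coprime_iff_not_dvd.2 fun e => rc (e.trans (orderOf_dvd_natCard _ hk))).symm
  refine ⟨y, c2, fun k hk => c2.mem_K.2 ⟨h2 k hk, h3 k hk⟩, ?_⟩
  rw [← c2.card_C]
  have h4 : Nat.card (centralizer ({y} : Set N)) ∣ Nat.card (centralizer ({(y : G)} : Set G)) := by
    rw [← card_map_of_injective N.subtype_injective]
    refine card_dvd_of_le ?_
    rintro _ ⟨k, hk, rfl⟩
    exact mem_centralizer_singleton_iff.2 (congrArg Subtype.val (mem_centralizer_singleton_iff.1 hk))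
  have h5 := (centralizer ({y} : Set N)).index_mul_card
  rw [cN] at h5
  have h6 : p ∣ (centralizer ({y} : Set N)).index :=
    ((Nat.Prime.dvd_mul hp.out).1 (h5 ▸ (dvd_mul_right p _).mul_left _)).resolve_right fun e =>
      rc (c2.ord ▸ h.dvd_K (by rw [IsPReg, c2.ord]; exact pr) (e.trans h4))
  have h7 : (centralizer ({y} : Set N)).index ≤ p := by
    have := Fintype.ofFinite N
    have := Fintype.ofFinite G
    rw [← card_filter_isConj, ← h.card_zp, Nat.card_eq_fintype_card, Fintype.card_subtype]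
    refine card_le_card_of_injOn (fun z => (z * y⁻¹ : N)) (fun z hz => ?_)
      fun a _ b _ e => mul_right_cancel (Subtype.ext e)
    simp only [coe_filter, mem_univ, true_and, Set.mem_setOf_eq] at hz
    obtain ⟨n, rfl⟩ := isConj_iff.1 hz
    have c := comm_of_norm n.2 y.2
    have u1 := h.pPart_mem_zp c
    have u2 := (h.pPart_eq_iff c u1).1 rfl
    simp only [coe_filter, mem_univ, true_and, Set.mem_setOf_eq, Subgroup.coe_mul, Subgroup.coe_inv]
    generalize pPart p ((n : G) * y * (n : G)⁻¹ * (y : G)⁻¹) = u at u1 u2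
    obtain ⟨k, hk⟩ : ∃ k, k = u⁻¹ * ((n : G) * y * (n : G)⁻¹ * (y : G)⁻¹) := ⟨_, rfl⟩
    rw [← hk] at u2
    have u3 : (n : G) * y * (n : G)⁻¹ = u * y * k := by
      rw [mul_assoc u, (h2 k u2).eq, hk]; group
    have u4 : Commute (u * y) k := by
      obtain ⟨i, rfl⟩ := u1
      exact ((h.mem_K.1 u2).1.zpow_left i).mul_left (h2 k u2)
    have u5 : (u * y) ^ r * k ^ r = 1 := by
      rw [← u4.mul_pow, ← u3, conj_pow, c2.pow_p]; simp
    have u6 : (u * y) ^ r ∈ zpowers x := by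
      have : ((⟨u, le_normalizer u1⟩ * y : N) ^ r) ∈ (zpowers x).subgroupOf N := by
        rw [← QuotientGroup.eq_one_iff, QuotientGroup.mk_pow, QuotientGroup.mk_mul,
          (QuotientGroup.eq_one_iff _).2 (mem_subgroupOf.2 u1), one_mul, ← QuotientGroup.mk_pow,
          c1.pow_p, QuotientGroup.mk_one]
      exact this
    have u7 : k ^ r = 1 := by
      rw [eq_inv_of_mul_eq_one_left u5, inv_mem_iff] at u6
      have a := orderOf_dvd_natCard _ u6
      rw [h.card_zp] at a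
      exact orderOf_eq_one_iff.1 (Nat.Coprime.eq_one_of_dvd (h.mem_K.1 (pow_mem u2 r)).2 a)
    have u8 : k = 1 := orderOf_eq_one_iff.1 (Nat.Coprime.eq_one_of_dvd (h3 k u2)
      (orderOf_dvd_of_pow_eq_one u7))
    rw [u3, u8, mul_one, mul_inv_cancel_right]
    exact u1
  rw [le_antisymm h7 (Nat.le_of_dvd (Nat.pos_of_ne_zero index_ne_zero_of_finite) h6),
    mul_left_comm] at h5
  exact Nat.eq_of_mul_eq_mul_left hp.out.pos h5 ▸ h4

theorem co_congr (h : Ctx p x) {χ ψ : IrrCharacter G}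
    (e : ∀ i : ℕ, (χ : G → ℂ) (x ^ i) = (ψ : G → ℂ) (x ^ i)) (u : ZMod p) : h.co u χ = h.co u ψ := by
  have p0 : (p : ℂ) ≠ 0 := by exact_mod_cast hp.out.ne_zero
  refine Int.cast_injective (α := ℂ) (mul_left_cancel₀ p0 ?_)
  simp only [h.co_eq, e]

theorem ex7_sound [NS G] (h : Ctx p x) (h' : Ctx r y) (p7 : p ≠ 7) (h7 : 7 ∣ Nat.card h'.K)
    {l : List It} (hl : l.Perm ((II h h').toList.map (it h h'))) : ex7 (6 * r) l = true := by
  classical
  have := Fact.mk (show Nat.Prime 7 by norm_num)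
  have r7 : r ≠ 7 := by
    rintro rfl
    exact (hr.out.coprime_iff_not_dvd.1 h'.cop_K.symm) h7
  obtain ⟨a, ha⟩ := exists_prime_orderOf_dvd_card' 7 h7
  simp only [ex7, List.all_eq_true, Bool.or_eq_true, decide_eq_true_eq]
  intro i hi
  obtain ⟨χ, hχ, rfl⟩ := List.mem_map.1 (hl.subset hi)
  rw [mem_toList] at hχ
  refine or_iff_not_imp_right.2 fun e => rat7 h' (mem_II.1 hχ).1.2.2 (mem_II.1 hχ).1.1 a.2
    (by rw [orderOf_coe, ha]) fun k k0 k7 => ?_
  obtain ⟨u, hu⟩ := MT.exists_gal (G := G) (a := 7) (k := k)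
    ((Nat.coprime_of_lt_prime k0.ne' k7 (by norm_num)).symm)
  rw [← (hu χ a).1 (by rw [← orderOf_dvd_iff_pow_eq_one, orderOf_coe, ha])]
  by_contra e'
  have c1 : ∀ v, h.co v (MT.gal u χ) = h.co v χ := co_congr h fun i => (hu χ _).2
    (((Nat.coprime_primes hp.out (by norm_num)).2 p7).coprime_dvd_left (h.ord ▸ orderOf_pow_dvd i))
  have c2 : ∀ v, h'.co v (MT.gal u χ) = h'.co v χ := co_congr h' fun i => (hu χ _).2
    (((Nat.coprime_primes hr.out (by norm_num)).2 r7).coprime_dvd_left (h'.ord ▸ orderOf_pow_dvd i))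
  have c3 : dg (MT.gal u χ) = dg χ := dg_of ((MT.gal_one u χ).trans (dg_eq χ))
  have c4 : it h h' (MT.gal u χ) = it h h' χ := by simp only [it, c1, c2, c3]
  have c5 : MT.gal u χ ∈ II h h' := by
    rw [mem_II] at hχ ⊢
    simp only [c1, c2]
    refine ⟨⟨fun e => ?_, MT.gal_mem_B0 hχ.1.2.1, MT.gal_mem_B0 hχ.1.2.2⟩, hχ.2⟩
    have := two_le_deg hχ.1.1 (dg_eq χ)
    rw [← c3, e, dg_triv] at this
    omega
  refine e ?_
  rw [hl.count_eq]
  have c6 : [χ, MT.gal u χ].Subperm (II h h').toList := List.subperm_of_subset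
    (by simpa using fun e => e' (by rw [← e])) (by simp [hχ, c5])
  obtain ⟨l', l1, l2⟩ := c6
  have := (l2.map (it h h')).count_le (it h h' χ)
  rw [(l1.map _).count_eq] at this
  simpa [c4] using this

instance fact23 : Fact (Nat.Prime 23) := ⟨by norm_num⟩

theorem f44_sound [NS G] (h : Ctx 23 x) (h' : Ctx 11 y) (hH : h.H = ⊤) {b : G} (hb : b * b = 1)
    (hx : b * x * b⁻¹ = x⁻¹) (hK : b ∈ h'.K) {five : Bool}
    (h5 : five = true → ¬ 5 ∣ (centralizer {b}).index) {χ : IrrCharacter G} (hχ : χ ∈ II h h') :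
    f44 five (it h h' χ) = true := by
  obtain ⟨⟨h1, h2, h3⟩, -⟩ := mem_II.1 hχ
  have hv := yv_spec hb χ
  have a1 := abs_le_mu h χ hx hv
  have a2 := four_p h' h3 hb hK hv
  have a3 := h.deg_eq χ
  have ha : ∀ u : (ZMod 23)ˣ, h.co u χ = h.co (1 : (ZMod 23)ˣ) χ := fun u =>
    h.co_mul χ (hH ▸ mem_top _)
  simp only [ha, sum_const, card_univ, ZMod.card_units, nsmul_eq_mul, dg_eq] at a3
  have a4 : (dg χ : ℤ) = 23 * h.mu χ 0 + 22 * h.co (1 : (ZMod 23)ˣ) χ := by exact_mod_cast a3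
  simp only [f44, it, List.any_eq_true, Bool.and_eq_true, beq_iff_eq, Bool.or_eq_true,
    Bool.not_eq_true', bne_iff_ne]
  refine ⟨yv b χ, mem_irange ?_, by omega, ?_⟩
  · rw [abs_le] at a1
    omega
  cases five
  · exact Or.inl rfl
  refine Or.inr (or_iff_not_imp_left.2 fun e => ?_)
  have a5 := MT.dvd_of_central χ {()} (fun _ => b) (fun _ _ => rfl) (dg_eq χ) (a := yv b χ)
    (by simpa using hv)
  have a6 : (5 : ℤ) ∣ (centralizer {b}).index * yv b χ := Dvd.dvd.trans (by omega) a5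
  have := (Nat.prime_iff_prime_int.1 Nat.prime_five).dvd_or_dvd a6
  have := h5 rfl
  omega

end Cfsg.Agent.H5.MW
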