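import Cfsg.Agent.H2.D1Search

/-! Kernel searches for intersections of two principal blocks of prime defect. -/

set_option autoImplicit false

namespace Cfsg.Agent.H5.MW

open Cfsg.Agent.H2.D1

/-- degree, two coefficients at `p`, two coefficients at `r`. -/
abbrev It := ℕ × ℤ × ℤ × ℤ × ℤ

def exc (p e lo M d t : ℕ) (b ε : ℤ) : Bool :=
  okm p lo d (e * (ε + t * b)) b (b + ε) && (decide ((b + ε) ^ 2 + (t - 1) * b ^ 2 ≤ e) &&
    (M * e * (ε + t * b).natAbs) % d == 0)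

def typ (p e lo M d : ℕ) (a1 a2 : ℤ) : Bool :=
  (a1 == a2 && (okm p lo d ((p - 1) * a1) a1 a1 && ((M * a1.natAbs) % d == 0 &&
    decide (a1.natAbs < d)))) ||
  (fun t : ℕ => decide (2 ≤ t) && (bif a1 == a2 then decide (2 < t) &&
    (exc p e lo M d t a1 1 || exc p e lo M d t a1 (-1)) else
      exc p e lo M d t a1 (a2 - a1) || exc p e lo M d t a2 (a1 - a2))) ((p - 1) / e)

def prs (e : ℕ) : List (ℤ × ℤ) :=
  ((irange (rt e)).flatMap fun a => [(a, a), (a, a + 1), (a, a - 1)]).filter fun a =>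
    a.1 != 0 || a.2 != 0

theorem mem_prs {e : ℕ} {a b : ℤ} (h1 : a ^ 2 ≤ e) (h2 : (a - b) ^ 2 ≤ 2) (h3 : a ≠ 0 ∨ b ≠ 0) :
    (a, b) ∈ prs e := by
  have h4 : a.natAbs ≤ rt e := le_rt (by zify; rwa [sq_abs])
  have h5 : b = a ∨ b = a + 1 ∨ b = a - 1 := by
    have : -2 < a - b := by nlinarith
    have : a - b < 2 := by nlinarith
    omega
  simp only [prs, List.mem_filter, List.mem_flatMap, Bool.or_eq_true, bne_iff_ne]
  refine ⟨⟨a, mem_irange h4, ?_⟩, h3⟩
  rcases h5 with h | h | h <;> simp [h]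

def side (p e lo M : ℕ) (dv : List ℕ) : List (ℕ × ℤ × ℤ) :=
  (fun P : List (ℤ × ℤ) => dv.flatMap fun d =>
    (P.filter fun a => typ p e lo M d a.1 a.2).map fun a => (d, a)) (prs e)

def items (S : List (ℕ × ℤ × ℤ)) (r e lo M : ℕ) (flt : It → Bool) : List It :=
  (fun P : List (ℤ × ℤ) => S.flatMap fun s =>
    (P.filter fun b => typ r e lo M s.1 b.1 b.2 && flt (s.1, s.2.1, s.2.2, b.1, b.2)).map
      fun b => (s.1, s.2.1, s.2.2, b.1, b.2)) (prs e)

def sm (f : It → ℤ) (l : List It) : ℤ := (l.map f).sum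

def ok (e e' : ℕ) (l : List It) : Bool :=
  decide (sm (fun i => i.2.1 ^ 2) l ≤ e) && (decide (sm (fun i => i.2.2.1 ^ 2) l ≤ e) &&
    (decide (sm (fun i => (i.2.1 - i.2.2.1) ^ 2) l ≤ 2) &&
    (decide (sm (fun i => i.2.2.2.1 ^ 2) l ≤ e') && (decide (sm (fun i => i.2.2.2.2 ^ 2) l ≤ e') &&
      decide (sm (fun i => (i.2.2.2.1 - i.2.2.2.2) ^ 2) l ≤ 2)))))

def fin (ex : List It → Bool) (l : List It) : Bool :=
  sm (fun i => i.2.1 * i.2.2.2.1) l == -1 && (sm (fun i => i.2.1 * i.2.2.2.2) l == -1 &&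
    (sm (fun i => i.2.2.1 * i.2.2.2.1) l == -1 && (sm (fun i => i.2.2.1 * i.2.2.2.2) l == -1 &&
    ((decide (sm (fun i => (i.2.1 - i.2.2.1) ^ 2) l < 2) ||
      sm (fun i => (i.2.1 - i.2.2.1) * i.1) l == 0) &&
    ((decide (sm (fun i => (i.2.2.2.1 - i.2.2.2.2) ^ 2) l < 2) ||
      sm (fun i => (i.2.2.2.1 - i.2.2.2.2) * i.1) l == 0) && ex l)))))

def ms {α : Type} (ok fin : List α → Bool) : ℕ → List α → List α → Bool
  | 0, _, _ => true
  | _ + 1, [], acc => fin acc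
  | f + 1, a :: X, acc => (ok (a :: acc) && ms ok fin f (a :: X) (a :: acc)) || ms ok fin f X acc

theorem ms_sound {α : Type} {ok fin : List α → Bool} (f : ℕ) (X l acc : List α)
    (h1 : ∀ a ∈ l, a ∈ X) (h2 : ∀ l' : List α, l'.Subperm (l ++ acc) → ok l' = true)
    (h3 : ∀ l' : List α, l'.Perm (l ++ acc) → fin l' = true) : ms ok fin f X acc = true := by
  classical
  induction f generalizing X l acc with
  | zero => rfl
  | succ f ih =>
    cases X with
    | nil =>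
      obtain rfl : l = [] := List.eq_nil_iff_forall_not_mem.2 fun a ha => by simpa using h1 a ha
      exact h3 acc (by simp)
    | cons a X =>
      simp only [ms, Bool.or_eq_true, Bool.and_eq_true]
      by_cases ha : a ∈ l
      · have hp : (l.erase a ++ a :: acc).Perm (l ++ acc) :=
          List.perm_middle.trans ((List.perm_cons_erase ha).symm.append_right acc)
        exact Or.inl ⟨h2 _ ((List.sublist_append_right _ _).subperm.trans hp.subperm),
          ih _ (l.erase a) _ (fun b hb => h1 b (List.mem_of_mem_erase hb))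
            (fun l' h => h2 l' (h.trans hp.subperm)) fun l' h => h3 l' (h.trans hp)⟩
      · exact Or.inr (ih _ l _ (fun b hb => (List.mem_cons.1 (h1 b hb)).resolve_left
          fun e => ha (e ▸ hb)) h2 h3)

def srch (S : List (ℕ × ℤ × ℤ)) (e r e' lo M : ℕ) (flt : It → Bool) (ex : List It → Bool) : Bool :=
  ms (ok e e') (fin ex) 200 (items S r e' lo M flt) []

theorem sm_perm (f : It → ℤ) {l l' : List It} (h : l.Perm l') : sm f l = sm f l' :=
  (h.map f).sum_eq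

theorem sm_le {f : It → ℤ} (hf : ∀ i, 0 ≤ f i) {l l' : List It} (h : l.Subperm l') :
    sm f l ≤ sm f l' := by
  obtain ⟨k, h1, h2⟩ := h
  rw [← sm_perm f h1]
  exact (h2.map f).sum_le_sum fun a ha => by
    obtain ⟨i, -, rfl⟩ := List.mem_map.1 ha
    exact hf i

theorem ok_mono {e e' : ℕ} {l l' : List It} (h : l.Subperm l') (h' : ok e e' l' = true) :
    ok e e' l = true := by
  simp only [ok, Bool.and_eq_true, decide_eq_true_eq] at h' ⊢
  obtain ⟨a, b, c, d, f, g⟩ := h'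
  exact ⟨(sm_le (fun _ => sq_nonneg _) h).trans a, (sm_le (fun _ => sq_nonneg _) h).trans b,
    (sm_le (fun _ => sq_nonneg _) h).trans c, (sm_le (fun _ => sq_nonneg _) h).trans d,
    (sm_le (fun _ => sq_nonneg _) h).trans f, (sm_le (fun _ => sq_nonneg _) h).trans g⟩

theorem fin_perm {ex : List It → Bool} {l l' : List It} (h : l.Perm l')
    (h' : fin (fun _ => true) l' = true) (hx : ex l = true) : fin ex l = true := by
  simp only [fin, sm_perm _ h, hx] at h' ⊢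
  exact h'

/-- Small degrees occur at least twice. -/
def ex7 (m : ℕ) (l : List It) : Bool := l.all fun i => decide (m ≤ i.1) || decide (2 ≤ l.count i)

/-! ### Divisor lists -/

def pw (q k : ℕ) : List ℕ := (List.range (k + 1)).map (q ^ ·)

def dvm (l1 l2 : List ℕ) : List ℕ := l1.flatMap fun a => l2.map (a * ·)

theorem mem_pw {q k d : ℕ} (hq : q.Prime) (h : d ∣ q ^ k) : d ∈ pw q k := by
  obtain ⟨j, h1, rfl⟩ := (Nat.dvd_prime_pow hq).1 h
  exact List.mem_map.2 ⟨j, List.mem_range.2 (by omega), rfl⟩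

theorem mem_dvm {m n d : ℕ} {l1 l2 : List ℕ} (h : d ∣ m * n) (h1 : ∀ a, a ∣ m → a ∈ l1)
    (h2 : ∀ a, a ∣ n → a ∈ l2) : d ∈ dvm l1 l2 := by
  obtain ⟨a, b, ha, hb, rfl⟩ := exists_dvd_and_dvd_of_dvd_mul h
  exact List.mem_flatMap.2 ⟨a, h1 a ha, List.mem_map.2 ⟨b, h2 b hb, rfl⟩⟩

def DV : List ℕ := dvm (pw 2 10) (dvm (pw 3 3) (dvm (pw 5 1) (dvm (pw 7 1) (dvm (pw 11 1) (pw 23 1)))))

theorem mem_DV {d : ℕ} (h : d ∣ 244823040) : d ∈ DV :=
  mem_dvm (m := 2 ^ 10) (n := 3 ^ 3 * (5 ^ 1 * (7 ^ 1 * (11 ^ 1 * 23 ^ 1)))) h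
    (fun _ => mem_pw (by norm_num)) fun _ h => mem_dvm h (fun _ => mem_pw (by norm_num))
    fun _ h => mem_dvm h (fun _ => mem_pw (by norm_num)) fun _ h =>
    mem_dvm h (fun _ => mem_pw (by norm_num)) fun _ h =>
    mem_dvm h (fun _ => mem_pw (by norm_num)) fun _ => mem_pw (by norm_num)

/-- All divisors of `n`. -/
def dv (n : ℕ) : List ℕ := DV.filter fun d => n % d == 0

/-- Candidates for degrees. -/
def dg' (n : ℕ) : List ℕ := DV.filter fun d => n % d == 0 && (decide (2 ≤ d) && decide (d * d ≤ n))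

theorem mem_dv {n d : ℕ} (hn : n ∣ 244823040) (h : d ∣ n) : d ∈ dv n :=
  List.mem_filter.2 ⟨mem_DV (h.trans hn), by simpa using Nat.mod_eq_zero_of_dvd h⟩

theorem mem_dg' {n d : ℕ} (hn : n ∣ 244823040) (h : d ∣ n) (h1 : 2 ≤ d) (h2 : d * d ≤ n) :
    d ∈ dg' n :=
  List.mem_filter.2 ⟨mem_DV (h.trans hn), by simpa [h1, h2] using Nat.mod_eq_zero_of_dvd h⟩

/-! ### Inertial index two -/

def sqm (n : ℕ) : Bool := [29, 31, 37, 41, 43, 47, 53, 59, 61, 67, 71, 73].all fun m =>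
  (List.range m).any fun k => k * k % m == n % m

theorem sqm_sound {n : ℕ} (h : IsSquare n) : sqm n = true := by
  obtain ⟨k, rfl⟩ := h
  simp only [sqm, List.all_eq_true, List.any_eq_true, List.mem_range, beq_iff_eq]
  intro m hm
  refine ⟨k % m, Nat.mod_lt _ ?_, (Nat.mul_mod k k m).symm⟩
  revert m
  decide

def e2a (n p N lo d : ℕ) (a : ℤ) : Bool :=
  okm p lo d ((p - 1) * a) a a && (okm p lo (d - a).toNat (-2 * a) 0 (-a) && ((2 * N) % d == 0 &&
    (n % (d - a).toNat == 0 && (sqm (2 * N * d * (d - a).toNat) &&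
      (irange ((d - (p - 1) * a) / p).toNat).any fun v => (d - v) % 4 == 0))))

def e2c (p N c d : ℕ) (a : ℤ) : Bool :=
  c % 2 == 1 || (irange (d - a).toNat).any fun v => (d - a - v) % (4 * p) == 0 &&
    decide ((1 + (v + a) ^ 2 + ((p - 1) / 2 : ℕ) * v ^ 2) ^ 2 * d * (d - a) ≤
      2 * N * c ^ 2 * (d - a - v) ^ 2)

def e2b (n p N lo : ℕ) : Bool := (dg' n).any fun d => e2a n p N lo d 1 || e2a n p N lo d (-1)

def e2 (n p N c : ℕ) : Bool := (dg' n).any fun d =>
  (e2a n p N (bif c == 1 then 0 else 2) d 1 && e2c p N c d 1) ||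
    (e2a n p N (bif c == 1 then 0 else 2) d (-1) && e2c p N c d (-1))

end Cfsg.Agent.H5.MW
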