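import Cfsg.Agent.H5.O8xEA2
import Cfsg.Agent.L0.L43Ctl
import Cfsg.Agent.H1.S9Sig

/-!
# The Sylow 2-subgroup and the subgroup of index two
-/

set_option autoImplicit false
set_option maxRecDepth 100000
set_option synthInstance.maxSize 100000

namespace Cfsg.Agent.H5.O8

open Subgroup Cfsg.Agent.H3.L43 Cfsg.Agent.H3.O8 Cfsg.Agent.H9 Cfsg.Agent.H1.T3

/-- The permutation is trivial or the chosen transposition. -/
def pw (a : SP) : Prop := a.p = 1 ∨ a.p = Equiv.swap 0 1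

instance instDecPw (a : SP) : Decidable (pw a) := inferInstanceAs (Decidable (_ ∨ _))

theorem pw_three {a : SP} (h : pw a) : a.p 3 = 3 := by
  rcases h with h | h <;> rw [h] <;> rfl

theorem pw_mul {a a' : SP} (h : pw a) (h' : pw a') : pw (a * a') := by
  rcases h with h | h <;> rcases h' with h' | h' <;> simp [pw, SP.mul_p, h, h']

theorem pw_inv {a : SP} (h : pw a) : pw a⁻¹ := by
  rcases h with h | h <;> simp [pw, SP.inv_p, h]

theorem three_mul {a a' : SP} (h : a.p 3 = 3) (h' : a'.p 3 = 3) : (a * a').p 3 = 3 := by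
  rw [SP.mul_p, Equiv.Perm.mul_apply, h', h]

theorem three_inv {a : SP} (h : a.p 3 = 3) : a⁻¹.p 3 = 3 := by
  rw [SP.inv_p, Equiv.Perm.inv_eq_iff_eq, h]

/-- The twist on one component. -/
def sd (d : Bool) (y : Fin 4) : Fin 4 := if d then s23 y else y

/-- The condition to be fixed modulo the centre. -/
def fxn (n0 n1 n2 n3 : Fin 4 × Bool) (x : XS) : Prop :=
  x.f n0.1 = sd n0.2 x.f0 ∧ x.f n1.1 = sd n1.2 x.f1 ∧ x.f n2.1 = sd n2.2 x.f2 ∧
    x.f n3.1 = sd n3.2 x.f3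

instance instDecFxn (n0 n1 n2 n3 : Fin 4 × Bool) (x : XS) : Decidable (fxn n0 n1 n2 n3 x) :=
  inferInstanceAs (Decidable (_ ∧ _ ∧ _ ∧ _))

/-- The elements fixed modulo the centre. -/
def Fx (a : SP) : Finset XS := Finset.univ.filter (fxn (nx a 0) (nx a 1) (nx a 2) (nx a 3))

theorem card_Fx : ∀ a : SP, pw a → a.e 3 = false → a * a = 1 → a ≠ 1 →
    (Fx a).card ≤ 128 ∧ (a = sw ∨ a = sw * sg 0 * sg 1 ∨ (Fx a).card ≤ 32) := by
  decide +kernel

theorem fx_basis : ∀ a : SP, pw a →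
    (∀ m, fxn (nx a 0) (nx a 1) (nx a 2) (nx a 3) (io m 2)) → a = 1 ∨ a = sg 3 := by
  decide +kernel

theorem mul_f (x y : XS) (m : Fin 4) : (x.mul y).f m = xr (x.f m) (y.f m) := by
  fin_cases m <;> rfl

theorem tw_f (x : XS) (d : Bool) : (x.tw d).f = x.f := rfl

theorem fxn_am {a : SP} (h : pw a) {x : XS} (e : (am a x).f = x.f) :
    fxn (nx a 0) (nx a 1) (nx a 2) (nx a 3) x := by
  have k1 : ∀ (n : Fin 4 × Bool) (y m : Fin 4), (ga n y).f m = if n.1 = m then sd n.2 y else 0 := by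
    decide +kernel
  have k2 : ∀ (d : Bool) (m : Fin 4), (ce d).f m = 0 := by decide +kernel
  have k3 : ∀ y, xr 0 y = y := by decide
  have k4 : ∀ y, xr y 0 = y := by decide
  have k5 : ∀ a : SP, pw a → ∀ m n, (nx a m).1 = (nx a n).1 ↔ m = n := by decide +kernel
  have k6 := fun m => congrFun e (nx a m).1
  simp only [am, amn, mul_f, k1, k2, k5 a h] at k6
  refine ⟨?_, ?_, ?_, ?_⟩
  · simpa [k3, k4] using (k6 0).symm
  · simpa [k3, k4] using (k6 1).symm
  · simpa [k3, k4] using (k6 2).symm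
  · simpa [k3, k4] using (k6 3).symm

variable {G : Type*} [Group G] {ξ : V → G} {μ : SP → G} {i : G}

/-- The extension of the extraspecial group by a group of signed permutations. -/
def EK (c : Cfg true ξ μ i) (hE : HE ξ μ i) (P : SP → Prop) (h3 : ∀ a, P a → a.p 3 = 3) (h1 : P 1)
    (hm : ∀ a a', P a → P a' → P (a * a')) (hi : ∀ a, P a → P a⁻¹) : Subgroup G where
  carrier := {g | ∃ e ∈ EE ξ μ i, ∃ a, P a ∧ g = e * μ a}
  one_mem' := ⟨1, one_mem _, 1, h1, by rw [c.one, mul_one]⟩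
  mul_mem' := by
    rintro _ _ ⟨e, he, a, ha, rfl⟩ ⟨e', he', a', ha', rfl⟩
    refine ⟨e * cj (μ a) e', mul_mem he (nM c hE (ok_true a) (h3 a ha) he'), a * a',
      hm a a' ha ha', ?_⟩
    rw [c.mul _ _ (ok_true _) (ok_true _), cj]; group
  inv_mem' := by
    rintro _ ⟨e, he, a, ha, rfl⟩
    refine ⟨cj (μ a⁻¹) e⁻¹, nM c hE (ok_true _) (h3 _ (hi a ha)) (inv_mem he), a⁻¹, hi a ha, ?_⟩
    rw [c.inv (ok_true _), cj]; group

variable (c : Cfg true ξ μ i) (hE : HE ξ μ i)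

/-- The subgroup of order `2 ^ 12`. -/
def AA : Subgroup G := EK c hE (fun a => a.p = 1) (fun a h => by rw [h]; rfl) rfl
  (fun a a' h h' => by rw [SP.mul_p, h, h', mul_one]) (fun a h => by rw [SP.inv_p, h, inv_one])

/-- The subgroup of order `2 ^ 13`. -/
def UU : Subgroup G := EK c hE pw (fun _ => pw_three) (Or.inl rfl) (fun _ _ => pw_mul)
  (fun _ => pw_inv)

theorem mem_AA {g : G} : g ∈ AA c hE ↔ ∃ e ∈ EE ξ μ i, ∃ a : SP, a.p = 1 ∧ g = e * μ a := Iff.rfl

theorem mem_UU {g : G} : g ∈ UU c hE ↔ ∃ e ∈ EE ξ μ i, ∃ a : SP, pw a ∧ g = e * μ a := Iff.rfl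

theorem EE_le_UU : EE ξ μ i ≤ UU c hE := fun e he =>
  ⟨e, he, 1, Or.inl rfl, by rw [c.one, mul_one]⟩

theorem mu_mem_UU {a : SP} (h : pw a) : μ a ∈ UU c hE := ⟨1, one_mem _, a, h, (one_mul _).symm⟩

include c hE

/-- Elements in normal form lying in the extraspecial group. -/
theorem triv {v : V} (_hv : v 3 = 0) {a : SP} (h3 : a.p 3 = 3) (h : ξ v * μ a ∈ EE ξ μ i) :
    v = 0 ∧ (a = 1 ∨ a = sg 3) := by
  have k1 : ∀ u : V, u 3 = 0 → a.act u = u := fun u hu => by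
    have e1 : cj (ξ u) (ξ v * μ a) * (ξ v * μ a)⁻¹ = ξ (u - a.act u) := by
      rw [c.sub, ← c.act' (ok_true a) v u]
      simp only [cj]; group
    have := xi_mem c hE (e1 ▸ mul_mem (nJ c hE hu h) (inv_mem h))
    exact (sub_eq_zero.mp this).symm
  have k2 : ∀ a : SP, a.p 3 = 3 → a.act (ee 0) = ee 0 → a.act (ee 1) = ee 1 →
      a.act (ee 2) = ee 2 → a = 1 ∨ a = sg 3 := by decide +kernel
  have h2 := k2 a h3 (k1 _ rfl) (k1 _ rfl) (k1 _ rfl)
  refine ⟨xi_mem c hE ?_, h2⟩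
  rcases h2 with rfl | rfl
  · rwa [c.one, mul_one] at h
  · exact (Subgroup.mul_mem_cancel_right _ (t_mem c hE)).mp h

theorem triv' {a : SP} (h3 : a.p 3 = 3) (h : μ a ∈ EE ξ μ i) : a = 1 ∨ a = sg 3 :=
  (triv c hE (v := 0) rfl h3 (by rwa [c.zero, one_mul])).2

theorem nf_UU {v : V} (hv : v 3 = 0) {a : SP} (h3 : a.p 3 = 3) (h : ξ v * μ a ∈ UU c hE) :
    v = 0 ∧ pw a := by
  obtain ⟨e, he, a', ha', e1⟩ := h
  have e2 : ξ v * μ (a * a'⁻¹) = e := by
    rw [c.mul _ _ (ok_true _) (ok_true _), c.inv (ok_true _), ← mul_assoc, e1,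
      mul_inv_cancel_right]
  obtain ⟨h1, h2⟩ := triv c hE hv (three_mul h3 (three_inv (pw_three ha'))) (e2 ▸ he)
  refine ⟨h1, ?_⟩
  have : a = a * a'⁻¹ * a' := by group
  rw [this]
  refine pw_mul ?_ ha'
  rcases h2 with h2 | h2 <;> rw [h2] <;> exact Or.inl rfl

theorem relIndex_AA : (AA c hE).relIndex (UU c hE) = 2 := by
  rw [relIndex_eq_two_iff]
  refine ⟨μ sw, mu_mem_UU c hE (Or.inr rfl), ?_⟩
  have k : ∀ e ∈ EE ξ μ i, ∀ a, pw a → (e * μ a ∈ AA c hE ↔ a.p = 1) := by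
    intro e he a ha
    refine ⟨?_, fun h => ⟨e, he, a, h, rfl⟩⟩
    rintro ⟨e', he', a', ha', e1⟩
    have e2 : μ (a * a'⁻¹) = e⁻¹ * e' := by
      rw [c.mul _ _ (ok_true _) (ok_true _), c.inv (ok_true _), mul_inv_eq_iff_eq_mul, mul_assoc,
        ← e1, inv_mul_cancel_left]
    have h2 := triv' c hE (three_mul (pw_three ha) (three_inv (by rw [ha']; rfl)))
      (e2 ▸ mul_mem (inv_mem he) he')
    have : a = a * a'⁻¹ * a' := by group
    rw [this, SP.mul_p, ha', mul_one]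
    rcases h2 with h2 | h2 <;> rw [h2] <;> rfl
  rintro _ ⟨e, he, a, ha, rfl⟩
  rw [mul_assoc, ← c.mul _ _ (ok_true _) (ok_true _), k e he _ (pw_mul ha (Or.inr rfl)),
    k e he a ha]
  have k2 : ∀ a : SP, pw a → Xor ((a * sw).p = 1) (a.p = 1) := by decide +kernel
  exact k2 a ha

theorem isPGroup_UU : IsPGroup 2 (UU c hE) := by
  have k : ∀ e ∈ EE ξ μ i, ∀ a, pw a → ∃ e' ∈ EE ξ μ i, (e * μ a) ^ 2 = e' * μ (a * a) := by
    intro e he a ha
    refine ⟨e * cj (μ a) e, mul_mem he (nM c hE (ok_true a) (pw_three ha) he), ?_⟩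
    rw [c.mul _ _ (ok_true _) (ok_true _), cj, pow_two]; group
  have k2 : ∀ a : SP, pw a → a * a * (a * a) = 1 := by decide +kernel
  rintro ⟨_, e, he, a, ha, rfl⟩
  obtain ⟨e1, h1, r1⟩ := k e he a ha
  obtain ⟨e2, h2, r2⟩ := k e1 h1 _ (pw_mul ha ha)
  refine ⟨4, Subtype.ext ?_⟩
  show (e * μ a) ^ 2 ^ 4 = 1
  rw [show 2 ^ 4 = 2 * 2 * 4 from rfl, pow_mul, pow_mul, r1, r2, k2 a ha, c.one, mul_one,
    pow_four c hE h2]

/-- An element acting trivially modulo the centre. -/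
theorem mem_Fx {e : G} (he : e ∈ EE ξ μ i) {a : SP} (ha : pw a) {x : XS}
    (h : cj (e * μ a) (el ξ μ i x) = el ξ μ i x ∨
      cj (e * μ a) (el ξ μ i x) = μ (sg 3) * el ξ μ i x) : x ∈ Fx a := by
  obtain ⟨y, rfl⟩ := (mem_EE c hE).mp he
  have e1 : cj (el ξ μ i y * μ a) (el ξ μ i x) = el ξ μ i ((am a x).tw (cm y (am a x))) := by
    rw [mul_cj, mu_el c hE (ok_true a) (pw_three ha), el_tw c, cj_eq, el_swap c hE, mul_assoc]
  rw [e1, show μ (sg 3) = tp μ true from rfl, ← el_tw c] at h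
  refine Finset.mem_filter.mpr ⟨Finset.mem_univ _, fxn_am ha ?_⟩
  rcases h with h | h
  · rw [← tw_f _ (cm y (am a x)), el_inj c hE h]
  · rw [← tw_f _ (cm y (am a x)), el_inj c hE h, tw_f]

theorem cen_UU {u : G} (hu : u ∈ UU c hE) (h : ∀ e ∈ EE ξ μ i, Commute u e) :
    u = 1 ∨ u = μ (sg 3) := by
  obtain ⟨e, he, a, ha, rfl⟩ := hu
  have h1 := fx_basis a ha fun m => (Finset.mem_filter.mp
    (mem_Fx c hE he ha (Or.inl (cj_fix.mpr (h _ (el_mem c hE _)))))).2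
  have h2 : e * μ a ∈ EE ξ μ i := by
    rcases h1 with rfl | rfl
    · rwa [c.one, mul_one]
    · exact mul_mem he (t_mem c hE)
  exact zen c hE h2 fun f hf => (h f hf).symm.eq

/-- The extraspecial group is weakly closed with respect to the centralizer of the involution. -/
theorem weak {g : G} (ht : cj g (μ (sg 3)) = μ (sg 3)) (h : ∀ e ∈ EE ξ μ i, cj g e ∈ UU c hE) :
    ∀ e ∈ EE ξ μ i, cj g e ∈ EE ξ μ i := by
  classical
  have k0 : ∀ x : XS, ∃ a : SP, pw a ∧ a.e 3 = false ∧ ∃ e ∈ EE ξ μ i,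
      cj g (el ξ μ i x) = e * μ a := by
    intro x
    obtain ⟨e, he, a, ha, e1⟩ := h _ (el_mem c hE x)
    have k : ∀ a : SP, pw a → a.e 3 = false ∨ (pw (sg 3 * a) ∧ (sg 3 * a).e 3 = false) := by
      decide +kernel
    rcases k a ha with h3 | ⟨h3, h4⟩
    · exact ⟨a, ha, h3, e, he, e1⟩
    · refine ⟨_, h3, h4, e * μ (sg 3), mul_mem he (t_mem c hE), ?_⟩
      rw [e1, c.mul _ _ (ok_true _) (ok_true _), mul_assoc, ← mul_assoc (μ (sg 3)), c.t2, one_mul]
  choose p hp1 hp2 ef hef hp3 using k0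
  have sqp : ∀ x, p x * p x = 1 := by
    intro x
    have e1 : cj g (el ξ μ i x * el ξ μ i x) ∈ EE ξ μ i := by
      rcases sq_mem c hE (el_mem c hE x) with e | e <;> rw [e]
      · rw [cj_one]; exact one_mem _
      · rw [ht]; exact t_mem c hE
    have e2 : cj g (el ξ μ i x * el ξ μ i x) = ef x * cj (μ (p x)) (ef x) * μ (p x * p x) := by
      rw [cj_mul, hp3, c.mul _ _ (ok_true _) (ok_true _), cj]; group
    rw [e2, Subgroup.mul_mem_cancel_left _
      (mul_mem (hef x) (nM c hE (ok_true _) (pw_three (hp1 x)) (hef x)))] at e1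
    have k : ∀ a : SP, pw a → a * a ≠ sg 3 := by decide +kernel
    exact (triv' c hE (pw_three (pw_mul (hp1 x) (hp1 x))) e1).resolve_right (k _ (hp1 x))
  have fib : ∀ x0 a, (Finset.univ.filter fun y => p y = a).card ≤ (Fx (p x0)).card := by
    intro x0 a
    rcases (Finset.univ.filter fun y => p y = a).eq_empty_or_nonempty with h0 | ⟨y0, h0⟩
    · rw [h0]; exact Nat.zero_le _
    have k1 : ∀ y, ∃ z, p y = a → el ξ μ i z = cj g (el ξ μ i y * (el ξ μ i y0)⁻¹) := by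
      intro y
      by_cases hy : p y = a
      · have : cj g (el ξ μ i y * (el ξ μ i y0)⁻¹) ∈ EE ξ μ i := by
          rw [cj_mul, cj_inv, hp3, hp3, hy, (Finset.mem_filter.mp h0).2, mul_inv_rev, mul_assoc,
            mul_inv_cancel_left]
          exact mul_mem (hef y) (inv_mem (hef y0))
        obtain ⟨z, hz⟩ := (mem_EE c hE).mp this
        exact ⟨z, fun _ => hz.symm⟩
      · exact ⟨y, fun h => absurd h hy⟩
    choose f hf using k1
    refine Finset.card_le_card_of_injOn f (fun y hy => ?_) fun y hy y' hy' e => ?_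
    · have hy' := (Finset.mem_filter.mp (Finset.mem_coe.mp hy)).2
      refine Finset.mem_coe.mpr (mem_Fx c hE (hef x0) (hp1 x0) ?_)
      rw [← hp3, hf y hy', ← ht]
      have m := mul_mem (el_mem c hE y) (inv_mem (el_mem c hE y0))
      generalize el ξ μ i y * (el ξ μ i y0)⁻¹ = s at m ⊢
      rw [← cj_cj, ← cj_mul]
      rcases swap_mem c hE (el_mem c hE x0) m with e | e
      · exact Or.inl (congrArg _ (cj_eq.mpr e))
      · exact Or.inr (congrArg _ (cj_eq.mpr (by rw [e, mul_assoc])))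
    · have e1 := hf y (Finset.mem_filter.mp (Finset.mem_coe.mp hy)).2
      rw [e, hf y' (Finset.mem_filter.mp (Finset.mem_coe.mp hy')).2] at e1
      exact (el_inj c hE (mul_right_cancel (cj_inj e1))).symm
  have card : (Finset.univ : Finset XS).card = 512 := by
    rw [Finset.card_univ, ← Nat.card_eq_fintype_card, card_XS]
  have all : ∀ x, p x = 1 := by
    by_contra hn
    push Not at hn
    obtain ⟨x0, h0⟩ := hn
    by_cases hs : ∃ x, p x ≠ 1 ∧ (Fx (p x)).card ≤ 32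
    · obtain ⟨x, -, hx⟩ := hs
      have := Finset.card_le_mul_card_image_of_maps_to (f := p) (s := Finset.univ)
        (t := Finset.univ.filter fun a : SP => pw a ∧ a.e 3 = false ∧ a * a = 1)
        (fun y _ => Finset.mem_filter.mpr ⟨Finset.mem_univ _, hp1 y, hp2 y, sqp y⟩) 32
        fun a _ => (fib x a).trans hx
      rw [card, show (Finset.univ.filter fun a : SP => pw a ∧ a.e 3 = false ∧ a * a = 1).card = 12
        by decide +kernel] at this
      omega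
    · have := Finset.card_le_mul_card_image_of_maps_to (f := p) (s := Finset.univ)
        (t := {1, sw, sw * sg 0 * sg 1}) (fun y _ => by
          by_cases h1 : p y = 1
          · simp [h1]
          rcases (card_Fx _ (hp1 y) (hp2 y) (sqp y) h1).2 with h2 | h2 | h2
          · simp [h2]
          · simp [h2]
          · exact absurd ⟨y, h1, h2⟩ hs) 128
        fun a _ => (fib x0 a).trans (card_Fx _ (hp1 x0) (hp2 x0) (sqp x0) h0).1
      have h3 : ({1, sw, sw * sg 0 * sg 1} : Finset SP).card ≤ 3 := Finset.card_le_three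
      omega
  intro e he
  obtain ⟨x, rfl⟩ := (mem_EE c hE).mp he
  rw [hp3, all, c.one, mul_one]
  exact hef x

variable [Finite G]

theorem syl_UU (hN : ∀ g, Commute g (μ (sg 3)) → g ∈ normalizer (EE ξ μ i : Set G) →
      ∃ e ∈ EE ξ μ i, ∃ v a, v 3 = 0 ∧ a.p 3 = 3 ∧ g = e * ξ v * μ a) :
    IsSylowIn 2 (UU c hE) ⊤ := by
  refine L0.L43.syl_of_self le_top (isPGroup_UU c hE) fun g _ _ h => ?_
  have hg : g ∈ normalizer (UU c hE : Set G) := mem_normalizer_fintype h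
  have ht : cj g (μ (sg 3)) = μ (sg 3) := by
    have h1 : cj g (μ (sg 3)) ∈ UU c hE := h _ (EE_le_UU c hE (t_mem c hE))
    have h2 : ∀ u ∈ UU c hE, Commute u (μ (sg 3)) := by
      rintro _ ⟨e, he, a, ha, rfl⟩
      exact (comm_t c hE he).mul_left (mu_t c (ok_true a) (pw_three ha))
    refine (cen_UU c hE h1 fun e he => ?_).resolve_left fun e => c.t1 ?_
    · have := (mem_normalizer_iff''.mp hg e).mp (EE_le_UU c hE he)
      have h3 := cj_comm (g := g) (h2 _ this).symm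
      rwa [show cj g (g⁻¹ * e * g) = e by simp only [cj]; group] at h3
    · exact cj_inj (e.trans (cj_one g).symm)
  have h1 := weak c hE ht fun e he => h e (EE_le_UU c hE he)
  obtain ⟨e, he, v, a, hv, ha, rfl⟩ := hN g (cj_fix.mp ht) (mem_normalizer_fintype h1)
  have h2 : ∀ a', pw a' → ξ (v - (a * a' * a⁻¹).act v) * μ (a * a' * a⁻¹) ∈ UU c hE := by
    intro a' ha'
    have h3 := h _ (mu_mem_UU c hE ha')
    have h4 := mul_mem (mul_mem (inv_mem (EE_le_UU c hE he)) h3) (EE_le_UU c hE he)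
    have e1 : e⁻¹ * (e * ξ v * μ a * μ a' * (e * ξ v * μ a)⁻¹) * e =
        ξ v * cj (μ a) (μ a') * (ξ v)⁻¹ := by simp only [cj]; group
    rw [e1, c.mcj (ok_true _) (ok_true _), ← c.neg, mul_assoc, c.mx (ok_true _), ← mul_assoc,
      ← c.add] at h4
    have k : ∀ (a : SP) (v : V), a.act (-v) = -a.act v := by
      intro a v
      funext k
      simp only [SP.act, Pi.neg_apply]
      cases a.e k <;> simp
    rwa [k, ← sub_eq_add_neg] at h4
  have k3 : ∀ (a : SP) (v : V), a.p 3 = 3 → v 3 = 0 → (v - a.act v) 3 = 0 := by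
    intro a v ha hv
    have : a.p⁻¹ 3 = 3 := by rw [Equiv.Perm.inv_eq_iff_eq, ha]
    simp only [SP.act, Pi.sub_apply, this, hv]
    cases a.e 3 <;> simp
  have r1 : (a * sr * a⁻¹).p 3 = 3 := three_mul (three_mul ha rfl) (three_inv ha)
  have r2 : (a * sw * a⁻¹).p 3 = 3 := three_mul (three_mul ha rfl) (three_inv ha)
  have n1 := (nf_UU c hE (k3 _ v r1 hv) r1 (h2 sr (Or.inl rfl))).1
  have n2 := (nf_UU c hE (k3 _ v r2 hv) r2 (h2 sw (Or.inr rfl))).2
  have k4 : ∀ a : SP, a.p 3 = 3 → a * sr * a⁻¹ = sr ∧ (pw (a * sw * a⁻¹) → pw a) := by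
    decide +kernel
  have k5 : ∀ v : V, v 3 = 0 → v - sr.act v = 0 → v = 0 := by decide +kernel
  rw [(k4 a ha).1] at n1
  rw [k5 v hv n1, c.zero, mul_one]
  exact ⟨e, he, a, (k4 a ha).2 n2, rfl⟩

/-- The subgroup of index two. -/
theorem idx2_of (hN : ∀ g, Commute g (μ (sg 3)) → g ∈ normalizer (EE ξ μ i : Set G) →
      ∃ e ∈ EE ξ μ i, ∃ v a, v 3 = 0 ∧ a.p 3 = 3 ∧ g = e * ξ v * μ a)
    (hc : ∀ g e a, e ∈ EE ξ μ i → a.p = 1 → cj g (μ sw) ≠ e * μ a) :
    ∃ H, Idx2 H ⊤ ∧ μ sw ∉ H := by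
  have h1 := (syl_UU c hE hN).not_dvd
  rw [relIndex_top_right] at h1
  have h2 : AA c hE ≤ UU c hE := by
    rintro _ ⟨e, he, a, ha, rfl⟩
    exact ⟨e, he, a, Or.inl ha, rfl⟩
  have h3 := relIndex_mul_index h2
  rw [relIndex_AA] at h3
  obtain ⟨N, hN1, hN2⟩ := thompson_all (A := AA c hE) (by omega)
  refine ⟨N, hN1, hN2 _ (c.msq (ok_true _) (by decide +kernel)) ?_⟩
  rintro g ⟨e, he, a, ha, e1⟩
  exact hc g e a he ha e1

end Cfsg.Agent.H5.O8
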