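import Cfsg.Agent.H1.U6Def

/-!
Fixed points of elements of odd prime order on the twenty dimensional module.
-/

set_option autoImplicit false
set_option maxRecDepth 1000000

namespace Cfsg.Agent.H5.U6

open Cfsg.Agent.H1.U6 Equiv
open Cfsg.Agent.L0.Code (frc frc_eq)

theorem conj_into {X : Type*} [Group X] [Finite X] {p n m : ℕ} [hp : Fact p.Prime]
    (H : Subgroup X) (h1 : Nat.card X = p ^ n * m) (h2 : ¬ p ∣ m) (hH : Nat.card H = p ^ n) {x : X}
    {k : ℕ} (hx : x ^ p ^ k = 1) : ∃ l : X, l * x * l⁻¹ ∈ H := by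
  have m0 : m ≠ 0 := fun e => h2 (e ▸ dvd_zero p)
  have hf : (Nat.card X).factorization p = n := by
    rw [h1, Nat.factorization_mul (pow_ne_zero _ hp.out.ne_zero) m0, Finsupp.add_apply,
      hp.out.factorization_pow, Nat.factorization_eq_zero_of_not_dvd h2]
    simp
  have hz : IsPGroup p (Subgroup.zpowers x) := by
    rintro ⟨_, j, rfl⟩
    exact ⟨k, Subtype.ext (by
      change (x ^ j) ^ p ^ k = 1
      rw [← zpow_natCast, ← zpow_mul, mul_comm, zpow_mul, zpow_natCast, hx, one_zpow])⟩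
  obtain ⟨Q, hQ⟩ := hz.exists_le_sylow
  obtain ⟨l, hl⟩ := MulAction.exists_smul_eq X Q (Sylow.ofCard H (by rw [hH, hf]))
  refine ⟨l, ?_⟩
  have : l * x * l⁻¹ ∈ ((l • Q : Sylow p X) : Subgroup X) := by
    rw [Sylow.coe_subgroup_smul]
    exact Subgroup.smul_mem_pointwise_smul x (MulAut.conj l) _ (hQ (Subgroup.mem_zpowers x))
  rwa [hl] at this

variable {V : Type*} [AddCommGroup V] {ρ : G →* AddMonoid.End V} {b : ℕ → V}

theorem rho_mul (x y : G) (v : V) : ρ (x * y) v = ρ x (ρ y v) := by rw [map_mul]; rfl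

theorem card_le [Finite V] {g x l : G} (h : l * x * l⁻¹ ∈ Subgroup.zpowers g) :
    Nat.card {v // ρ g v = v} ≤ Nat.card {v // ρ x v = v} := by
  obtain ⟨n, hn⟩ := (Submonoid.mem_powers_iff _ _).mp (mem_powers_iff_mem_zpowers.mpr h)
  have k : ∀ v, ρ g v = v → ∀ n : ℕ, ρ (g ^ n) v = v := fun v hv n => by
    induction n with
    | zero => rw [pow_zero, map_one]; rfl
    | succ n ih => rw [pow_succ, rho_mul, hv, ih]
  refine Nat.card_le_card_of_injective (fun v => ⟨ρ l⁻¹ v.1, ?_⟩) fun u v e => Subtype.ext ?_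
  · have := k _ v.2 n
    rw [hn] at this
    rw [← rho_mul, show x * l⁻¹ = l⁻¹ * (l * x * l⁻¹) by group, rho_mul, this]
  · have := congrArg (fun w => ρ l w.1) e
    simpa only [← rho_mul, mul_inv_cancel, map_one, AddMonoid.End.coe_one, id] using this

theorem card_lt [Finite V] (h : Bas b 20) {x : AddMonoid.End V} {M : ℕ} (hM : Rep b 20 x M)
    (hr : Nat.ble 7 (rk 20 (Nat.xor M (idm 20))) = true) : Nat.card {v // x v = v} < 2 ^ 14 := by
  have h1 := card_ker_le h (hM.add h.two rep_one)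
  have h2 : Nat.card (AddMonoidHom.ker ((x + 1 : AddMonoid.End V) : V →+ V)) =
      Nat.card {v // x v = v} := by
    refine Nat.card_congr (Equiv.subtypeEquivRight fun v => ?_)
    change x v + v = 0 ↔ _
    exact ⟨h.two.eq_of_add, fun e => by rw [e, h.two]⟩
  rw [h2] at h1
  have h3 : 2 ^ 7 ≤ 2 ^ rk 20 (M ^^^ idm 20) := Nat.pow_le_pow_right two_pos (Nat.le_of_ble_eq_true hr)
  have := (Nat.mul_le_mul_left _ h3).trans h1
  omega

/-- A word for the central element. -/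
def wz : List ℕ :=
  [0, 1, 2, 1, 4, 5, 5, 1, 2, 3, 4, 5, 5, 1, 0, 2, 1, 3, 2, 5, 5, 1, 2, 3, 4, 5, 5, 1, 2, 3]

theorem rho_zc (h : Mod ρ b) : ρ zc = 1 := by
  rw [← eq_of_rep (rep12 wz) rep_zc (by decide +kernel)]
  exact ((h.evw wz).of_meq (by decide +kernel)).ext h.bas rep_one

theorem evw_pow (l : List ℕ) (n : ℕ) : evw (List.replicate n l).flatten = evw l ^ n := by
  induction n with
  | zero => rfl
  | succ n ih => rw [List.replicate_succ, List.flatten_cons, evw_append, ih, pow_succ']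

theorem big [Finite V] (h : Mod ρ b) {g : G} {p m : ℕ} (hp : p.Prime) (h1 : g ≠ 1) (hg : g ^ p = 1)
    (hc : Nat.card G = p ^ 1 * m) (hm : ¬ p ∣ m) (l : List ℕ)
    (hl : meq 12 (e12 (List.replicate p l).flatten) (e12 []) = true)
    (hr : Nat.ble 7 (rk 20 (Nat.xor (e20 l) (idm 20))) = true) :
    Nat.card {v // ρ g v = v} < 2 ^ 14 := by
  have := Fact.mk hp
  have e := evw_eq hl
  rw [evw_pow] at e
  obtain ⟨k, hk⟩ := conj_into (Subgroup.zpowers g) hc hm
    (by rw [Nat.card_zpowers, orderOf_eq_prime hg h1, pow_one]) (x := evw l) (k := 1)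
    (by rw [pow_one]; exact e)
  exact (card_le hk).trans_lt (card_lt h.bas (h.evw l) hr)

/-- The Sylow 3-subgroup of the permutations. -/
def pc (i : Fin 3 × Fin 3) : Perm (Fin 6) := (sw 0 * sw 1) ^ i.1.1 * (sw 3 * sw 4) ^ i.2.1

theorem pc_mul : ∀ i j, ∃ k, pc i * pc j = pc k := by decide +kernel

theorem pc_inj : ∀ i j, pc i = pc j → i = j := by decide +kernel

theorem dg_congr {a a' : Fin 6 → ZMod 3} (e : a = a') (h : ∑ i, a i = 0) (h' : ∑ i, a' i = 0) :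
    dg a h = dg a' h' := by subst e; rfl

/-- The Sylow 3-subgroup. -/
def S3 : Subgroup G := by
  refine Subgroup.mk ⟨⟨{g | ∃ a h i, g = dg a h * pm (pc i)}, ?_⟩, ?_⟩ ?_
  · rintro _ _ ⟨a, h, i, rfl⟩ ⟨a', h', j, rfl⟩
    obtain ⟨k, hk⟩ := pc_mul i j
    exact ⟨_, _, k, by
      rw [mul_assoc, ← mul_assoc (pm _), pm_dg, mul_assoc, ← map_mul, hk, ← mul_assoc, dg_mul]⟩
  · exact ⟨0, by simp, (0, 0), by rw [dg_zero, one_mul, ← map_one pm]; rfl⟩
  · rintro _ ⟨a, h, i, rfl⟩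
    have k : ∀ i, ∃ j, (pc i)⁻¹ = pc j := by decide +kernel
    obtain ⟨j, hj⟩ := k i
    have e : (dg a h)⁻¹ = dg (-a) (by simp [h]) := by
      rw [inv_eq_iff_mul_eq_one, dg_mul, dg_congr (add_neg_cancel a) _ (by simp), dg_zero]
    exact ⟨_, _, j, by rw [mul_inv_rev, ← map_inv, hj, e, pm_dg]⟩

theorem nf_inj {a a' : Fin 6 → ZMod 3} {h : ∑ i, a i = 0} {h' : ∑ i, a' i = 0} {σ τ : Perm (Fin 6)}
    (e1 : dg a h * pm σ = dg a' h' * pm τ) : a = a' ∧ σ = τ := by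
  have e2 : ∀ k m, w3 (a m) * e6 (σ k) m = w3 (a' m) * e6 (τ k) m := fun k m => by
    have := congrArg (fun g => H1.suAct g (e6 k) m) e1
    simpa only [H1.suAct_mul, act_pm_e, act_dg] using this
  have k1 : ∀ (x y : ZMod 3) (m n : Fin 6), w3 x * e6 m m = w3 y * e6 n m → m = n ∧ x = y := by
    decide +kernel
  refine ⟨funext fun m => ?_, Equiv.ext fun k => (k1 _ _ _ _ (e2 k _)).1⟩
  obtain ⟨k, rfl⟩ := σ.surjective m
  exact (k1 _ _ _ _ (e2 k _)).2

theorem mem_S3 {g : G} : g ∈ S3 ↔ ∃ a h i, g = dg a h * pm (pc i) := Iff.rfl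

theorem card_S3 : Nat.card S3 = 3 ^ 7 := by
  have k : Nat.card {a : Fin 6 → ZMod 3 // ∑ i, a i = 0} = 243 := by
    rw [Nat.card_eq_fintype_card]; decide +kernel
  have k2 : Nat.card (Fin 3 × Fin 3) = 9 := by simp
  have : Nat.card ({a : Fin 6 → ZMod 3 // ∑ i, a i = 0} × (Fin 3 × Fin 3)) = 3 ^ 7 := by
    rw [Nat.card_prod, k, k2]; rfl
  rw [← this]
  refine (Nat.card_congr (Equiv.ofBijective
    (fun x : {a : Fin 6 → ZMod 3 // ∑ i, a i = 0} × (Fin 3 × Fin 3) =>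
      (⟨dg x.1.1 x.1.2 * pm (pc x.2), mem_S3.mpr ⟨x.1.1, x.1.2, x.2, rfl⟩⟩ : S3)) ⟨?_, ?_⟩)).symm
  · intro x y e
    have := nf_inj (Subtype.ext_iff.mp e)
    exact Prod.ext (Subtype.ext this.1) (pc_inj _ _ this.2)
  · intro g
    obtain ⟨a, h, i, e⟩ := mem_S3.mp g.2
    exact ⟨⟨⟨a, h⟩, i⟩, Subtype.ext e.symm⟩

/-- Exponent vectors of the diagonal generators. -/
def dv4 : Fin 4 → Fin 6 → ZMod 3 :=
  ![![1, 2, 0, 0, 0, 0], ![0, 1, 2, 0, 0, 0], ![0, 0, 1, 2, 0, 0], ![0, 0, 0, 1, 2, 0]]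

theorem dv4_sum : ∀ k, ∑ i, dv4 k i = 0 := by decide +kernel

/-- Words for the generators. -/
def wd : Fin 6 → List ℕ :=
  ![[5], [0, 1, 5, 1, 0], [1, 0, 2, 1, 5, 1, 0, 2, 1], [2, 1, 0, 3, 2, 1, 5, 1, 0, 2, 1, 3, 2],
    [0, 1], [3, 4]]

/-- Codes of the diagonal generators. -/
def cd : Fin 4 → ℕ :=
  ![nat_lit 11151733894906779683522195341809966829809666,
    nat_lit 11151733894906779683522176904073642063699969,
    nat_lit 11151733894906778446186637417484954598645761,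
    nat_lit 11151733811870596004414527366454127001346049]

theorem evw_wd (k : Fin 4) : evw (wd k.castSucc.castSucc) = dg (dv4 k) (dv4_sum k) := by
  refine eq_of_rep (M' := cd k) (rep12 _) ?_ (by revert k; decide +kernel)
  simp only [H1.U6.Rep, act_apply, act_dg]
  revert k; decide +kernel

theorem dg_pow (a : Fin 6 → ZMod 3) (h : ∑ i, a i = 0) (n : ℕ) :
    dg a h ^ n = dg (n • a) (by simp [← Finset.mul_sum, h]) := by
  induction n with
  | zero => rw [pow_zero, dg_congr (zero_nsmul a) _ (by simp), dg_zero]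
  | succ n ih => rw [pow_succ, ih, dg_mul]; exact dg_congr (succ_nsmul a n).symm _ _

/-- Small powers of a code. -/
noncomputable def pw (M n : ℕ) : ℕ := Nat.rec (idm 20) (fun _ ih => mul 20 ih M) n

theorem rep_pw (h : Bas b 20) {x : AddMonoid.End V} {M : ℕ} (hM : Rep b 20 x M) (n : ℕ) :
    Rep b 20 (x ^ n) (pw M n) := by
  induction n with
  | zero => rw [pow_zero]; exact rep_one
  | succ n ih => rw [pow_succ]; exact ih.mul h.two hM

/-- The check for the Sylow 3-subgroup. -/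
noncomputable def chk : Bool :=
  frc (e20 (wd 0)) fun D0 => frc (e20 (wd 1)) fun D1 => frc (e20 (wd 2)) fun D2 =>
  frc (e20 (wd 3)) fun D3 => frc (e20 (wd 4)) fun D4 => frc (e20 (wd 5)) fun D5 =>
  allN (fun n0 => allN (fun n1 => frc (mul 20 (pw D0 n0) (pw D1 n1)) fun A1 =>
    allN (fun n2 => frc (mul 20 A1 (pw D2 n2)) fun A2 =>
    allN (fun n3 => frc (mul 20 A2 (pw D3 n3)) fun A3 =>
    allN (fun n4 => frc (mul 20 A3 (pw D4 n4)) fun A4 =>
    allN (fun n5 => Nat.beq (n0 + n1 + n2 + n3 + n4 + n5) 0 ||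
      Nat.ble 7 (rk 20 (Nat.xor (mul 20 A4 (pw D5 n5)) (idm 20)))) 3) 3) 3) 3) 3) 3

theorem chk_true : chk = true := by decide +kernel

theorem three [Finite V] (h : Mod ρ b) {g : G} (hg : g ∈ S3) (h1 : g ∉ ZG) :
    Nat.card {v // ρ g v = v} < 2 ^ 14 := by
  obtain ⟨a, ha, i, rfl⟩ := mem_S3.mp hg
  have k : ∀ a : Fin 6 → ZMod 3, ∑ i, a i = 0 → ∃ m n0 n1 n2 n3 : Fin 3,
      a = m.1 • (fun _ => 1) + n0.1 • dv4 0 + n1.1 • dv4 1 + n2.1 • dv4 2 + n3.1 • dv4 3 := by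
    intro a ha
    have k1 : ∀ x : ZMod 3, ∃ n : Fin 3, (n.1 : ZMod 3) = x := by decide
    obtain ⟨m, hm⟩ := k1 (a 5)
    obtain ⟨n0, h0⟩ := k1 (a 0 - a 5)
    obtain ⟨n1, h1⟩ := k1 (a 0 + a 1 - 2 * a 5)
    obtain ⟨n2, h2⟩ := k1 (a 0 + a 1 + a 2)
    obtain ⟨n3, h3⟩ := k1 (a 0 + a 1 + a 2 + a 3 - a 5)
    refine ⟨m, n0, n1, n2, n3, ?_⟩
    simp only [nsmul_eq_mul, Pi.mul_def, Pi.natCast_apply, hm, h0, h1, h2, h3]
    clear hm h0 h1 h2 h3
    revert a
    decide +kernel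
  obtain ⟨m, n0, n1, n2, n3, e⟩ := k a ha
  have e1 : dg a ha * pm (pc i) = zc ^ m.1 * (evw (wd 0) ^ n0.1 * evw (wd 1) ^ n1.1 *
      evw (wd 2) ^ n2.1 * evw (wd 3) ^ n3.1 * evw (wd 4) ^ i.1.1 * evw (wd 5) ^ i.2.1) := by
    have p4 : evw (wd 4) = pm (sw 0 * sw 1) := by rw [map_mul]; simp [evw, wd]; rfl
    have p5 : evw (wd 5) = pm (sw 3 * sw 4) := by rw [map_mul]; simp [evw, wd]; rfl
    rw [show evw (wd 0) = _ from evw_wd 0, show evw (wd 1) = _ from evw_wd 1,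
      show evw (wd 2) = _ from evw_wd 2, show evw (wd 3) = _ from evw_wd 3, p4, p5, zc, dg_pow,
      dg_pow, dg_pow, dg_pow, dg_pow, pc, map_mul, map_pow, map_pow]
    simp only [← mul_assoc, dg_mul]
    congr 2
    exact dg_congr (by rw [e]; simp only [add_assoc]) _ _
  have c := chk_true
  simp only [chk, frc_eq, allN_iff] at c
  have c1 := c _ n0.2 _ n1.2 _ n2.2 _ n3.2 _ i.1.2 _ i.2.2
  rw [Bool.or_eq_true] at c1
  rcases c1 with c1 | c1
  · have c2 := Nat.eq_of_beq_eq_true c1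
    refine absurd ?_ h1
    rw [e1, show n0.1 = 0 by omega, show n1.1 = 0 by omega, show n2.1 = 0 by omega,
      show n3.1 = 0 by omega, show i.1.1 = 0 by omega, show i.2.1 = 0 by omega]
    simpa using pow_mem zc_mem _
  · refine card_lt h.bas ?_ c1
    have r := fun k n => rep_pw h.bas (h.evw (wd k)) n
    rw [e1, map_mul, map_pow, rho_zc h, one_pow, one_mul]
    simp only [map_mul, map_pow]
    exact (((((r 0 _).mul h.bas.two (r 1 _)).mul h.bas.two (r 2 _)).mul h.bas.two (r 3 _)).mul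
      h.bas.two (r 4 _)).mul h.bas.two (r 5 _)

theorem odd_fix [Finite V] (h : Mod ρ b) {g : G} {p : ℕ} (hp : p.Prime) (h2 : p ≠ 2) (hg : g ∉ ZG)
    (hgp : g ^ p ∈ ZG) : Nat.card {v // ρ g v = v} < 2 ^ 14 := by
  have e3 := center_cube hgp
  by_cases h3 : p = 3
  · subst h3
    have := Fact.mk hp
    obtain ⟨l, hl⟩ := conj_into (m := 2 ^ 15 * 5 * 7 * 11) S3 (by rw [card_G]; norm_num)
      (by norm_num) card_S3 (x := g) (k := 2) (by rw [← e3, ← pow_mul]; rfl)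
    refine (card_le (l := l⁻¹) (x := l * g * l⁻¹) ?_).trans_lt (three h hl fun hz => hg ?_)
    · rw [show l⁻¹ * (l * g * l⁻¹) * l⁻¹⁻¹ = g by group]
      exact Subgroup.mem_zpowers g
    · have := Subgroup.Normal.conj_mem inferInstance _ hz l⁻¹
      rwa [show l⁻¹ * (l * g * l⁻¹) * l⁻¹⁻¹ = g by group] at this
  have e1 : g ^ 3 ≠ 1 := fun e => hg (by
    have hc : Nat.Coprime p 3 := (Nat.coprime_primes hp Nat.prime_three).mpr h3
    have : p % 3 = 1 ∨ p % 3 = 2 := by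
      have : p % 3 ≠ 0 := fun e => h3 ((Nat.prime_dvd_prime_iff_eq Nat.prime_three hp).mp
        (Nat.dvd_of_mod_eq_zero e)).symm
      omega
    rw [← Nat.div_add_mod p 3, pow_add, pow_mul, e, one_pow, one_mul] at hgp
    rcases this with h' | h' <;> rw [h'] at hgp
    · rwa [pow_one] at hgp
    · have := pow_mem hgp 2
      rwa [← pow_mul, show 2 * 2 = 3 + 1 from rfl, pow_succ, e, one_mul] at this)
  have e2 : (g ^ 3) ^ p = 1 := by rw [← pow_mul, mul_comm, pow_mul, e3]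
  refine (card_le (l := 1) (x := g ^ 3) (by simpa using Subgroup.npow_mem_zpowers g 3)).trans_lt ?_
  have := Fact.mk hp
  have hd : p ∣ Nat.card G := orderOf_eq_prime e2 e1 ▸ orderOf_dvd_natCard _
  rw [card_G] at hd
  have hd' : p = 5 ∨ p = 7 ∨ p = 11 := by
    rcases (Nat.Prime.dvd_mul hp).mp hd with hd | hd
    · rcases (Nat.Prime.dvd_mul hp).mp hd with hd | hd
      · rcases (Nat.Prime.dvd_mul hp).mp hd with hd | hd
        · rcases (Nat.Prime.dvd_mul hp).mp hd with hd | hd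
          · exact absurd ((Nat.prime_dvd_prime_iff_eq hp Nat.prime_two).mp (hp.dvd_of_dvd_pow hd)) h2
          · exact absurd ((Nat.prime_dvd_prime_iff_eq hp Nat.prime_three).mp (hp.dvd_of_dvd_pow hd)) h3
        · exact Or.inl ((Nat.prime_dvd_prime_iff_eq hp (by norm_num)).mp hd)
      · exact Or.inr (Or.inl ((Nat.prime_dvd_prime_iff_eq hp (by norm_num)).mp hd))
    · exact Or.inr (Or.inr ((Nat.prime_dvd_prime_iff_eq hp (by norm_num)).mp hd))
  rcases hd' with rfl | rfl | rfl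
  · exact big h hp e1 e2 (m := 2 ^ 15 * 3 ^ 7 * 7 * 11) (by rw [card_G]; norm_num) (by norm_num)
      [4, 5, 7] (by decide +kernel) (by decide +kernel)
  · exact big h hp e1 e2 (m := 2 ^ 15 * 3 ^ 7 * 5 * 11) (by rw [card_G]; norm_num) (by norm_num)
      [2, 3, 4, 5, 7] (by decide +kernel) (by decide +kernel)
  · exact big h hp e1 e2 (m := 2 ^ 15 * 3 ^ 7 * 5 * 7) (by rw [card_G]; norm_num) (by norm_num)
      [1, 2, 4, 5, 6, 7, 5] (by decide +kernel) (by decide +kernel)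

end Cfsg.Agent.H5.U6
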